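import Mathlib
import Cfsg.Prelude.Def_JordanBlocks

set_option autoImplicit false

namespace Cfsg.Agent.Helper22

open Matrix

theorem jo_shift_apply {F : Type*} [Field F] (d : ℕ) (a b : Fin d) :
    (Cfsg.jordanBlock d F - 1) a b = if (a : ℕ) = (b : ℕ) + 1 then 1 else 0 := by
  simp only [Cfsg.jordanBlock, Matrix.sub_apply, Matrix.of_apply, Matrix.one_apply]
  by_cases h : (a : ℕ) = b
  · have h' : a = b := Fin.ext h
    have h2 : ¬ ((a : ℕ) = (b : ℕ) + 1) := by omega
    rw [if_pos h, if_pos h', if_neg h2, sub_self]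
  · have h' : ¬ (a = b) := fun e => h (by rw [e])
    rw [if_neg h, if_neg h', sub_zero]

theorem jo_shift_pow_apply {F : Type*} [Field F] (d k : ℕ) (a b : Fin d) :
    ((Cfsg.jordanBlock d F - 1) ^ k) a b = if (a : ℕ) = (b : ℕ) + k then 1 else 0 := by
  induction k generalizing a b with
  | zero =>
    simp [Matrix.one_apply, Fin.ext_iff]
  | succ k ih =>
    rw [pow_succ, Matrix.mul_apply]
    by_cases hb : (b : ℕ) + 1 < d
    · rw [Finset.sum_eq_single (⟨(b : ℕ) + 1, hb⟩ : Fin d)]
      · have e1 := ih a ⟨(b : ℕ) + 1, hb⟩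
        have e2 := jo_shift_apply (F := F) d ⟨(b : ℕ) + 1, hb⟩ b
        rw [e1, e2]
        by_cases h : (a : ℕ) = (b : ℕ) + 1 + k
        · rw [if_pos h, if_pos rfl, if_pos (by omega), mul_one]
        · have h3 : ¬ ((a : ℕ) = (b : ℕ) + (k + 1)) := by omega
          rw [if_neg h, zero_mul, if_neg h3]
      · intro c _ hc
        have hne : ¬ ((c : ℕ) = (b : ℕ) + 1) := fun e => hc (Fin.ext e)
        rw [jo_shift_apply, if_neg hne, mul_zero]
      · intro h; exact absurd (Finset.mem_univ _) h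
    · rw [Finset.sum_eq_zero, if_neg]
      · have := a.isLt; omega
      · intro c _
        have hne : ¬ ((c : ℕ) = (b : ℕ) + 1) := by have := c.isLt; omega
        rw [jo_shift_apply, if_neg hne, mul_zero]

theorem jo_T1 {F : Type*} [Field F] (d k : ℕ) :
    ((Cfsg.jordanBlock d F - 1) ^ k)ᵀ * (Cfsg.jordanBlock d F - 1) ^ k
      = Matrix.diagonal (fun b : Fin d => if (b : ℕ) + k < d then (1 : F) else 0) := by
  ext b c
  rw [Matrix.mul_apply, Matrix.diagonal_apply]
  simp only [Matrix.transpose_apply, jo_shift_pow_apply]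
  by_cases hb : (b : ℕ) + k < d
  · rw [Finset.sum_eq_single (⟨(b : ℕ) + k, hb⟩ : Fin d)]
    · by_cases hbc : b = c
      · subst hbc
        simp [hb]
      · have hne : ¬ ((b : ℕ) + k = (c : ℕ) + k) := fun e => hbc (Fin.ext (by omega))
        rw [if_neg hne, mul_zero, if_neg hbc]
    · intro a _ ha
      have hne : ¬ ((a : ℕ) = (b : ℕ) + k) := fun e => ha (Fin.ext e)
      rw [if_neg hne, zero_mul]
    · intro h; exact absurd (Finset.mem_univ _) h
  · rw [Finset.sum_eq_zero]
    · by_cases hbc : b = c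
      · rw [if_pos hbc, if_neg hb]
      · rw [if_neg hbc]
    · intro a _
      have hne : ¬ ((a : ℕ) = (b : ℕ) + k) := by have := a.isLt; omega
      rw [if_neg hne, zero_mul]

theorem jo_T2 {F : Type*} [Field F] (d k : ℕ) :
    (Cfsg.jordanBlock d F - 1) ^ k * ((Cfsg.jordanBlock d F - 1) ^ k)ᵀ * (Cfsg.jordanBlock d F - 1) ^ k
      = (Cfsg.jordanBlock d F - 1) ^ k := by
  rw [Matrix.mul_assoc, jo_T1]
  ext a b
  rw [Matrix.mul_diagonal, jo_shift_pow_apply]
  by_cases h : (a : ℕ) = (b : ℕ) + k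
  · rw [if_pos h, if_pos (by have := a.isLt; omega), mul_one]
  · rw [if_neg h, zero_mul]

theorem jo_count (n k : ℕ) : (∑ b : Fin n, if (b : ℕ) + k < n then 1 else 0) = n - k := by
  rw [Fin.sum_univ_eq_sum_range (fun b => if b + k < n then 1 else 0) n, ← Finset.card_filter]
  have : (Finset.range n).filter (fun b => b + k < n) = Finset.range (n - k) := by
    ext b; simp only [Finset.mem_filter, Finset.mem_range]; omega
  rw [this, Finset.card_range]

/-- [P1] of the S2583 sprint: the rank of `(J - 1)^k` for the Jordan type matrix. -/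
theorem jordanType_rank {F : Type*} [Field F] {t : ℕ} (d : Fin t → ℕ) (k : ℕ) :
    ((Cfsg.jordanTypeMatrix d F - 1) ^ k).rank = ∑ i, (d i - k) := by
  classical
  obtain ⟨S, hS⟩ : ∃ S : (i : Fin t) → Matrix (Fin (d i)) (Fin (d i)) F,
      S = fun i => (Cfsg.jordanBlock (d i) F - 1) ^ k := ⟨_, rfl⟩
  have hSi : ∀ i, S i = (Cfsg.jordanBlock (d i) F - 1) ^ k := fun i => by rw [hS]
  have hM : (Cfsg.jordanTypeMatrix d F - 1) ^ k = Matrix.blockDiagonal' S := by
    have e := map_pow (Matrix.blockDiagonal'RingHom (fun i : Fin t => Fin (d i)) F)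
      (fun i => Cfsg.jordanBlock (d i) F - 1) k
    have e2 : Matrix.blockDiagonal'RingHom (fun i : Fin t => Fin (d i)) F
        (fun i => Cfsg.jordanBlock (d i) F - 1) = Cfsg.jordanTypeMatrix d F - 1 := by
      have h3 := map_sub (Matrix.blockDiagonal'RingHom (fun i : Fin t => Fin (d i)) F)
        (fun i => Cfsg.jordanBlock (d i) F) 1
      rw [map_one] at h3
      exact h3
    rw [e2] at e
    rw [hS]
    exact e.symm
  obtain ⟨M, hMdef⟩ : ∃ M, M = Matrix.blockDiagonal' S := ⟨_, rfl⟩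
  rw [hM, ← hMdef]
  have hT1 : Mᵀ * M = Matrix.diagonal (fun ik : (i : Fin t) × Fin (d i) =>
      if (ik.2 : ℕ) + k < d ik.1 then (1 : F) else 0) := by
    have e1 : Mᵀ * M = Matrix.blockDiagonal' (fun i => (S i)ᵀ * S i) := by
      rw [hMdef, Matrix.blockDiagonal'_transpose, ← Matrix.blockDiagonal'_mul]
    have e2 : (fun i => (S i)ᵀ * S i) = fun i => Matrix.diagonal
        (fun b : Fin (d i) => if (b : ℕ) + k < d i then (1 : F) else 0) := by
      funext i; rw [hSi i]; exact jo_T1 (d i) k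
    rw [e1, e2]
    exact Matrix.blockDiagonal'_diagonal
      (fun (i : Fin t) (b : Fin (d i)) => if (b : ℕ) + k < d i then (1 : F) else 0)
  have hT2 : M * Mᵀ * M = M := by
    have e1 : M * Mᵀ * M = Matrix.blockDiagonal' (fun i => S i * (S i)ᵀ * S i) := by
      rw [hMdef, Matrix.blockDiagonal'_transpose, ← Matrix.blockDiagonal'_mul,
        ← Matrix.blockDiagonal'_mul]
    have e2 : (fun i => S i * (S i)ᵀ * S i) = S := by
      funext i; rw [hSi i]; exact jo_T2 (d i) k
    rw [e1, e2, hMdef]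
  have hr : M.rank = (Mᵀ * M).rank := by
    apply le_antisymm
    · calc M.rank = (M * (Mᵀ * M)).rank := by rw [← Matrix.mul_assoc, hT2]
        _ ≤ (Mᵀ * M).rank := Matrix.rank_mul_le_right _ _
    · exact Matrix.rank_mul_le_right _ _
  rw [hr, hT1, Matrix.rank_diagonal, Fintype.card_subtype, Finset.card_filter, Fintype.sum_sigma]
  apply Finset.sum_congr rfl
  intro i _
  rw [← jo_count (d i) k]
  apply Finset.sum_congr rfl
  intro b _
  by_cases h : (b : ℕ) + k < d i
  · simp [h]
  · simp [h]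

end Cfsg.Agent.Helper22
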