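import Mathlib

set_option autoImplicit false
set_option linter.style.haveILetI false
set_option linter.unusedSectionVars false
set_option linter.unusedSimpArgs false
set_option linter.unusedVariables false
set_option linter.unusedTactic false
set_option maxHeartbeats 1000000

open Matrix

namespace Cfsg.Agent.Helper22

section LinIrr

variable {F : Type*} [Field F] [Fintype F]

theorem mat_eq_of_mulVec {A B : Matrix (Fin 4) (Fin 4) F} (h : ∀ v, A *ᵥ v = B *ᵥ v) : A = B := by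
  apply Matrix.toLin'.injective
  apply LinearMap.ext
  intro v
  rw [Matrix.toLin'_apply, Matrix.toLin'_apply]
  exact h v

/-- The kernel of a matrix. -/
def matKer (y : Matrix (Fin 4) (Fin 4) F) : Submodule F (Fin 4 → F) :=
  LinearMap.ker (Matrix.mulVecLin y)

theorem mem_matKer {y : Matrix (Fin 4) (Fin 4) F} {v : Fin 4 → F} :
    v ∈ matKer y ↔ y *ᵥ v = 0 := by
  unfold matKer
  rw [LinearMap.mem_ker, Matrix.mulVecLin_apply]

theorem lin_count {p : ℕ} [Fact p.Prime] {g : Matrix (Fin 4) (Fin 4) F} (hg : g ^ p = 1)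
    (W : Submodule F (Fin 4 → F)) (hW : ∀ w ∈ W, g *ᵥ w ∈ W)
    (hfix : ∀ w ∈ W, g *ᵥ w = w → w = 0) : Nat.card ↥W ≡ 1 [MOD p] := by
  classical
  obtain ⟨f, hf⟩ : ∃ f : Function.End ↥W, ∀ w : ↥W, ((f w : ↥W) : Fin 4 → F) =
      g *ᵥ (w : Fin 4 → F) := ⟨fun w => ⟨g *ᵥ (w : Fin 4 → F), hW _ w.2⟩, fun w => rfl⟩
  have hpow : ∀ n : ℕ, ∀ w : ↥W, (((f ^ n) w : ↥W) : Fin 4 → F) =
      (g ^ n) *ᵥ (w : Fin 4 → F) := by
    intro n
    induction n with
    | zero =>
      intro w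
      rw [pow_zero, pow_zero, Matrix.one_mulVec]
      rfl
    | succ k ih =>
      intro w
      have e : (f ^ (k + 1)) w = (f ^ k) (f w) := by rw [pow_succ]; rfl
      rw [e, ih (f w), hf w, Matrix.mulVec_mulVec, ← pow_succ]
  have hfp : f ^ p ^ 1 = 1 := by
    rw [pow_one]
    exact funext (fun w => Subtype.ext (by rw [hpow, hg, Matrix.one_mulVec]; rfl))
  have h1 := Equiv.Perm.card_fixedPoints_modEq (p := p) (n := 1) hfp
  rw [Fintype.card_eq_nat_card, Fintype.card_eq_nat_card] at h1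
  have key : ∀ w : ↥W, f w = w → w = 0 := by
    intro w hw
    apply Subtype.ext
    have h0 := hfix w w.2 (by rw [← hf w, hw])
    rw [h0]
    rfl
  have h2 : Nat.card ↥(Function.fixedPoints f) = 1 := by
    rw [Nat.card_eq_one_iff_unique]
    constructor
    · constructor
      rintro ⟨a, ha⟩ ⟨b, hb⟩
      apply Subtype.ext
      show a = b
      rw [key a ha, key b hb]
    · refine ⟨⟨0, ?_⟩⟩
      show f 0 = 0
      apply Subtype.ext
      rw [hf]
      show g *ᵥ (0 : Fin 4 → F) = 0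
      rw [Matrix.mulVec_zero]
  rw [h2] at h1
  exact h1

theorem lin_dim {p : ℕ} [Fact p.Prime] {g : Matrix (Fin 4) (Fin 4) F} (hg : g ^ p = 1)
    (hp : ∀ d, 1 ≤ d → d ≤ 3 → ¬ (Fintype.card F ^ d ≡ 1 [MOD p]))
    (W : Submodule F (Fin 4 → F)) (hW : ∀ w ∈ W, g *ᵥ w ∈ W)
    (hfix : ∀ w ∈ W, g *ᵥ w = w → w = 0) : W = ⊥ ∨ W = ⊤ := by
  classical
  have h1 := lin_count hg W hW hfix
  have hcard : Nat.card ↥W = Fintype.card F ^ Module.finrank F ↥W :=
    Nat.card_eq_fintype_card.trans Module.card_eq_pow_finrank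
  rw [hcard] at h1
  have hle : Module.finrank F ↥W ≤ 4 := by
    have h := Submodule.finrank_le W
    rwa [Module.finrank_fin_fun] at h
  by_cases h0 : Module.finrank F ↥W = 0
  · left
    exact Submodule.finrank_eq_zero.mp h0
  · by_cases h4 : Module.finrank F ↥W = 4
    · right
      apply Submodule.eq_top_of_finrank_eq
      rw [h4, Module.finrank_fin_fun]
    · exfalso
      exact hp _ (by omega) (by omega) h1

theorem lin_no_fix {p : ℕ} [Fact p.Prime] {g : Matrix (Fin 4) (Fin 4) F} (hg : g ^ p = 1)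
    (hg1 : g ≠ 1) (hpF : (p : F) ≠ 0)
    (hp : ∀ d, 1 ≤ d → d ≤ 3 → ¬ (Fintype.card F ^ d ≡ 1 [MOD p]))
    (w : Fin 4 → F) (hw : g *ᵥ w = w) : w = 0 := by
  obtain ⟨N, hN⟩ : ∃ N : Matrix (Fin 4) (Fin 4) F, N = ∑ i ∈ Finset.range p, g ^ i := ⟨_, rfl⟩
  have hN1 : N * (g - 1) = 0 := by rw [hN, geom_sum_mul, hg, sub_self]
  have hNg : N * g = g * N := by
    rw [hN, Finset.sum_mul, Finset.mul_sum]
    exact Finset.sum_congr rfl (fun i _ => by rw [← pow_succ, ← pow_succ'])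
  have hNfix : ∀ v : Fin 4 → F, g *ᵥ v = v → N *ᵥ v = (p : F) • v := by
    intro v hv
    have hpowv : ∀ i : ℕ, (g ^ i) *ᵥ v = v := by
      intro i
      induction i with
      | zero => rw [pow_zero, Matrix.one_mulVec]
      | succ k ih => rw [pow_succ, ← Matrix.mulVec_mulVec, hv, ih]
    have hsum : ∀ n : ℕ, (∑ i ∈ Finset.range n, g ^ i) *ᵥ v = (n : F) • v := by
      intro n
      induction n with
      | zero => rw [Finset.sum_range_zero, Matrix.zero_mulVec, Nat.cast_zero, zero_smul]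
      | succ k ih =>
        rw [Finset.sum_range_succ, Matrix.add_mulVec, ih, hpowv, Nat.cast_succ, add_smul,
          one_smul]
    rw [hN]
    exact hsum p
  have hinv : ∀ v ∈ matKer N, g *ᵥ v ∈ matKer N := by
    intro v hv
    rw [mem_matKer] at hv ⊢
    rw [Matrix.mulVec_mulVec, hNg, ← Matrix.mulVec_mulVec, hv, Matrix.mulVec_zero]
  have hnf : ∀ v ∈ matKer N, g *ᵥ v = v → v = 0 := by
    intro v hv hgv
    rw [mem_matKer, hNfix v hgv] at hv
    rcases smul_eq_zero.mp hv with h | h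
    · exact absurd h hpF
    · exact h
  rcases lin_dim hg hp (matKer N) hinv hnf with hbot | htop
  · exfalso
    apply hg1
    apply mat_eq_of_mulVec
    intro v
    have hv : (g - 1) *ᵥ v ∈ matKer N := by
      rw [mem_matKer, Matrix.mulVec_mulVec, hN1, Matrix.zero_mulVec]
    rw [hbot, Submodule.mem_bot, Matrix.sub_mulVec, sub_eq_zero] at hv
    exact hv
  · have hw' : w ∈ matKer N := by
      rw [htop]
      exact Submodule.mem_top
    rw [mem_matKer, hNfix w hw] at hw'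
    rcases smul_eq_zero.mp hw' with h | h
    · exact absurd h hpF
    · exact h

theorem lin_irr {p : ℕ} [Fact p.Prime] {g : Matrix (Fin 4) (Fin 4) F} (hg : g ^ p = 1)
    (hg1 : g ≠ 1) (hpF : (p : F) ≠ 0)
    (hp : ∀ d, 1 ≤ d → d ≤ 3 → ¬ (Fintype.card F ^ d ≡ 1 [MOD p]))
    (W : Submodule F (Fin 4 → F)) (hW : ∀ w ∈ W, g *ᵥ w ∈ W) : W = ⊥ ∨ W = ⊤ :=
  lin_dim hg hp W hW (fun w _ hw => lin_no_fix hg hg1 hpF hp w hw)

theorem lin_unit {p : ℕ} [Fact p.Prime] {g : Matrix (Fin 4) (Fin 4) F} (hg : g ^ p = 1)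
    (hg1 : g ≠ 1) (hpF : (p : F) ≠ 0)
    (hp : ∀ d, 1 ≤ d → d ≤ 3 → ¬ (Fintype.card F ^ d ≡ 1 [MOD p]))
    {y : Matrix (Fin 4) (Fin 4) F} (hy : y * g = g * y) (hy0 : y ≠ 0) : IsUnit y := by
  have hinv : ∀ v ∈ matKer y, g *ᵥ v ∈ matKer y := by
    intro v hv
    rw [mem_matKer] at hv ⊢
    rw [Matrix.mulVec_mulVec, hy, ← Matrix.mulVec_mulVec, hv, Matrix.mulVec_zero]
  rcases lin_irr hg hg1 hpF hp (matKer y) hinv with hbot | htop
  · rw [← Matrix.mulVec_injective_iff_isUnit]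
    intro u v huv
    have huv' : y *ᵥ u = y *ᵥ v := huv
    have hmem : u - v ∈ matKer y := by
      rw [mem_matKer, Matrix.mulVec_sub, sub_eq_zero]
      exact huv'
    rw [hbot, Submodule.mem_bot, sub_eq_zero] at hmem
    exact hmem
  · exfalso
    apply hy0
    apply mat_eq_of_mulVec
    intro v
    have hmem : v ∈ matKer y := by
      rw [htop]
      exact Submodule.mem_top
    rw [mem_matKer] at hmem
    rw [hmem, Matrix.zero_mulVec]

theorem lin_field {p : ℕ} [Fact p.Prime] {g : Matrix (Fin 4) (Fin 4) F} (hg : g ^ p = 1)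
    (hg1 : g ≠ 1) (hpF : (p : F) ≠ 0)
    (hp : ∀ d, 1 ≤ d → d ≤ 3 → ¬ (Fintype.card F ^ d ≡ 1 [MOD p])) :
    IsField ↥(Subring.centralizer ({g} : Set (Matrix (Fin 4) (Fin 4) F))) := by
  classical
  haveI : NoZeroDivisors ↥(Subring.centralizer ({g} : Set (Matrix (Fin 4) (Fin 4) F))) := by
    constructor
    intro a b hab
    by_cases ha : a = 0
    · exact Or.inl ha
    · right
      have ha' : (a : Matrix (Fin 4) (Fin 4) F) ≠ 0 := fun h => ha (Subtype.ext h)
      have hcomm : (a : Matrix (Fin 4) (Fin 4) F) * g = g * a :=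
        ((Subring.mem_centralizer_iff.mp a.2) g (Set.mem_singleton g)).symm
      have hu := lin_unit hg hg1 hpF hp hcomm ha'
      have hab' : (a : Matrix (Fin 4) (Fin 4) F) * (b : Matrix (Fin 4) (Fin 4) F) = 0 :=
        congrArg Subtype.val hab
      apply Subtype.ext
      exact (hu.mul_right_eq_zero).mp hab'
  haveI : IsDomain ↥(Subring.centralizer ({g} : Set (Matrix (Fin 4) (Fin 4) F))) :=
    NoZeroDivisors.to_isDomain _
  exact Finite.isDomain_to_isField _

theorem lin_comm {p : ℕ} [Fact p.Prime] {g : Matrix (Fin 4) (Fin 4) F} (hg : g ^ p = 1)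
    (hg1 : g ≠ 1) (hpF : (p : F) ≠ 0)
    (hp : ∀ d, 1 ≤ d → d ≤ 3 → ¬ (Fintype.card F ^ d ≡ 1 [MOD p]))
    {y z : Matrix (Fin 4) (Fin 4) F} (hy : y * g = g * y) (hz : z * g = g * z) :
    y * z = z * y := by
  have hfield := lin_field hg hg1 hpF hp
  have hy' : y ∈ Subring.centralizer ({g} : Set (Matrix (Fin 4) (Fin 4) F)) := by
    rw [Subring.mem_centralizer_iff]
    intro x hx
    rw [Set.mem_singleton_iff.mp hx]
    exact hy.symm
  have hz' : z ∈ Subring.centralizer ({g} : Set (Matrix (Fin 4) (Fin 4) F)) := by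
    rw [Subring.mem_centralizer_iff]
    intro x hx
    rw [Set.mem_singleton_iff.mp hx]
    exact hz.symm
  have h := hfield.mul_comm ⟨y, hy'⟩ ⟨z, hz'⟩
  exact congrArg Subtype.val h

theorem lin_cyclic {p : ℕ} [Fact p.Prime] {g : Matrix (Fin 4) (Fin 4) F} (hg : g ^ p = 1)
    (hg1 : g ≠ 1) (hpF : (p : F) ≠ 0)
    (hp : ∀ d, 1 ≤ d → d ≤ 3 → ¬ (Fintype.card F ^ d ≡ 1 [MOD p]))
    {H : Type*} [Group H] [Finite H] (φ : H →* Matrix (Fin 4) (Fin 4) F)
    (hφ : Function.Injective φ) (hc : ∀ h, φ h * g = g * φ h) : IsCyclic H := by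
  have hfield := lin_field hg hg1 hpF hp
  let ψ : H →* ↥(Subring.centralizer ({g} : Set (Matrix (Fin 4) (Fin 4) F))) :=
    { toFun := fun h => ⟨φ h, by
        rw [Subring.mem_centralizer_iff]
        intro x hx
        rw [Set.mem_singleton_iff.mp hx]
        exact (hc h).symm⟩
      map_one' := Subtype.ext (map_one φ)
      map_mul' := fun a b => Subtype.ext (map_mul φ a b) }
  have hψ : Function.Injective ψ := by
    intro a b hab
    exact hφ (congrArg Subtype.val hab)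
  letI := hfield.toField
  exact isCyclic_of_injective_ringHom ψ hψ

theorem sz_ord4 {p q : ℕ} [Fact p.Prime] (hp2 : p ≠ 2) (hdvd : p ∣ q ^ 2 + 1) :
    ∀ d, 1 ≤ d → d ≤ 3 → ¬ (q ^ d ≡ 1 [MOD p]) := by
  intro d hd1 hd3 hmod
  have hz : ((q : ZMod p)) ^ 2 + 1 = 0 := by
    have h := (ZMod.natCast_eq_zero_iff (q ^ 2 + 1) p).mpr hdvd
    push_cast at h
    exact h
  have hd : (q : ZMod p) ^ d = 1 := by
    have h := (ZMod.natCast_eq_natCast_iff (q ^ d) 1 p).mpr hmod
    push_cast at h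
    exact h
  have h2 : (2 : ZMod p) = 0 := by
    interval_cases d
    · linear_combination hz - ((q : ZMod p) + 1) * hd
    · linear_combination hz - hd
    · linear_combination (1 - (q : ZMod p) * ((q : ZMod p) - 1)) * hz + ((q : ZMod p) - 1) * hd
  have h2' : ((2 : ℕ) : ZMod p) = 0 := by exact_mod_cast h2
  rw [ZMod.natCast_eq_zero_iff] at h2'
  exact hp2 ((Nat.prime_dvd_prime_iff_eq (Fact.out : p.Prime) Nat.prime_two).mp h2')

end LinIrr

end Cfsg.Agent.Helper22
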