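import Mathlib
import Cfsg.Prelude.Def_Transfer
import Cfsg.Agent.S1473
import Cfsg.Agent.Helper21.Primary

set_option autoImplicit false
set_option linter.style.haveILetI false

open Cfsg
open scoped Pointwise

namespace Cfsg.Agent.Helper22

variable {G : Type*} [Group G]

abbrev IsNMC (𝓐 : Finset (Subgroup G)) : Prop :=
  ((∀ A ∈ 𝓐, A ≠ ⊤) ∧ (∀ g : G, ∃ A ∈ 𝓐, g ∈ A)) ∧
    (∀ 𝓑 : Finset (Subgroup G), (∀ A ∈ 𝓑, A ≠ ⊤) ∧ (∀ g : G, ∃ A ∈ 𝓑, g ∈ A) → 𝓐.card ≤ 𝓑.card) ∧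
    (∀ A ∈ 𝓐, Group.IsNilpotent ↥A)

def NmcGood (p : ℕ) (Q : Subgroup G) : Prop :=
  (∃ x : ↥Q, x ≠ 1 ∧ ∀ u : ↥Q, u ∈ Subgroup.zpowers x) ∨ (∃ w : ↥Q, w ^ p ≠ 1)

theorem nmc_good_equiv {p : ℕ} {Q Q' : Subgroup G} (e : ↥Q ≃* ↥Q') (h : NmcGood p Q) :
    NmcGood p Q' := by
  rcases h with ⟨x, hx1, hx⟩ | ⟨w, hw⟩
  · left
    refine ⟨e x, ?_, ?_⟩
    · intro h1
      apply hx1
      apply e.injective
      rw [h1, map_one]
    · intro u
      obtain ⟨k, hk⟩ := Subgroup.mem_zpowers_iff.mp (hx (e.symm u))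
      refine Subgroup.mem_zpowers_iff.mpr ⟨k, ?_⟩
      rw [← map_zpow, hk, MulEquiv.apply_symm_apply]
  · right
    refine ⟨e w, ?_⟩
    intro h1
    apply hw
    apply e.injective
    rw [map_pow, h1, map_one]

theorem nmc_ab_equiv {Q Q' : Subgroup G} (e : ↥Q ≃* ↥Q') (h : ∀ a b : ↥Q, a * b = b * a) :
    ∀ a b : ↥Q', a * b = b * a := by
  intro a b
  apply e.symm.injective
  rw [map_mul, map_mul]
  exact h _ _

theorem nmc_no_two_in {𝓐 : Finset (Subgroup G)} (h : IsNMC 𝓐) {A B C : Subgroup G}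
    (hA : A ∈ 𝓐) (hB : B ∈ 𝓐) (hAB : A ≠ B) (hC : C ≠ ⊤) (hAC : A ≤ C) (hBC : B ≤ C) : False := by
  classical
  obtain ⟨⟨hprop, hcov⟩, hmin, -⟩ := h
  have hp' : ∀ D ∈ insert C ((𝓐.erase A).erase B), D ≠ ⊤ := by
    intro D hD
    rcases Finset.mem_insert.mp hD with rfl | hD
    · exact hC
    · exact hprop D (Finset.mem_of_mem_erase (Finset.mem_of_mem_erase hD))
  have hc' : ∀ g : G, ∃ D ∈ insert C ((𝓐.erase A).erase B), g ∈ D := by
    intro g
    obtain ⟨D, hD, hgD⟩ := hcov g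
    by_cases hDA : D = A
    · refine ⟨C, Finset.mem_insert_self _ _, hAC ?_⟩
      rw [← hDA]; exact hgD
    · by_cases hDB : D = B
      · refine ⟨C, Finset.mem_insert_self _ _, hBC ?_⟩
        rw [← hDB]; exact hgD
      · exact ⟨D, Finset.mem_insert_of_mem
          (Finset.mem_erase.mpr ⟨hDB, Finset.mem_erase.mpr ⟨hDA, hD⟩⟩), hgD⟩
  have h1 := hmin _ ⟨hp', hc'⟩
  have h2 : (insert C ((𝓐.erase A).erase B)).card ≤ ((𝓐.erase A).erase B).card + 1 :=
    Finset.card_insert_le _ _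
  have hB' : B ∈ 𝓐.erase A := Finset.mem_erase.mpr ⟨fun e => hAB e.symm, hB⟩
  have h3 : ((𝓐.erase A).erase B).card = (𝓐.erase A).card - 1 := Finset.card_erase_of_mem hB'
  have h4 : (𝓐.erase A).card = 𝓐.card - 1 := Finset.card_erase_of_mem hA
  have h5 : 0 < (𝓐.erase A).card := Finset.card_pos.mpr ⟨B, hB'⟩
  omega

theorem nmc_order_of_mem [Finite G] {p : ℕ} [Fact p.Prime] (Q : Sylow p G) {u : G}
    (hu : u ∈ (Q : Subgroup G)) : ∃ k, orderOf u = p ^ k := by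
  obtain ⟨k, hk⟩ := (IsPGroup.iff_orderOf.mp Q.2) ⟨u, hu⟩
  exact ⟨k, (Subgroup.orderOf_mk u hu).symm.trans hk⟩

theorem nmc_cent_ne_top (hZ : Subgroup.center G = ⊥) {x : G} (hx : x ≠ 1) :
    Subgroup.centralizer ({x} : Set G) ≠ ⊤ := by
  intro h
  apply hx
  have h1 : x ∈ Subgroup.center G := by
    rw [Subgroup.mem_center_iff]
    intro g
    have hg : g ∈ Subgroup.centralizer ({x} : Set G) := by rw [h]; exact Subgroup.mem_top g
    exact (Subgroup.mem_centralizer_iff.mp hg x rfl).symm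
  rw [hZ] at h1
  exact Subgroup.mem_bot.mp h1

theorem nmc_mem_of_normalizer [Finite G] {p : ℕ} [Fact p.Prime] (Q : Sylow p G) {d : G}
    (hd : d ∈ Subgroup.normalizer ((Q : Subgroup G) : Set G)) {k : ℕ} (hk : orderOf d = p ^ k) :
    d ∈ (Q : Subgroup G) := by
  have hz : IsPGroup p ↥(Subgroup.zpowers d) :=
    IsPGroup.of_card (n := k) (by rw [Nat.card_zpowers, hk])
  have h1 : IsPGroup p ↥(Subgroup.zpowers d ⊔ (Q : Subgroup G)) :=
    IsPGroup.to_sup_of_normal_right' hz Q.2 (Subgroup.zpowers_le.mpr hd)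
  have h2 : Subgroup.zpowers d ⊔ (Q : Subgroup G) = Q := Q.3 h1 le_sup_right
  exact h2.le (Subgroup.mem_sup_left (Subgroup.mem_zpowers d))

theorem nmc_p_elts_comm [Finite G] {p : ℕ} [Fact p.Prime] (P : Sylow p G)
    (hab : ∀ a b : ↥(P : Subgroup G), a * b = b * a) (A : Subgroup G) [Group.IsNilpotent ↥A]
    {a b : G} (ha : a ∈ A) (hb : b ∈ A) {i j : ℕ} (hoa : orderOf a = p ^ i)
    (hob : orderOf b = p ^ j) : a * b = b * a := by
  obtain ⟨S⟩ : Nonempty (Sylow p ↥A) := inferInstance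
  have hnilA : Group.IsNilpotent ↥A := inferInstance
  have hpF : Fact p.Prime := inferInstance
  have htf := (Group.isNilpotent_of_finite_tfae (G := ↥A)).out 0 3
  have hSn : (S : Subgroup ↥A).Normal := htf.mp hnilA p hpF S
  have hsub : Subsingleton (Sylow p ↥A) :=
    @Unique.instSubsingleton _ (Sylow.unique_of_normal S hSn)
  have hmemS : ∀ x : ↥A, (∃ k, orderOf x = p ^ k) → x ∈ (S : Subgroup ↥A) := by
    intro x ⟨k, hk⟩
    have hz : IsPGroup p ↥(Subgroup.zpowers x) :=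
      IsPGroup.of_card (n := k) (by rw [Nat.card_zpowers, hk])
    obtain ⟨S', hS'⟩ := hz.exists_le_sylow
    have hSS : S' = S := Subsingleton.elim _ _
    rw [← hSS]
    exact hS' (Subgroup.mem_zpowers x)
  have hmap : IsPGroup p ↥((S : Subgroup ↥A).map A.subtype) := S.2.map A.subtype
  obtain ⟨Q, hQ⟩ := hmap.exists_le_sylow
  have haQ : a ∈ (Q : Subgroup G) := by
    apply hQ
    exact ⟨⟨a, ha⟩, hmemS ⟨a, ha⟩ ⟨i, (Subgroup.orderOf_mk a ha).trans hoa⟩, rfl⟩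
  have hbQ : b ∈ (Q : Subgroup G) := by
    apply hQ
    exact ⟨⟨b, hb⟩, hmemS ⟨b, hb⟩ ⟨j, (Subgroup.orderOf_mk b hb).trans hob⟩, rfl⟩
  have e : ↥(P : Subgroup G) ≃* ↥(Q : Subgroup G) := Sylow.equiv P Q
  have habQ := nmc_ab_equiv e hab
  exact congrArg Subtype.val (habQ ⟨a, haQ⟩ ⟨b, hbQ⟩)

theorem nmc_nil_le_cent [Finite G] {p : ℕ} [Fact p.Prime] (P : Sylow p G)
    (hab : ∀ a b : ↥(P : Subgroup G), a * b = b * a) (A : Subgroup G) [Group.IsNilpotent ↥A]
    {x : G} (hx : x ∈ A) {i : ℕ} (hox : orderOf x = p ^ i) {a : G} (ha : a ∈ A) :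
    x * a = a * x := by
  obtain ⟨e, m, hcop, h1, h2⟩ := Helper21.exists_pparts p a
  have hc1 : a ^ p ^ e ∈ Subgroup.centralizer ({x} : Set G) := by
    rw [Subgroup.mem_centralizer_iff]
    intro y hy
    rw [Set.mem_singleton_iff] at hy
    rw [hy]
    have ho1 : orderOf (⟨x, hx⟩ : ↥A) = p ^ i := (Subgroup.orderOf_mk x hx).trans hox
    have ho2 : orderOf ((⟨a, ha⟩ : ↥A) ^ p ^ e) = m := by
      rw [← Subgroup.orderOf_coe, Subgroup.coe_pow]
      exact h1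
    have hcopr : (orderOf (⟨x, hx⟩ : ↥A)).Coprime (orderOf ((⟨a, ha⟩ : ↥A) ^ p ^ e)) := by
      rw [ho1, ho2]
      exact Nat.Coprime.pow_left i hcop.symm
    have h3 := S1473.comm_of_coprime (⟨x, hx⟩ : ↥A) ((⟨a, ha⟩ : ↥A) ^ p ^ e) hcopr
    have h4 : ((⟨x, hx⟩ * ⟨a, ha⟩ ^ p ^ e : ↥A) : G) = ((⟨a, ha⟩ ^ p ^ e * ⟨x, hx⟩ : ↥A) : G) :=
      congrArg Subtype.val h3
    exact h4
  have hc2 : a ^ m ∈ Subgroup.centralizer ({x} : Set G) := by
    rw [Subgroup.mem_centralizer_iff]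
    intro y hy
    rw [Set.mem_singleton_iff] at hy
    rw [hy]
    exact nmc_p_elts_comm P hab A hx (A.pow_mem ha m) hox h2
  have h5 : a ∈ Subgroup.centralizer ({x} : Set G) :=
    Helper21.mem_of_pow_mem_of_coprime (Nat.Coprime.pow_left e hcop.symm) hc1 hc2
  exact Subgroup.mem_centralizer_iff.mp h5 x rfl

theorem nmc_mem_zpowers_mul {u y : G} (hc : u * y = y * u)
    (hcop : (orderOf u).Coprime (orderOf y)) : u ∈ Subgroup.zpowers (u * y) := by
  have h1 : (u * y) ^ orderOf y = u ^ orderOf y := by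
    rw [(show Commute u y from hc).mul_pow, pow_orderOf_eq_one, mul_one]
  have h2 : u ^ orderOf y ∈ Subgroup.zpowers (u * y) := by
    rw [← h1]; exact Subgroup.pow_mem _ (Subgroup.mem_zpowers _) _
  have h3 : u ^ orderOf u ∈ Subgroup.zpowers (u * y) := by
    rw [pow_orderOf_eq_one]; exact Subgroup.one_mem _
  exact Helper21.mem_of_pow_mem_of_coprime hcop h3 h2

theorem nmc_unique [Finite G] (hZ : Subgroup.center G = ⊥) {𝓐 : Finset (Subgroup G)}
    (h : IsNMC 𝓐) {p : ℕ} [Fact p.Prime] (Q : Sylow p G)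
    (hab : ∀ a b : ↥(Q : Subgroup G), a * b = b * a)
    {u : G} (hu : u ∈ (Q : Subgroup G)) (hu1 : u ≠ 1) {A B : Subgroup G} (hA : A ∈ 𝓐)
    (hB : B ∈ 𝓐) (huA : u ∈ A) (huB : u ∈ B) : A = B := by
  by_contra hne
  obtain ⟨k, hk⟩ := nmc_order_of_mem Q hu
  have hAn : Group.IsNilpotent ↥A := h.2.2 A hA
  have hBn : Group.IsNilpotent ↥B := h.2.2 B hB
  refine nmc_no_two_in h hA hB hne (nmc_cent_ne_top hZ hu1) ?_ ?_
  · intro a ha
    rw [Subgroup.mem_centralizer_iff]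
    intro y hy
    rw [Set.mem_singleton_iff] at hy
    rw [hy]
    exact nmc_nil_le_cent Q hab A huA hk ha
  · intro b hb
    rw [Subgroup.mem_centralizer_iff]
    intro y hy
    rw [Set.mem_singleton_iff] at hy
    rw [hy]
    exact nmc_nil_le_cent Q hab B huB hk hb

theorem nmc_pprime_mem [Finite G] (hZ : Subgroup.center G = ⊥) {𝓐 : Finset (Subgroup G)}
    (h : IsNMC 𝓐) {p : ℕ} [Fact p.Prime] (Q : Sylow p G)
    (hab : ∀ a b : ↥(Q : Subgroup G), a * b = b * a)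
    {u : G} (hu : u ∈ (Q : Subgroup G)) (hu1 : u ≠ 1) {A : Subgroup G} (hA : A ∈ 𝓐)
    (huA : u ∈ A) {y : G} (hy : u * y = y * u) (hcop : (orderOf y).Coprime p) : y ∈ A := by
  obtain ⟨k, hk⟩ := nmc_order_of_mem Q hu
  obtain ⟨B, hB, hB'⟩ := h.1.2 (u * y)
  have hcop' : (orderOf u).Coprime (orderOf y) := by
    rw [hk]; exact Nat.Coprime.pow_left k hcop.symm
  have huB : u ∈ B := (Subgroup.zpowers_le.mpr hB') (nmc_mem_zpowers_mul hy hcop')
  have hAB : A = B := nmc_unique hZ h Q hab hu hu1 hA hB huA huB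
  rw [hAB]
  have h1 : u⁻¹ * (u * y) ∈ B := B.mul_mem (B.inv_mem huB) hB'
  rw [inv_mul_cancel_left] at h1
  exact h1

theorem nmc_key [Finite G] (hZ : Subgroup.center G = ⊥) {𝓐 : Finset (Subgroup G)} (h : IsNMC 𝓐)
    {p : ℕ} [Fact p.Prime] (Q : Sylow p G) (hab : ∀ a b : ↥(Q : Subgroup G), a * b = b * a)
    (hgood : NmcGood p (Q : Subgroup G)) :
    Subgroup.centralizer ((Q : Subgroup G) : Set G) ∈ 𝓐 ∧
      ∀ u ∈ (Q : Subgroup G), u ≠ 1 → ∀ A ∈ 𝓐, u ∈ A →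
        A = Subgroup.centralizer ((Q : Subgroup G) : Set G) := by
  have hp : p.Prime := Fact.out
  have hcov : ∀ g : G, ∃ A ∈ 𝓐, g ∈ A := h.1.2
  have hex : ∃ x ∈ (Q : Subgroup G), x ≠ 1 ∧ ∃ A0 ∈ 𝓐, (Q : Subgroup G) ≤ A0 := by
    rcases hgood with ⟨x, hx1, hgen⟩ | ⟨w, hw⟩
    · obtain ⟨A0, hA0, hxA0⟩ := hcov (x : G)
      refine ⟨(x : G), x.2, fun h1 => hx1 (Subtype.ext h1), A0, hA0, ?_⟩
      intro u hu
      obtain ⟨k, hk⟩ := Subgroup.mem_zpowers_iff.mp (hgen ⟨u, hu⟩)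
      have h2 : ((x ^ k : ↥(Q : Subgroup G)) : G) = u := congrArg Subtype.val hk
      rw [Subgroup.coe_zpow] at h2
      rw [← h2]
      exact A0.zpow_mem hxA0 k
    · have hwQ : (w : G) ∈ (Q : Subgroup G) := w.2
      have hwp : (w : G) ^ p ≠ 1 := by
        intro h1
        apply hw
        apply Subtype.ext
        rw [Subgroup.coe_pow]
        exact h1
      obtain ⟨k, hk⟩ := nmc_order_of_mem Q hwQ
      have hk1 : k ≠ 0 := by
        rintro rfl
        rw [pow_zero, orderOf_eq_one_iff] at hk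
        apply hwp
        rw [hk, one_pow]
      obtain ⟨x1, hx1⟩ : ∃ x1 : G, x1 = (w : G) ^ p ^ (k - 1) := ⟨_, rfl⟩
      have hx1Q : x1 ∈ (Q : Subgroup G) := by rw [hx1]; exact Subgroup.pow_mem _ hwQ _
      have hx1p : x1 ^ p = 1 := by
        have e1 : p ^ (k - 1) * p = orderOf (w : G) := by
          rw [hk, ← pow_succ, Nat.sub_add_cancel (Nat.pos_of_ne_zero hk1)]
        rw [hx1, ← pow_mul, e1, pow_orderOf_eq_one]
      have hx1ne : x1 ≠ 1 := by
        intro h1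
        rw [hx1] at h1
        have h2 := orderOf_dvd_of_pow_eq_one h1
        rw [hk] at h2
        have h3 := (Nat.pow_dvd_pow_iff_le_right hp.one_lt).mp h2
        omega
      obtain ⟨A1, hA1, hx1A1⟩ := hcov x1
      have claimA : ∀ v ∈ (Q : Subgroup G), v ^ p ≠ 1 → ∀ u ∈ (Q : Subgroup G), u ^ p = 1 →
          ∀ B ∈ 𝓐, v ∈ B → u ∈ B := by
        intro v hv hvp u hu hup B hB hvB
        obtain ⟨B', hB', hvuB'⟩ := hcov (v * u)
        have hcomm : v * u = u * v := congrArg Subtype.val (hab ⟨v, hv⟩ ⟨u, hu⟩)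
        have e1 : (v * u) ^ p = v ^ p := by
          rw [(show Commute v u from hcomm).mul_pow, hup, mul_one]
        have hzB' : v ^ p ∈ B' := by rw [← e1]; exact B'.pow_mem hvuB' p
        have hzB : v ^ p ∈ B := B.pow_mem hvB p
        have hBB' : B = B' :=
          nmc_unique hZ h Q hab (Subgroup.pow_mem _ hv p) hvp hB hB' hzB hzB'
        have hvB' : v ∈ B' := by rw [← hBB']; exact hvB
        have hu' : v⁻¹ * (v * u) ∈ B' := B'.mul_mem (B'.inv_mem hvB') hvuB'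
        rw [inv_mul_cancel_left] at hu'
        rw [hBB']
        exact hu'
      have claimB : ∀ v ∈ (Q : Subgroup G), v ^ p ≠ 1 → v ∈ A1 := by
        intro v hv hvp
        obtain ⟨B, hB, hvB⟩ := hcov v
        have hx1B : x1 ∈ B := claimA v hv hvp x1 hx1Q hx1p B hB hvB
        have hBA : B = A1 := nmc_unique hZ h Q hab hx1Q hx1ne hB hA1 hx1B hx1A1
        rw [← hBA]; exact hvB
      refine ⟨x1, hx1Q, hx1ne, A1, hA1, ?_⟩
      intro u hu
      by_cases hup : u ^ p = 1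
      · exact claimA (w : G) hwQ hwp u hu hup A1 hA1 (claimB _ hwQ hwp)
      · exact claimB u hu hup
  obtain ⟨x, hxQ, hx1, A0, hA0, hQA0⟩ := hex
  have hA0n : Group.IsNilpotent ↥A0 := h.2.2 A0 hA0
  have hle1 : A0 ≤ Subgroup.centralizer ((Q : Subgroup G) : Set G) := by
    intro a ha
    rw [Subgroup.mem_centralizer_iff]
    intro u hu
    obtain ⟨k, hk⟩ := nmc_order_of_mem Q hu
    exact nmc_nil_le_cent Q hab A0 (hQA0 hu) hk ha
  have hle2 : Subgroup.centralizer ((Q : Subgroup G) : Set G) ≤ A0 := by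
    intro c hc
    obtain ⟨e, m, hcop, h1, h2⟩ := Helper21.exists_pparts p c
    have hc1 : c ^ p ^ e ∈ A0 := by
      refine nmc_pprime_mem hZ h Q hab hxQ hx1 hA0 (hQA0 hxQ) ?_ (by rw [h1]; exact hcop)
      exact Subgroup.mem_centralizer_iff.mp (Subgroup.pow_mem _ hc _) x hxQ
    have hc2 : c ^ m ∈ A0 := by
      apply hQA0
      exact nmc_mem_of_normalizer Q
        (Subgroup.centralizer_le_normalizer _ (Subgroup.pow_mem _ hc _)) h2
    exact Helper21.mem_of_pow_mem_of_coprime (Nat.Coprime.pow_left e hcop.symm) hc1 hc2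
  have hA0eq : A0 = Subgroup.centralizer ((Q : Subgroup G) : Set G) := le_antisymm hle1 hle2
  refine ⟨by rw [← hA0eq]; exact hA0, ?_⟩
  intro u hu hu1 A hA huA
  rw [← hA0eq]
  exact nmc_unique hZ h Q hab hu hu1 hA hA0 huA (hQA0 hu)

theorem nmc_mem_smul {p : ℕ} (P : Sylow p G) (g x : G) (hx : x ∈ (P : Subgroup G)) :
    g * x * g⁻¹ ∈ ((g • P : Sylow p G) : Subgroup G) := by
  rw [Sylow.coe_subgroup_smul, Subgroup.mem_smul_pointwise_iff_exists]
  exact ⟨x, hx, by rw [MulAut.smul_def, MulAut.conj_apply]⟩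

theorem nmc_eq_of_cent_eq [Finite G] {p : ℕ} [Fact p.Prime] (P Q : Sylow p G)
    (habQ : ∀ a b : ↥(Q : Subgroup G), a * b = b * a)
    (hc : Subgroup.centralizer ((P : Subgroup G) : Set G) =
      Subgroup.centralizer ((Q : Subgroup G) : Set G)) : Q = P := by
  have hQC : (Q : Subgroup G) ≤ Subgroup.centralizer ((P : Subgroup G) : Set G) := by
    rw [hc]
    intro a ha
    rw [Subgroup.mem_centralizer_iff]
    intro b hb
    exact congrArg Subtype.val (habQ ⟨b, hb⟩ ⟨a, ha⟩)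
  have hQN : (Q : Subgroup G) ≤ Subgroup.normalizer ((P : Subgroup G) : Set G) :=
    hQC.trans (Subgroup.centralizer_le_normalizer _)
  have h1 : IsPGroup p ↥((Q : Subgroup G) ⊔ (P : Subgroup G)) :=
    IsPGroup.to_sup_of_normal_right' Q.2 P.2 hQN
  have h2 : (Q : Subgroup G) ⊔ (P : Subgroup G) = P := P.3 h1 le_sup_right
  have hQP : (Q : Subgroup G) ≤ P := le_sup_left.trans h2.le
  have h3 : (P : Subgroup G) = Q := Q.3 P.2 hQP
  exact Sylow.ext h3.symm

theorem nmc_main [Finite G] (hZ : Subgroup.center G = ⊥) {𝓐 : Finset (Subgroup G)} (h : IsNMC 𝓐)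
    {p : ℕ} [Fact p.Prime] (P : Sylow p G) (hab : ∀ a b : ↥(P : Subgroup G), a * b = b * a)
    (hgood : NmcGood p (P : Subgroup G)) (hnn : ¬ (P : Subgroup G).Normal) :
    Subgroup.centralizer ((P : Subgroup G) : Set G) ∈ 𝓐 ∧
    (∀ M : Subgroup G, M ≠ ⊤ → Subgroup.centralizer ((P : Subgroup G) : Set G) ≤ M →
      M ≤ Subgroup.normalizer ((P : Subgroup G) : Set G)) ∧
    IsCoatom (Subgroup.normalizer ((P : Subgroup G) : Set G)) ∧
    (∀ g : G, g ∉ Subgroup.normalizer ((P : Subgroup G) : Set G) → ∀ u ∈ (P : Subgroup G),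
      u ∈ ((g • P : Sylow p G) : Subgroup G) → u = 1) := by
  obtain ⟨hmem, huniq⟩ := nmc_key hZ h P hab hgood
  have hconj : ∀ g : G, g ∉ Subgroup.normalizer ((P : Subgroup G) : Set G) →
      Subgroup.centralizer ((P : Subgroup G) : Set G) ≠
        Subgroup.centralizer (((g • P : Sylow p G) : Subgroup G) : Set G) := by
    intro g hg heq
    apply hg
    have e : ↥(P : Subgroup G) ≃* ↥((g • P : Sylow p G) : Subgroup G) := P.equivSMul g
    have habQ := nmc_ab_equiv e hab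
    have h1 := nmc_eq_of_cent_eq P (g • P) habQ heq
    exact Sylow.smul_eq_iff_mem_normalizer.mp h1
  have hmax : ∀ M : Subgroup G, M ≠ ⊤ → Subgroup.centralizer ((P : Subgroup G) : Set G) ≤ M →
      M ≤ Subgroup.normalizer ((P : Subgroup G) : Set G) := by
    intro M hM hCM m hm
    by_contra hmN
    have e : ↥(P : Subgroup G) ≃* ↥((m • P : Sylow p G) : Subgroup G) := P.equivSMul m
    have habQ := nmc_ab_equiv e hab
    have hgoodQ := nmc_good_equiv e hgood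
    obtain ⟨hmemQ, -⟩ := nmc_key hZ h (m • P : Sylow p G) habQ hgoodQ
    refine nmc_no_two_in h hmem hmemQ (hconj m hmN) hM hCM ?_
    intro c hc
    have hcm : m⁻¹ * c * m ∈ Subgroup.centralizer ((P : Subgroup G) : Set G) := by
      rw [Subgroup.mem_centralizer_iff]
      intro y hy
      have h1 := Subgroup.mem_centralizer_iff.mp hc (m * y * m⁻¹) (nmc_mem_smul P m y hy)
      calc y * (m⁻¹ * c * m) = m⁻¹ * (m * y * m⁻¹ * c) * m := by group
        _ = m⁻¹ * (c * (m * y * m⁻¹)) * m := by rw [h1]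
        _ = m⁻¹ * c * m * y := by group
    have h2 : m * (m⁻¹ * c * m) * m⁻¹ ∈ M := M.mul_mem (M.mul_mem hm (hCM hcm)) (M.inv_mem hm)
    have h3 : m * (m⁻¹ * c * m) * m⁻¹ = c := by group
    rw [h3] at h2
    exact h2
  have hCN : Subgroup.centralizer ((P : Subgroup G) : Set G) ≤
      Subgroup.normalizer ((P : Subgroup G) : Set G) := Subgroup.centralizer_le_normalizer _
  refine ⟨hmem, hmax, ⟨?_, ?_⟩, ?_⟩
  · intro htop
    exact hnn (Subgroup.normalizer_eq_top_iff.mp htop)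
  · intro M hM
    by_contra hMt
    exact absurd (hmax M hMt (hCN.trans hM.le)) (not_le_of_gt hM)
  · intro g hg u huP hugP
    by_contra hu1
    have e : ↥(P : Subgroup G) ≃* ↥((g • P : Sylow p G) : Subgroup G) := P.equivSMul g
    have habQ := nmc_ab_equiv e hab
    have hgoodQ := nmc_good_equiv e hgood
    obtain ⟨hmemQ, -⟩ := nmc_key hZ h (g • P : Sylow p G) habQ hgoodQ
    have huC : u ∈ Subgroup.centralizer (((g • P : Sylow p G) : Subgroup G) : Set G) := by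
      rw [Subgroup.mem_centralizer_iff]
      intro b hb
      exact congrArg Subtype.val (habQ ⟨b, hb⟩ ⟨u, hugP⟩)
    have h1 := huniq u huP hu1 _ hmemQ huC
    exact hconj g hg h1.symm

end Cfsg.Agent.Helper22
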