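import Mathlib

set_option autoImplicit false
set_option linter.style.haveILetI false
set_option linter.unusedSectionVars false
set_option linter.unusedSimpArgs false
set_option linter.unusedVariables false
set_option linter.unusedTactic false
set_option maxHeartbeats 1000000

namespace Cfsg.Agent.Helper22

theorem nta_c3_pow (c : Multiplicative (ZMod 3)) : c ^ 3 = 1 := by
  revert c; decide

theorem nta_sign_c3 {β : Type} [Fintype β] [DecidableEq β]
    (r : Multiplicative (ZMod 3) →* Equiv.Perm β) (c : Multiplicative (ZMod 3)) :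
    Equiv.Perm.sign (r c) = 1 := by
  have h3 : (Equiv.Perm.sign (r c)) ^ 3 = 1 := by
    rw [← map_pow, ← map_pow, nta_c3_pow, map_one, map_one]
  rcases Int.units_eq_one_or (Equiv.Perm.sign (r c)) with h | h
  · exact h
  · rw [h] at h3
    exact absurd h3 (by decide)

/-- The embedding of `Alt (n - 3) × C₃` into `Alt n`. -/
theorem nta_embed (n : ℕ) (hn : 3 ≤ n) :
    ∃ f : alternatingGroup (Fin (n - 3)) × Multiplicative (ZMod 3) →* alternatingGroup (Fin n),
      Function.Injective f := by
  classical
  have hc3 : Fintype.card (Multiplicative (ZMod 3)) = 3 := by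
    rw [Fintype.card_multiplicative, ZMod.card]
  have hcard : Fintype.card (Fin (n - 3) ⊕ Multiplicative (ZMod 3)) = n := by
    rw [Fintype.card_sum, Fintype.card_fin, hc3]; omega
  let e : (Fin (n - 3) ⊕ Multiplicative (ZMod 3)) ≃ Fin n := Fintype.equivFinOfCardEq hcard
  let reg : Multiplicative (ZMod 3) →* Equiv.Perm (Multiplicative (ZMod 3)) :=
    MulAction.toPermHom (Multiplicative (ZMod 3)) (Multiplicative (ZMod 3))
  have hreg : Function.Injective reg := MulAction.toPerm_injective
  let f₀ : alternatingGroup (Fin (n - 3)) × Multiplicative (ZMod 3) →* Equiv.Perm (Fin n) :=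
    (e.permCongrHom.toMonoidHom).comp ((Equiv.Perm.sumCongrHom _ _).comp
      (MonoidHom.prodMap (alternatingGroup (Fin (n - 3))).subtype reg))
  have hf₀ : Function.Injective f₀ := by
    have h1 : Function.Injective
        (MonoidHom.prodMap (alternatingGroup (Fin (n - 3))).subtype reg) := by
      rintro ⟨a, c⟩ ⟨a', c'⟩ h
      have h' := Prod.ext_iff.mp h
      exact Prod.ext (Subtype.ext h'.1) (hreg h'.2)
    exact (e.permCongrHom.injective.comp Equiv.Perm.sumCongrHom_injective).comp h1
  have hmem : ∀ x, f₀ x ∈ alternatingGroup (Fin n) := by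
    rintro ⟨a, c⟩
    rw [Equiv.Perm.mem_alternatingGroup]
    show Equiv.Perm.sign (e.permCongr (Equiv.sumCongr (a : Equiv.Perm (Fin (n - 3))) (reg c))) = 1
    rw [Equiv.Perm.sign_permCongr, Equiv.Perm.sign_sumCongr, nta_sign_c3 reg c, mul_one]
    exact Equiv.Perm.mem_alternatingGroup.mp a.2
  refine ⟨f₀.codRestrict (alternatingGroup (Fin n)) hmem, ?_⟩
  intro x y h
  apply hf₀
  exact congrArg Subtype.val h

/-- The alternating group on `n` letters contains `P × C₃` for `P` a Sylow `2`-subgroup of the
alternating group on `n - 3` letters. -/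
theorem exists_nil_three_alt (n : ℕ) (hn : 3 ≤ n) (P : Sylow 2 (alternatingGroup (Fin (n - 3)))) :
    ∃ M : Subgroup (alternatingGroup (Fin n)), Group.IsNilpotent M ∧ Nat.card M = 3 * Nat.card P ∧
      Nonempty (M ≃* (↥(P : Subgroup (alternatingGroup (Fin (n - 3)))) × Multiplicative (ZMod 3))) := by
  classical
  obtain ⟨f, hf⟩ := nta_embed n hn
  haveI : Fact (Nat.Prime 2) := ⟨Nat.prime_two⟩
  let E : ((P : Subgroup (alternatingGroup (Fin (n - 3)))).prod
        (⊤ : Subgroup (Multiplicative (ZMod 3)))).map f ≃*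
      (↥(P : Subgroup (alternatingGroup (Fin (n - 3)))) × Multiplicative (ZMod 3)) :=
    ((Subgroup.equivMapOfInjective _ f hf).symm.trans
      (Subgroup.prodEquiv (P : Subgroup (alternatingGroup (Fin (n - 3)))) ⊤)).trans
      (MulEquiv.prodCongr (MulEquiv.refl _) Subgroup.topEquiv)
  refine ⟨((P : Subgroup (alternatingGroup (Fin (n - 3)))).prod
        (⊤ : Subgroup (Multiplicative (ZMod 3)))).map f, ?_, ?_, ⟨E⟩⟩
  · haveI : Group.IsNilpotent ↥(P : Subgroup (alternatingGroup (Fin (n - 3)))) :=
      IsPGroup.isNilpotent P.isPGroup'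
    exact Group.nilpotent_of_mulEquiv E.symm
  · rw [Nat.card_congr E.toEquiv, Nat.card_prod, Nat.card_eq_fintype_card (α := Multiplicative (ZMod 3)),
      Fintype.card_multiplicative, ZMod.card, mul_comm]

end Cfsg.Agent.Helper22
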