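import Mathlib
import Cfsg.Prelude.Def_LieExceptional

set_option autoImplicit false
set_option linter.style.haveILetI false
set_option linter.unusedSectionVars false
set_option linter.unusedSimpArgs false
set_option linter.unusedVariables false

open Cfsg

namespace Cfsg.Agent.Helper22

section OvoidAlg

variable {F : Type*} [Field F]

theorem ov_theta_zero (θ : F → F) (hadd : ∀ a b, θ (a + b) = θ a + θ b) : θ 0 = 0 := by
  have h := hadd 0 0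
  rw [add_zero] at h
  have h' : θ 0 + θ 0 = θ 0 + 0 := by rw [add_zero]; exact h.symm
  exact add_left_cancel h'

theorem ov_theta_inj0 (θ : F → F) (hadd : ∀ a b, θ (a + b) = θ a + θ b)
    (hsq : ∀ a, θ (θ a) = a ^ 2) {a : F} (h : θ a = 0) : a = 0 := by
  have h1 := hsq a
  rw [h, ov_theta_zero θ hadd] at h1
  exact (pow_eq_zero_iff (n := 2) (by norm_num)).mp h1.symm

theorem ov_ne_zero (θ : F → F) (h2 : (2 : F) = 0) (hadd : ∀ a b, θ (a + b) = θ a + θ b)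
    (hmul : ∀ a b, θ (a * b) = θ a * θ b) (hone : θ 1 = 1) (hsq : ∀ a, θ (θ a) = a ^ 2)
    (x y : F) (h : x * y + θ x * x ^ 2 + θ y = 0) : x = 0 ∧ y = 0 := by
  have hθ0 := ov_theta_zero θ hadd
  by_cases hx : x = 0
  · subst hx
    rw [hθ0] at h
    have h' : θ y = 0 := by linear_combination h
    exact ⟨rfl, ov_theta_inj0 θ hadd hsq h'⟩
  · exfalso
    have hθx : θ x ≠ 0 := fun h0 => hx (ov_theta_inj0 θ hadd hsq h0)
    obtain ⟨w, hw⟩ : ∃ w, w * (x * θ x) = y :=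
      ⟨y / (x * θ x), div_mul_cancel₀ _ (mul_ne_zero hx hθx)⟩
    have hθw : θ w * (θ x * x ^ 2) = θ y := by
      rw [← hw, hmul, hmul, hsq]
    have e : θ w + w + 1 = 0 := by
      have h3 : (θ x * x ^ 2) * (θ w + w + 1) = 0 := by
        linear_combination h + hθw + x * hw
      rcases mul_eq_zero.mp h3 with h4 | h4
      · exact absurd h4 (mul_ne_zero hθx (pow_ne_zero 2 hx))
      · exact h4
    have e1 : θ w = w + 1 := by linear_combination e - (w + 1) * h2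
    have e2 : w ^ 2 = w := by
      have h5 := hsq w
      rw [e1, hadd, hone, e1] at h5
      linear_combination -h5 + h2
    have e3 : w * (w - 1) = 0 := by linear_combination e2
    rcases mul_eq_zero.mp e3 with h6 | h6
    · rw [h6, hθ0] at e
      have h7 : (1 : F) = 0 := by linear_combination e
      exact one_ne_zero h7
    · have hw1 : w = 1 := by linear_combination h6
      rw [hw1, hone] at e
      have h7 : (1 : F) = 0 := by linear_combination e - h2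
      exact one_ne_zero h7

theorem ov_translate (θ : F → F) (h2 : (2 : F) = 0) (hadd : ∀ a b, θ (a + b) = θ a + θ b)
    (hmul : ∀ a b, θ (a * b) = θ a * θ b) (hsq : ∀ a, θ (θ a) = a ^ 2) (x y a b : F) :
    (x + a) * (y + b + θ a * x) + θ (x + a) * (x + a) ^ 2 + θ (y + b + θ a * x) =
      (x * y + θ x * x ^ 2 + θ y) + a * y + (b + a * θ a) * x +
        (a * b + θ a * a ^ 2 + θ b) := by
  rw [hadd x a, hadd (y + b) (θ a * x), hadd y b, hmul (θ a) x, hsq a]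
  linear_combination (θ a * x ^ 2 + a * x * θ x + a ^ 2 * θ x + a * x * θ a) * h2

theorem ov_inv_poly (θx θy x y : F) (h2 : (2 : F) = 0) :
    x * y * (θx * θy + x ^ 2 * θx ^ 2 + y ^ 2) + θy * y ^ 2 +
        θx * (x * y + θx * x ^ 2 + θy) ^ 2 =
      (θx * θy + x ^ 2 * θx ^ 2 + y ^ 2) * (x * y + θx * x ^ 2 + θy) := by
  linear_combination (x ^ 3 * y * θx ^ 2 + x * y * θx * θy) * h2

theorem ov_inv (θ : F → F) (h2 : (2 : F) = 0) (hadd : ∀ a b, θ (a + b) = θ a + θ b)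
    (hmul : ∀ a b, θ (a * b) = θ a * θ b) (hsq : ∀ a, θ (θ a) = a ^ 2) (x y f : F)
    (hf : f = x * y + θ x * x ^ 2 + θ y) (hf0 : f ≠ 0) :
    (y / f) * (x / f) + θ (y / f) * (y / f) ^ 2 + θ (x / f) = 1 / f := by
  have hθsq : ∀ u, θ (u ^ 2) = θ u ^ 2 := fun u => by rw [pow_two, hmul, ← pow_two]
  have hθf : θ f = θ x * θ y + x ^ 2 * θ x ^ 2 + y ^ 2 := by
    have e1 := hadd (x * y + θ x * x ^ 2) (θ y)
    have e2 := hadd (x * y) (θ x * x ^ 2)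
    have e3 := hmul x y
    have e4 := hmul (θ x) (x ^ 2)
    have e5 := hθsq x
    have e6 := hsq x
    have e7 := hsq y
    rw [hf, e1, e2, e3, e4, e5, e6, e7]
  have hθf0 : θ f ≠ 0 := fun h0 => hf0 (ov_theta_inj0 θ hadd hsq h0)
  have hdiv : ∀ u : F, θ (u / f) = θ u / θ f := by
    intro u
    rw [eq_div_iff hθf0, ← hmul, div_mul_cancel₀ _ hf0]
  rw [hdiv, hdiv]
  have key := ov_inv_poly (θ x) (θ y) x y h2
  rw [← hθf, ← hf] at key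
  have hA : y / f * (x / f) + θ y / θ f * (y / f) ^ 2 + θ x / θ f =
      (x * y * θ f + θ y * y ^ 2 + θ x * f ^ 2) / (θ f * f ^ 2) := by
    first | (field_simp; ring) | field_simp
  rw [hA, key]
  first | (field_simp; ring) | field_simp

theorem ov_indep_inf {x₁ y₁ x₂ y₂ g₁ g₂ c₀ c₁ c₂ : F} (hne : ¬ (x₁ = x₂ ∧ y₁ = y₂))
    (e0 : c₀ + c₁ * g₁ + c₂ * g₂ = 0) (e1 : c₁ * y₁ + c₂ * y₂ = 0)
    (e2 : c₁ * x₁ + c₂ * x₂ = 0) (e3 : c₁ + c₂ = 0) : c₀ = 0 ∧ c₁ = 0 ∧ c₂ = 0 := by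
  have hc1 : c₁ = 0 := by
    by_contra hc
    apply hne
    have hx : c₁ * (x₁ - x₂) = 0 := by linear_combination e2 - x₂ * e3
    have hy : c₁ * (y₁ - y₂) = 0 := by linear_combination e1 - y₂ * e3
    exact ⟨sub_eq_zero.mp ((mul_eq_zero.mp hx).resolve_left hc),
      sub_eq_zero.mp ((mul_eq_zero.mp hy).resolve_left hc)⟩
  have hc2 : c₂ = 0 := by linear_combination e3 - hc1
  refine ⟨?_, hc1, hc2⟩
  rw [hc1, hc2] at e0
  linear_combination e0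

theorem ov_indep_aff (θ : F → F) (h2 : (2 : F) = 0) (hadd : ∀ a b, θ (a + b) = θ a + θ b)
    (hmul : ∀ a b, θ (a * b) = θ a * θ b) (hone : θ 1 = 1) (hsq : ∀ a, θ (θ a) = a ^ 2)
    {x₁ y₁ x₂ y₂ x₃ y₃ c₁ c₂ c₃ : F}
    (h12 : ¬ (x₁ = x₂ ∧ y₁ = y₂)) (h13 : ¬ (x₁ = x₃ ∧ y₁ = y₃)) (h23 : ¬ (x₂ = x₃ ∧ y₂ = y₃))
    (e0 : c₁ * (x₁ * y₁ + θ x₁ * x₁ ^ 2 + θ y₁) + c₂ * (x₂ * y₂ + θ x₂ * x₂ ^ 2 + θ y₂) +
      c₃ * (x₃ * y₃ + θ x₃ * x₃ ^ 2 + θ y₃) = 0)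
    (e1 : c₁ * y₁ + c₂ * y₂ + c₃ * y₃ = 0) (e2 : c₁ * x₁ + c₂ * x₂ + c₃ * x₃ = 0)
    (e3 : c₁ + c₂ + c₃ = 0) : c₁ = 0 ∧ c₂ = 0 ∧ c₃ = 0 := by
  have hθ0 := ov_theta_zero θ hadd
  obtain ⟨a, ha⟩ : ∃ a : F, a = x₁ := ⟨_, rfl⟩
  obtain ⟨b, hb⟩ : ∃ b : F, b = y₁ + θ x₁ * x₁ := ⟨_, rfl⟩
  have hxa : x₁ + a = 0 := by rw [ha]; linear_combination x₁ * h2
  have hya : y₁ + b + θ a * x₁ = 0 := by
    rw [ha, hb]; linear_combination (y₁ + θ x₁ * x₁) * h2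
  have G : ∀ x y : F, (x + a) * (y + b + θ a * x) + θ (x + a) * (x + a) ^ 2 +
      θ (y + b + θ a * x) =
      (x * y + θ x * x ^ 2 + θ y) + a * y + (b + a * θ a) * x +
        (a * b + θ a * a ^ 2 + θ b) :=
    fun x y => ov_translate θ h2 hadd hmul hsq x y a b
  have G1 : (x₁ * y₁ + θ x₁ * x₁ ^ 2 + θ y₁) + a * y₁ + (b + a * θ a) * x₁ +
      (a * b + θ a * a ^ 2 + θ b) = 0 := by
    rw [← G x₁ y₁, hxa, hya, hθ0]
    ring
  obtain ⟨X₂, hX₂⟩ : ∃ X : F, X = x₂ + a := ⟨_, rfl⟩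
  obtain ⟨Y₂, hY₂⟩ : ∃ Y : F, Y = y₂ + b + θ a * x₂ := ⟨_, rfl⟩
  obtain ⟨X₃, hX₃⟩ : ∃ X : F, X = x₃ + a := ⟨_, rfl⟩
  obtain ⟨Y₃, hY₃⟩ : ∃ Y : F, Y = y₃ + b + θ a * x₃ := ⟨_, rfl⟩
  obtain ⟨g₂, hg₂⟩ : ∃ g : F, g = X₂ * Y₂ + θ X₂ * X₂ ^ 2 + θ Y₂ := ⟨_, rfl⟩
  obtain ⟨g₃, hg₃⟩ : ∃ g : F, g = X₃ * Y₃ + θ X₃ * X₃ ^ 2 + θ Y₃ := ⟨_, rfl⟩
  have hg₂' : g₂ = (x₂ * y₂ + θ x₂ * x₂ ^ 2 + θ y₂) + a * y₂ + (b + a * θ a) * x₂ +
      (a * b + θ a * a ^ 2 + θ b) := by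
    rw [hg₂, hX₂, hY₂]; exact G x₂ y₂
  have hg₃' : g₃ = (x₃ * y₃ + θ x₃ * x₃ ^ 2 + θ y₃) + a * y₃ + (b + a * θ a) * x₃ +
      (a * b + θ a * a ^ 2 + θ b) := by
    rw [hg₃, hX₃, hY₃]; exact G x₃ y₃
  have E0 : c₂ * g₂ + c₃ * g₃ = 0 := by
    rw [hg₂', hg₃']
    linear_combination e0 + a * e1 + (b + a * θ a) * e2 +
      (a * b + θ a * a ^ 2 + θ b) * e3 - c₁ * G1
  have E1 : c₂ * Y₂ + c₃ * Y₃ = 0 := by
    rw [hY₂, hY₃]
    linear_combination e1 + b * e3 + θ a * e2 - c₁ * hya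
  have E2 : c₂ * X₂ + c₃ * X₃ = 0 := by
    rw [hX₂, hX₃]
    linear_combination e2 + a * e3 - c₁ * hxa
  have hg₂0 : g₂ ≠ 0 := by
    intro h0
    rw [hg₂] at h0
    obtain ⟨hX0, hY0⟩ := ov_ne_zero θ h2 hadd hmul hone hsq X₂ Y₂ h0
    apply h12
    have hx : x₁ = x₂ := by
      rw [hX₂] at hX0
      linear_combination hxa - hX0
    refine ⟨hx, ?_⟩
    rw [hY₂] at hY0
    rw [← hx] at hY0
    linear_combination hya - hY0
  have hg₃0 : g₃ ≠ 0 := by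
    intro h0
    rw [hg₃] at h0
    obtain ⟨hX0, hY0⟩ := ov_ne_zero θ h2 hadd hmul hone hsq X₃ Y₃ h0
    apply h13
    have hx : x₁ = x₃ := by
      rw [hX₃] at hX0
      linear_combination hxa - hX0
    refine ⟨hx, ?_⟩
    rw [hY₃] at hY0
    rw [← hx] at hY0
    linear_combination hya - hY0
  have I2 := ov_inv θ h2 hadd hmul hsq X₂ Y₂ g₂ hg₂ hg₂0
  have I3 := ov_inv θ h2 hadd hmul hsq X₃ Y₃ g₃ hg₃ hg₃0
  have hne : ¬ (Y₂ / g₂ = Y₃ / g₃ ∧ X₂ / g₂ = X₃ / g₃) := by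
    rintro ⟨hU, hV⟩
    have hgg : 1 / g₂ = 1 / g₃ := by
      rw [← I2, ← I3, hU, hV]
    have hgeq : g₂ = g₃ := by
      have h' := congrArg (fun t => 1 / t) hgg
      simpa using h'
    rw [hgeq] at hU hV
    have hYY : Y₂ = Y₃ := by
      have h' := congrArg (fun t => t * g₃) hU
      simpa [div_mul_cancel₀ _ hg₃0] using h'
    have hXX : X₂ = X₃ := by
      have h' := congrArg (fun t => t * g₃) hV
      simpa [div_mul_cancel₀ _ hg₃0] using h'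
    apply h23
    have hx : x₂ = x₃ := by
      rw [hX₂, hX₃] at hXX
      linear_combination hXX
    refine ⟨hx, ?_⟩
    rw [hY₂, hY₃, hx] at hYY
    linear_combination hYY
  have k2 : c₂ * g₂ * (1 / g₂) = c₂ := by field_simp
  have k3 : c₃ * g₃ * (1 / g₃) = c₃ := by field_simp
  have k2x : c₂ * g₂ * (X₂ / g₂) = c₂ * X₂ := by field_simp
  have k3x : c₃ * g₃ * (X₃ / g₃) = c₃ * X₃ := by field_simp
  have k2y : c₂ * g₂ * (Y₂ / g₂) = c₂ * Y₂ := by field_simp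
  have k3y : c₃ * g₃ * (Y₃ / g₃) = c₃ * Y₃ := by field_simp
  obtain ⟨hc1, hd2, hd3⟩ := ov_indep_inf (x₁ := Y₂ / g₂) (y₁ := X₂ / g₂) (x₂ := Y₃ / g₃)
    (y₂ := X₃ / g₃) (g₁ := 1 / g₂) (g₂ := 1 / g₃) (c₀ := c₁) (c₁ := c₂ * g₂) (c₂ := c₃ * g₃) hne
    (by rw [k2, k3]; exact e3) (by rw [k2x, k3x]; exact E2) (by rw [k2y, k3y]; exact E1) E0
  exact ⟨hc1, (mul_eq_zero.mp hd2).resolve_right hg₂0, (mul_eq_zero.mp hd3).resolve_right hg₃0⟩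

theorem ov_li (f : Fin 3 → Fin 4 → F)
    (h : ∀ c₀ c₁ c₂ : F, (∀ k : Fin 4, c₀ * f 0 k + c₁ * f 1 k + c₂ * f 2 k = 0) →
      c₀ = 0 ∧ c₁ = 0 ∧ c₂ = 0) : LinearIndependent F f := by
  rw [Fintype.linearIndependent_iff]
  intro c hc
  have hk : ∀ k : Fin 4, c 0 * f 0 k + c 1 * f 1 k + c 2 * f 2 k = 0 := by
    intro k
    have h1 := congrFun hc k
    rw [Fin.sum_univ_three] at h1
    simpa using h1
  obtain ⟨h0, h1, h2⟩ := h _ _ _ hk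
  intro i
  fin_cases i
  · exact h0
  · exact h1
  · exact h2

theorem ov_mk_congr {v w : Fin 4 → F} (h : v = w) (hv : v ≠ 0) (hw : w ≠ 0) :
    Projectivization.mk F v hv = Projectivization.mk F w hw := by
  subst h; rfl

end OvoidAlg

theorem ov_main {F : Type*} [Field F] [Fintype F] {m : ℕ}
    (hF : Fintype.card F = 2 ^ (2 * m + 1)) (p : Fin 3 ↪ Cfsg.suzukiOvoid F m) :
    Projectivization.Independent (fun i => (p i : Projectivization F (Fin 4 → F))) := by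
  classical
  obtain ⟨q, hq⟩ := CharP.exists F
  haveI := hq
  have hqp : q.Prime := CharP.char_is_prime F q
  obtain ⟨k, -, hk⟩ := FiniteField.card F q
  have hq2 : q = 2 := by
    rw [hF] at hk
    have h1 : q ∣ 2 ^ (2 * m + 1) := by rw [hk]; exact dvd_pow_self q k.ne_zero
    exact (Nat.prime_dvd_prime_iff_eq hqp Nat.prime_two).mp (hqp.dvd_of_dvd_pow h1)
  subst hq2
  haveI : Fact (Nat.Prime 2) := ⟨Nat.prime_two⟩
  have h2 : (2 : F) = 0 := by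
    have h := CharP.cast_eq_zero F 2
    exact_mod_cast h
  obtain ⟨θ, hθ⟩ : ∃ θ : F → F, ∀ t, θ t = t ^ 2 ^ (m + 1) :=
    ⟨fun t => t ^ 2 ^ (m + 1), fun t => rfl⟩
  have hadd : ∀ a b, θ (a + b) = θ a + θ b := by
    intro a b
    rw [hθ, hθ, hθ]
    exact add_pow_char_pow a b 2 (m + 1)
  have hmul : ∀ a b, θ (a * b) = θ a * θ b := by
    intro a b; rw [hθ, hθ, hθ, mul_pow]
  have hone : θ 1 = 1 := by rw [hθ, one_pow]
  have hsq : ∀ a, θ (θ a) = a ^ 2 := by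
    intro x
    rw [hθ, hθ]
    have h1 : (2 : ℕ) ^ (m + 1) * 2 ^ (m + 1) = 2 ^ (2 * m + 1) * 2 := by ring
    have h3 : x ^ 2 ^ (2 * m + 1) = x := by
      have h4 := FiniteField.pow_card x
      rwa [hF] at h4
    rw [← pow_mul, h1, pow_mul, h3]
  have hmem : ∀ i, ∃ (v : Fin 4 → F) (hv : v ≠ 0),
      (p i : Projectivization F (Fin 4 → F)) = Projectivization.mk F v hv ∧
      (v = ![1, 0, 0, 0] ∨ ∃ x y : F,
        v = ![x * y + x ^ (2 ^ (m + 1) + 2) + y ^ (2 ^ (m + 1)), y, x, 1]) :=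
    fun i => (p i).2
  choose f hf hpf hform using hmem
  have hfun : (fun i => (p i : Projectivization F (Fin 4 → F))) =
      fun i => Projectivization.mk F (f i) (hf i) := funext hpf
  rw [hfun]
  refine Projectivization.Independent.mk f hf ?_
  have hne : ∀ i j, i ≠ j → f i ≠ f j := by
    intro i j hij h
    apply hij
    apply p.injective
    apply Subtype.ext
    rw [hpf i, hpf j]
    exact ov_mk_congr h _ _
  have hgform : ∀ x y : F, x * y + x ^ (2 ^ (m + 1) + 2) + y ^ 2 ^ (m + 1) =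
      x * y + θ x * x ^ 2 + θ y := by
    intro x y; rw [hθ, hθ, pow_add]
  have hnaff : ∀ i j, i ≠ j → ∀ x y x' y' : F,
      f i = ![x * y + x ^ (2 ^ (m + 1) + 2) + y ^ (2 ^ (m + 1)), y, x, 1] →
      f j = ![x' * y' + x' ^ (2 ^ (m + 1) + 2) + y' ^ (2 ^ (m + 1)), y', x', 1] →
      ¬ (x = x' ∧ y = y') := by
    intro i j hij x y x' y' hi hj hxy
    apply hne i j hij
    rw [hi, hj, hxy.1, hxy.2]
  apply ov_li
  intro c₀ c₁ c₂ hk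
  have k0 := hk 0
  have k1 := hk 1
  have k2 := hk 2
  have k3 := hk 3
  rcases hform 0 with h0 | ⟨x₀, y₀, h0⟩ <;> rcases hform 1 with h1 | ⟨x₁, y₁, h1⟩ <;>
    rcases hform 2 with h2' | ⟨x₂, y₂, h2'⟩
  · exact absurd (h0.trans h1.symm) (hne 0 1 (by decide))
  · exact absurd (h0.trans h1.symm) (hne 0 1 (by decide))
  · exact absurd (h0.trans h2'.symm) (hne 0 2 (by decide))
  · -- infinity at 0
    rw [h0, h1, h2'] at k0 k1 k2 k3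
    have e0 : c₀ * 1 + c₁ * (x₁ * y₁ + x₁ ^ (2 ^ (m + 1) + 2) + y₁ ^ 2 ^ (m + 1)) +
        c₂ * (x₂ * y₂ + x₂ ^ (2 ^ (m + 1) + 2) + y₂ ^ 2 ^ (m + 1)) = 0 := k0
    have e1 : c₀ * 0 + c₁ * y₁ + c₂ * y₂ = 0 := k1
    have e2 : c₀ * 0 + c₁ * x₁ + c₂ * x₂ = 0 := k2
    have e3 : c₀ * 0 + c₁ * 1 + c₂ * 1 = 0 := k3
    rw [hgform, hgform] at e0
    exact ov_indep_inf (x₁ := x₁) (y₁ := y₁) (x₂ := x₂) (y₂ := y₂)
      (g₁ := x₁ * y₁ + θ x₁ * x₁ ^ 2 + θ y₁) (g₂ := x₂ * y₂ + θ x₂ * x₂ ^ 2 + θ y₂)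
      (c₀ := c₀) (c₁ := c₁) (c₂ := c₂) (hnaff 1 2 (by decide) x₁ y₁ x₂ y₂ h1 h2')
      (by linear_combination e0) (by linear_combination e1) (by linear_combination e2)
      (by linear_combination e3)
  · exact absurd (h1.trans h2'.symm) (hne 1 2 (by decide))
  · -- infinity at 1
    rw [h0, h1, h2'] at k0 k1 k2 k3
    have e0 : c₀ * (x₀ * y₀ + x₀ ^ (2 ^ (m + 1) + 2) + y₀ ^ 2 ^ (m + 1)) + c₁ * 1 +
        c₂ * (x₂ * y₂ + x₂ ^ (2 ^ (m + 1) + 2) + y₂ ^ 2 ^ (m + 1)) = 0 := k0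
    have e1 : c₀ * y₀ + c₁ * 0 + c₂ * y₂ = 0 := k1
    have e2 : c₀ * x₀ + c₁ * 0 + c₂ * x₂ = 0 := k2
    have e3 : c₀ * 1 + c₁ * 0 + c₂ * 1 = 0 := k3
    rw [hgform, hgform] at e0
    obtain ⟨r1, r0, r2⟩ := ov_indep_inf (x₁ := x₀) (y₁ := y₀) (x₂ := x₂) (y₂ := y₂)
      (g₁ := x₀ * y₀ + θ x₀ * x₀ ^ 2 + θ y₀) (g₂ := x₂ * y₂ + θ x₂ * x₂ ^ 2 + θ y₂)
      (c₀ := c₁) (c₁ := c₀) (c₂ := c₂) (hnaff 0 2 (by decide) x₀ y₀ x₂ y₂ h0 h2')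
      (by linear_combination e0) (by linear_combination e1) (by linear_combination e2)
      (by linear_combination e3)
    exact ⟨r0, r1, r2⟩
  · -- infinity at 2
    rw [h0, h1, h2'] at k0 k1 k2 k3
    have e0 : c₀ * (x₀ * y₀ + x₀ ^ (2 ^ (m + 1) + 2) + y₀ ^ 2 ^ (m + 1)) +
        c₁ * (x₁ * y₁ + x₁ ^ (2 ^ (m + 1) + 2) + y₁ ^ 2 ^ (m + 1)) + c₂ * 1 = 0 := k0
    have e1 : c₀ * y₀ + c₁ * y₁ + c₂ * 0 = 0 := k1
    have e2 : c₀ * x₀ + c₁ * x₁ + c₂ * 0 = 0 := k2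
    have e3 : c₀ * 1 + c₁ * 1 + c₂ * 0 = 0 := k3
    rw [hgform, hgform] at e0
    obtain ⟨r2, r0, r1⟩ := ov_indep_inf (x₁ := x₀) (y₁ := y₀) (x₂ := x₁) (y₂ := y₁)
      (g₁ := x₀ * y₀ + θ x₀ * x₀ ^ 2 + θ y₀) (g₂ := x₁ * y₁ + θ x₁ * x₁ ^ 2 + θ y₁)
      (c₀ := c₂) (c₁ := c₀) (c₂ := c₁) (hnaff 0 1 (by decide) x₀ y₀ x₁ y₁ h0 h1)
      (by linear_combination e0) (by linear_combination e1) (by linear_combination e2)
      (by linear_combination e3)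
    exact ⟨r0, r1, r2⟩
  · -- all affine
    rw [h0, h1, h2'] at k0 k1 k2 k3
    have e0 : c₀ * (x₀ * y₀ + x₀ ^ (2 ^ (m + 1) + 2) + y₀ ^ 2 ^ (m + 1)) +
        c₁ * (x₁ * y₁ + x₁ ^ (2 ^ (m + 1) + 2) + y₁ ^ 2 ^ (m + 1)) +
        c₂ * (x₂ * y₂ + x₂ ^ (2 ^ (m + 1) + 2) + y₂ ^ 2 ^ (m + 1)) = 0 := k0
    have e1 : c₀ * y₀ + c₁ * y₁ + c₂ * y₂ = 0 := k1
    have e2 : c₀ * x₀ + c₁ * x₁ + c₂ * x₂ = 0 := k2
    have e3 : c₀ * 1 + c₁ * 1 + c₂ * 1 = 0 := k3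
    rw [hgform, hgform, hgform] at e0
    exact ov_indep_aff θ h2 hadd hmul hone hsq
      (hnaff 0 1 (by decide) x₀ y₀ x₁ y₁ h0 h1) (hnaff 0 2 (by decide) x₀ y₀ x₂ y₂ h0 h2')
      (hnaff 1 2 (by decide) x₁ y₁ x₂ y₂ h1 h2') e0 e1 e2 (by linear_combination e3)

end Cfsg.Agent.Helper22
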