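import Cfsg.Agent.Helper22.Ovoid

set_option autoImplicit false
set_option linter.style.haveILetI false
set_option linter.unusedSectionVars false
set_option linter.unusedSimpArgs false
set_option linter.unusedVariables false
set_option linter.unusedTactic false
set_option maxHeartbeats 1000000

open Cfsg
open Matrix
open scoped Pointwise

namespace Cfsg.Agent.Helper22

section OvoidForm

variable {F : Type*} [Field F]

/-- The hypotheses on the Tits endomorphism. -/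
structure OvTheta (θ : F → F) : Prop where
  h2 : (2 : F) = 0
  hadd : ∀ a b, θ (a + b) = θ a + θ b
  hmul : ∀ a b, θ (a * b) = θ a * θ b
  hone : θ 1 = 1
  hsq : ∀ a, θ (θ a) = a ^ 2

/-- The standard vectors of the points of the ovoid. -/
def IsStd (θ : F → F) (v : Fin 4 → F) : Prop :=
  v = ![1, 0, 0, 0] ∨ ∃ x y : F, v = ![x * y + θ x * x ^ 2 + θ y, y, x, 1]

/-- The antidiagonal form. -/
def bJ (u v : Fin 4 → F) : F := u 0 * v 3 + u 1 * v 2 + u 2 * v 1 + u 3 * v 0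

/-- The dot product on `F⁴`, written out. -/
def dot4 (l u : Fin 4 → F) : F := l 0 * u 0 + l 1 * u 1 + l 2 * u 2 + l 3 * u 3

/-- The Gram function of the columns of `A` for the antidiagonal form. -/
def ovB (A : Matrix (Fin 4) (Fin 4) F) (i j : Fin 4) : F :=
  A 3 i * A 0 j + A 2 i * A 1 j + A 1 i * A 2 j + A 0 i * A 3 j

/-- The functional attached to a vector. -/
def ovEll (B : Fin 4 → Fin 4 → F) (v : Fin 4 → F) (i : Fin 4) : F :=
  B i 0 * v 0 + B i 1 * v 1 + B i 2 * v 2 + B i 3 * v 3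

theorem ov_fin4 {P : Fin 4 → Prop} (h0 : P 0) (h1 : P 1) (h2 : P 2) (h3 : P 3) : ∀ i, P i := by
  intro i
  fin_cases i
  · exact h0
  · exact h1
  · exact h2
  · exact h3

theorem ov_mv4 (A : Matrix (Fin 4) (Fin 4) F) (x : Fin 4 → F) (i : Fin 4) :
    (A *ᵥ x) i = A i 0 * x 0 + A i 1 * x 1 + A i 2 * x 2 + A i 3 * x 3 := by
  simp [Matrix.mulVec, dotProduct, Fin.sum_univ_four]

theorem bJ_self (h2 : (2 : F) = 0) (w : Fin 4 → F) : bJ w w = 0 := by
  unfold bJ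
  linear_combination (w 0 * w 3 + w 1 * w 2) * h2

theorem bJ_comm (u v : Fin 4 → F) : bJ u v = bJ v u := by
  unfold bJ
  ring

theorem bJ_smul (a b : F) (u v : Fin 4 → F) : bJ (a • u) (b • v) = a * b * bJ u v := by
  simp only [bJ, Pi.smul_apply, smul_eq_mul]
  ring

theorem ov_bil (A : Matrix (Fin 4) (Fin 4) F) (u v : Fin 4 → F) :
    dot4 (ovEll (ovB A) v) u = bJ (A *ᵥ u) (A *ᵥ v) := by
  simp only [dot4, ovEll, ovB, bJ, ov_mv4]
  ring

theorem ov_std_ne_zero {θ : F → F} {v : Fin 4 → F} (hv : IsStd θ v) : v ≠ 0 := by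
  rcases hv with rfl | ⟨x, y, rfl⟩
  · intro h
    have h1 : (1 : F) = 0 := congrFun h 0
    exact one_ne_zero h1
  · intro h
    have h1 : (1 : F) = 0 := congrFun h 3
    exact one_ne_zero h1

theorem ov_std_eq_of_smul {θ : F → F} {u v : Fin 4 → F} (hu : IsStd θ u) (hv : IsStd θ v)
    (t : F) (h : u = t • v) : u = v := by
  rcases hu with rfl | ⟨a, b, rfl⟩ <;> rcases hv with rfl | ⟨x, y, rfl⟩
  · rfl
  · exfalso
    have h3 : (0 : F) = t * 1 := congrFun h 3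
    have h0 : (1 : F) = t * (x * y + θ x * x ^ 2 + θ y) := congrFun h 0
    have ht : t = 0 := by linear_combination -h3
    rw [ht, zero_mul] at h0
    exact one_ne_zero h0
  · exfalso
    have h3 : (1 : F) = t * 0 := congrFun h 3
    rw [mul_zero] at h3
    exact one_ne_zero h3
  · have h3 : (1 : F) = t * 1 := congrFun h 3
    have ht : t = 1 := by linear_combination -h3
    rw [h, ht, one_smul]

theorem ov_T0 {θ : F → F} (hθ : OvTheta θ) {u v : Fin 4 → F} (hu : IsStd θ u)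
    (hv : IsStd θ v) (huv : u ≠ v) : bJ u v ≠ 0 := by
  rcases hu with rfl | ⟨a, b, rfl⟩ <;> rcases hv with rfl | ⟨x, y, rfl⟩
  · exact absurd rfl huv
  · have e : bJ (![1, 0, 0, 0] : Fin 4 → F) ![x * y + θ x * x ^ 2 + θ y, y, x, 1] =
        1 * 1 + 0 * x + 0 * y + 0 * (x * y + θ x * x ^ 2 + θ y) := rfl
    rw [e]
    intro h
    have h1 : (1 : F) = 0 := by linear_combination h
    exact one_ne_zero h1
  · have e : bJ (![a * b + θ a * a ^ 2 + θ b, b, a, 1] : Fin 4 → F) ![1, 0, 0, 0] =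
        (a * b + θ a * a ^ 2 + θ b) * 0 + b * 0 + a * 0 + 1 * 1 := rfl
    rw [e]
    intro h
    have h1 : (1 : F) = 0 := by linear_combination h
    exact one_ne_zero h1
  · intro h0
    have hval : bJ (![a * b + θ a * a ^ 2 + θ b, b, a, 1] : Fin 4 → F)
        ![x * y + θ x * x ^ 2 + θ y, y, x, 1] =
        (a * b + θ a * a ^ 2 + θ b) * 1 + b * x + a * y + 1 * (x * y + θ x * x ^ 2 + θ y) := rfl
    rw [hval] at h0
    have hT := ov_translate θ hθ.h2 hθ.hadd hθ.hmul hθ.hsq x y a (b + a * θ a)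
    have hθb : θ (b + a * θ a) = θ b + θ a * a ^ 2 := by rw [hθ.hadd, hθ.hmul, hθ.hsq]
    rw [hθb] at hT
    have hz : (x + a) * (y + (b + a * θ a) + θ a * x) + θ (x + a) * (x + a) ^ 2 +
        θ (y + (b + a * θ a) + θ a * x) = 0 := by
      rw [hT]
      linear_combination h0 + (a * θ a * x + a ^ 2 * θ a) * hθ.h2
    obtain ⟨hX, hY⟩ := ov_ne_zero θ hθ.h2 hθ.hadd hθ.hmul hθ.hone hθ.hsq _ _ hz
    have hxa : x = a := by linear_combination hX - a * hθ.h2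
    have hyb : y = b := by
      rw [hxa] at hY
      linear_combination hY - (b + a * θ a) * hθ.h2
    exact huv (by rw [hxa, hyb])

theorem ov_T1 {θ : F → F} (hθ : OvTheta θ) {v l : Fin 4 → F} (hv : IsStd θ v)
    (h0 : dot4 l v = 0) (hne : ∀ u, IsStd θ u → u ≠ v → dot4 l u ≠ 0) :
    ∃ c : F, ∀ i, l i = c * v (Fin.rev i) := by
  rcases hv with rfl | ⟨a, b, rfl⟩
  · have hl0 : l 0 = 0 := by
      have e : dot4 l ![1, 0, 0, 0] = l 0 * 1 + l 1 * 0 + l 2 * 0 + l 3 * 0 := rfl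
      rw [e] at h0
      linear_combination h0
    have key : ∀ x y : F, l 1 * y + l 2 * x + l 3 ≠ 0 := by
      intro x y hxy
      refine hne ![x * y + θ x * x ^ 2 + θ y, y, x, 1] (Or.inr ⟨x, y, rfl⟩) ?_ ?_
      · intro h
        have h3 : (1 : F) = 0 := congrFun h 3
        exact one_ne_zero h3
      · have e : dot4 l ![x * y + θ x * x ^ 2 + θ y, y, x, 1] =
            l 0 * (x * y + θ x * x ^ 2 + θ y) + l 1 * y + l 2 * x + l 3 * 1 := rfl
        rw [e, hl0]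
        linear_combination hxy
    have hl1 : l 1 = 0 := by
      by_contra h
      refine key 0 (-(l 3) / l 1) ?_
      field_simp <;> ring
    have hl2 : l 2 = 0 := by
      by_contra h
      refine key (-(l 3) / l 2) 0 ?_
      field_simp <;> ring
    refine ⟨l 3, ov_fin4 ?_ ?_ ?_ ?_⟩
    · show l 0 = l 3 * 0
      rw [hl0, mul_zero]
    · show l 1 = l 3 * 0
      rw [hl1, mul_zero]
    · show l 2 = l 3 * 0
      rw [hl2, mul_zero]
    · show l 3 = l 3 * 1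
      rw [mul_one]
  · have hc : l 0 ≠ 0 := by
      have h1 := hne ![1, 0, 0, 0] (Or.inl rfl) (by
        intro h
        have h3 : (0 : F) = 1 := congrFun h 3
        exact zero_ne_one h3)
      have e : dot4 l ![1, 0, 0, 0] = l 0 * 1 + l 1 * 0 + l 2 * 0 + l 3 * 0 := rfl
      rw [e] at h1
      intro h
      apply h1
      rw [h]
      ring
    have h0' : l 0 * (a * b + θ a * a ^ 2 + θ b) + l 1 * b + l 2 * a + l 3 * 1 = 0 := h0
    have key : ∀ x' y' : F, ¬ (x' = 0 ∧ y' = 0) →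
        l 0 * (x' * y' + θ x' * x' ^ 2 + θ y') + (l 0 * a + l 1) * y' +
          (l 0 * b + l 0 * a * θ a + l 1 * θ a + l 2) * x' ≠ 0 := by
      intro x' y' hxy hval
      refine hne ![(x' + a) * (y' + b + θ a * x') + θ (x' + a) * (x' + a) ^ 2 +
          θ (y' + b + θ a * x'), y' + b + θ a * x', x' + a, 1]
        (Or.inr ⟨x' + a, y' + b + θ a * x', rfl⟩) ?_ ?_
      · intro h
        apply hxy
        have h2' : x' + a = a := congrFun h 2
        have h1' : y' + b + θ a * x' = b := congrFun h 1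
        have hx0 : x' = 0 := by linear_combination h2'
        refine ⟨hx0, ?_⟩
        rw [hx0] at h1'
        linear_combination h1'
      · have e : dot4 l ![(x' + a) * (y' + b + θ a * x') + θ (x' + a) * (x' + a) ^ 2 +
            θ (y' + b + θ a * x'), y' + b + θ a * x', x' + a, 1] =
            l 0 * ((x' + a) * (y' + b + θ a * x') + θ (x' + a) * (x' + a) ^ 2 +
              θ (y' + b + θ a * x')) + l 1 * (y' + b + θ a * x') + l 2 * (x' + a) + l 3 * 1 :=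
          rfl
        rw [e, ov_translate θ hθ.h2 hθ.hadd hθ.hmul hθ.hsq x' y' a b]
        linear_combination hval + h0'
    have hαβ : l 0 * a + l 1 = 0 ∧ l 0 * b + l 0 * a * θ a + l 1 * θ a + l 2 = 0 := by
      by_contra hcon
      obtain ⟨x₀, y₀, hxy0, hlin⟩ : ∃ x₀ y₀ : F, ¬ (x₀ = 0 ∧ y₀ = 0) ∧
          l 0 + (l 0 * a + l 1) * x₀ + (l 0 * b + l 0 * a * θ a + l 1 * θ a + l 2) * y₀ = 0 := by
        by_cases hα : l 0 * a + l 1 = 0
        · have hβ : l 0 * b + l 0 * a * θ a + l 1 * θ a + l 2 ≠ 0 := fun h => hcon ⟨hα, h⟩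
          refine ⟨0, -(l 0) / (l 0 * b + l 0 * a * θ a + l 1 * θ a + l 2), ?_, ?_⟩
          · rintro ⟨-, h⟩
            rw [div_eq_zero_iff] at h
            rcases h with h | h
            · exact hc (neg_eq_zero.mp h)
            · exact hβ h
          · rw [hα, zero_mul, add_zero, mul_div_cancel₀ _ hβ]
            ring
        · refine ⟨-(l 0) / (l 0 * a + l 1), 0, ?_, ?_⟩
          · rintro ⟨h, -⟩
            rw [div_eq_zero_iff] at h
            rcases h with h | h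
            · exact hc (neg_eq_zero.mp h)
            · exact hα h
          · rw [mul_zero, add_zero, mul_div_cancel₀ _ hα]
            ring
      obtain ⟨f, hf⟩ : ∃ f : F, f = x₀ * y₀ + θ x₀ * x₀ ^ 2 + θ y₀ := ⟨_, rfl⟩
      have hf0 : f ≠ 0 := by
        intro h
        rw [hf] at h
        exact hxy0 (ov_ne_zero θ hθ.h2 hθ.hadd hθ.hmul hθ.hone hθ.hsq x₀ y₀ h)
      have hinv := ov_inv θ hθ.h2 hθ.hadd hθ.hmul hθ.hsq x₀ y₀ f hf hf0
      refine key (y₀ / f) (x₀ / f) ?_ ?_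
      · rintro ⟨h1, h2'⟩
        apply hxy0
        rw [div_eq_zero_iff] at h1 h2'
        exact ⟨h2'.resolve_right hf0, h1.resolve_right hf0⟩
      · rw [hinv]
        have e : l 0 * (1 / f) + (l 0 * a + l 1) * (x₀ / f) +
            (l 0 * b + l 0 * a * θ a + l 1 * θ a + l 2) * (y₀ / f) =
            (l 0 + (l 0 * a + l 1) * x₀ + (l 0 * b + l 0 * a * θ a + l 1 * θ a + l 2) * y₀) / f := by
          ring
        rw [e, hlin, zero_div]
    have e1 : l 1 = l 0 * a := by linear_combination hαβ.1 - (l 0 * a) * hθ.h2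
    have e2 : l 2 = l 0 * b := by
      linear_combination hαβ.2 - θ a * hαβ.1 - (l 0 * b) * hθ.h2
    have e3 : l 3 = l 0 * (a * b + θ a * a ^ 2 + θ b) := by
      linear_combination h0' - b * e1 - a * e2 -
        (l 0 * (a * b + θ a * a ^ 2 + θ b) + l 0 * a * b) * hθ.h2
    refine ⟨l 0, ov_fin4 ?_ ?_ ?_ ?_⟩
    · show l 0 = l 0 * 1
      rw [mul_one]
    · show l 1 = l 0 * a
      exact e1
    · show l 2 = l 0 * b
      exact e2
    · show l 3 = l 0 * (a * b + θ a * a ^ 2 + θ b)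
      exact e3

end OvoidForm

theorem ov_theta_exists {F : Type*} [Field F] [Fintype F] {m : ℕ}
    (hF : Fintype.card F = 2 ^ (2 * m + 1)) :
    ∃ θ : F → F, (∀ t, θ t = t ^ 2 ^ (m + 1)) ∧ OvTheta θ := by
  classical
  obtain ⟨q, hq⟩ := CharP.exists F
  haveI := hq
  have hqp : q.Prime := CharP.char_is_prime F q
  obtain ⟨k, -, hk⟩ := FiniteField.card F q
  have hq2 : q = 2 := by
    rw [hF] at hk
    have h1 : q ∣ 2 ^ (2 * m + 1) := by rw [hk]; exact dvd_pow_self q k.ne_zero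
    exact (Nat.prime_dvd_prime_iff_eq hqp Nat.prime_two).mp (hqp.dvd_of_dvd_pow h1)
  subst hq2
  haveI : Fact (Nat.Prime 2) := ⟨Nat.prime_two⟩
  have h2 : (2 : F) = 0 := by
    have h := CharP.cast_eq_zero F 2
    exact_mod_cast h
  refine ⟨fun t => t ^ 2 ^ (m + 1), fun t => rfl, h2, ?_, ?_, ?_, ?_⟩
  · intro a b
    exact add_pow_char_pow a b 2 (m + 1)
  · intro a b
    exact mul_pow a b _
  · exact one_pow _
  · intro x
    show (x ^ 2 ^ (m + 1)) ^ 2 ^ (m + 1) = x ^ 2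
    have h1 : (2 : ℕ) ^ (m + 1) * 2 ^ (m + 1) = 2 ^ (2 * m + 1) * 2 := by ring
    have h3 : x ^ 2 ^ (2 * m + 1) = x := by
      have h4 := FiniteField.pow_card x
      rwa [hF] at h4
    rw [← pow_mul, h1, pow_mul, h3]

theorem ov_std_def {F : Type*} [Field F] {m : ℕ} {θ : F → F}
    (hθm : ∀ t, θ t = t ^ 2 ^ (m + 1)) (v : Fin 4 → F) :
    IsStd θ v ↔ (v = ![1, 0, 0, 0] ∨ ∃ x y : F,
      v = ![x * y + x ^ (2 ^ (m + 1) + 2) + y ^ (2 ^ (m + 1)), y, x, 1]) := by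
  have hg : ∀ x y : F, x * y + x ^ (2 ^ (m + 1) + 2) + y ^ 2 ^ (m + 1) =
      x * y + θ x * x ^ 2 + θ y := by
    intro x y; rw [hθm, hθm, pow_add]
  constructor
  · rintro (h | ⟨x, y, h⟩)
    · exact Or.inl h
    · exact Or.inr ⟨x, y, by rw [h, hg]⟩
  · rintro (h | ⟨x, y, h⟩)
    · exact Or.inl h
    · exact Or.inr ⟨x, y, by rw [h, hg]⟩

theorem ov_std_mem {F : Type*} [Field F] {m : ℕ} {θ : F → F}
    (hθm : ∀ t, θ t = t ^ 2 ^ (m + 1)) {v : Fin 4 → F} (hv : IsStd θ v) (hv0 : v ≠ 0) :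
    Projectivization.mk F v hv0 ∈ Cfsg.suzukiOvoid F m :=
  ⟨v, hv0, rfl, (ov_std_def hθm v).mp hv⟩

theorem ov_stab_std {F : Type*} [Field F] {m : ℕ} {θ : F → F}
    (hθm : ∀ t, θ t = t ^ 2 ^ (m + 1)) {g : Matrix.SpecialLinearGroup (Fin 4) F}
    (hg : g ∈ Cfsg.Sz F m) {v : Fin 4 → F} (hv : IsStd θ v) :
    ∃ v' : Fin 4 → F, IsStd θ v' ∧ ∃ a : F, a ≠ 0 ∧
      (g : Matrix (Fin 4) (Fin 4) F) *ᵥ v = a • v' := by
  have hv0 := ov_std_ne_zero hv
  have hP := ov_std_mem hθm hv hv0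
  have h1 : g • Cfsg.suzukiOvoid F m = Cfsg.suzukiOvoid F m := MulAction.mem_stabilizer_iff.mp hg
  have h2 : g • Projectivization.mk F v hv0 ∈ g • Cfsg.suzukiOvoid F m :=
    Set.smul_mem_smul_set hP
  rw [h1, Projectivization.smul_mk] at h2
  obtain ⟨w, hw0, hPw, hwstd⟩ := h2
  obtain ⟨a, ha⟩ := (Projectivization.mk_eq_mk_iff F _ _ _ _).mp hPw
  exact ⟨w, (ov_std_def hθm w).mpr hwstd, (a : F), a.ne_zero, ha.symm⟩

theorem ov_mulVec_inj {F : Type*} [Field F] (g : Matrix.SpecialLinearGroup (Fin 4) F)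
    {x y : Fin 4 → F}
    (h : (g : Matrix (Fin 4) (Fin 4) F) *ᵥ x = (g : Matrix (Fin 4) (Fin 4) F) *ᵥ y) : x = y := by
  have h1 : ((g⁻¹ : Matrix.SpecialLinearGroup (Fin 4) F) : Matrix (Fin 4) (Fin 4) F) *
      (g : Matrix (Fin 4) (Fin 4) F) = 1 := by
    rw [← Matrix.SpecialLinearGroup.coe_mul, inv_mul_cancel, Matrix.SpecialLinearGroup.coe_one]
  have h2 := congrArg
    (fun z => ((g⁻¹ : Matrix.SpecialLinearGroup (Fin 4) F) : Matrix (Fin 4) (Fin 4) F) *ᵥ z) h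
  simp only [Matrix.mulVec_mulVec, h1, Matrix.one_mulVec] at h2
  exact h2

theorem ov_form_aux {F : Type*} [Field F] {θ : F → F} (hθ : OvTheta θ)
    (A : Matrix (Fin 4) (Fin 4) F) (hdet : A.det = 1)
    (hstab : ∀ v, IsStd θ v → ∃ v' : Fin 4 → F, IsStd θ v' ∧ ∃ a : F, a ≠ 0 ∧ A *ᵥ v = a • v')
    (hinj : ∀ x y : Fin 4 → F, A *ᵥ x = A *ᵥ y → x = y) :
    Aᵀ * Cfsg.suzukiForm F * A = Cfsg.suzukiForm F := by
  have hθ0 : θ 0 = 0 := by
    have h := hθ.hadd 0 0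
    rw [add_zero] at h
    linear_combination -h
  have j00 : Cfsg.suzukiForm F 0 0 = 0 := rfl
  have j01 : Cfsg.suzukiForm F 0 1 = 0 := rfl
  have j02 : Cfsg.suzukiForm F 0 2 = 0 := rfl
  have j03 : Cfsg.suzukiForm F 0 3 = 1 := rfl
  have j10 : Cfsg.suzukiForm F 1 0 = 0 := rfl
  have j11 : Cfsg.suzukiForm F 1 1 = 0 := rfl
  have j12 : Cfsg.suzukiForm F 1 2 = 1 := rfl
  have j13 : Cfsg.suzukiForm F 1 3 = 0 := rfl
  have j20 : Cfsg.suzukiForm F 2 0 = 0 := rfl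
  have j21 : Cfsg.suzukiForm F 2 1 = 1 := rfl
  have j22 : Cfsg.suzukiForm F 2 2 = 0 := rfl
  have j23 : Cfsg.suzukiForm F 2 3 = 0 := rfl
  have j30 : Cfsg.suzukiForm F 3 0 = 1 := rfl
  have j31 : Cfsg.suzukiForm F 3 1 = 0 := rfl
  have j32 : Cfsg.suzukiForm F 3 2 = 0 := rfl
  have j33 : Cfsg.suzukiForm F 3 3 = 0 := rfl
  have hB : ∀ i j, (Aᵀ * Cfsg.suzukiForm F * A) i j = ovB A i j := by
    intro i j
    simp only [Matrix.mul_apply, Fin.sum_univ_four, Matrix.transpose_apply, ovB,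
      j00, j01, j02, j03, j10, j11, j12, j13, j20, j21, j22, j23, j30, j31, j32, j33]
    ring
  have hsym : ∀ i j, ovB A i j = ovB A j i := by
    intro i j
    unfold ovB
    ring
  have hC : ∀ v, IsStd θ v → ∃ c : F, ∀ i, ovEll (ovB A) v i = c * v (Fin.rev i) := by
    intro v hv
    refine ov_T1 hθ hv ?_ ?_
    · rw [ov_bil]
      exact bJ_self hθ.h2 _
    · intro u hu huv
      rw [ov_bil]
      obtain ⟨u', hu', a, ha, hau⟩ := hstab u hu
      obtain ⟨v', hv', b, hb, hbv⟩ := hstab v hv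
      rw [hau, hbv, bJ_smul]
      have hne : u' ≠ v' := by
        intro h
        apply huv
        have h1 : A *ᵥ u = A *ᵥ ((a / b) • v) := by
          rw [Matrix.mulVec_smul, hau, hbv, h, smul_smul, div_mul_cancel₀ _ hb]
        exact ov_std_eq_of_smul hu hv (a / b) (hinj _ _ h1)
      exact mul_ne_zero (mul_ne_zero ha hb) (ov_T0 hθ hu' hv' hne)
  have s0 : IsStd θ (![1, 0, 0, 0] : Fin 4 → F) := Or.inl rfl
  have s3 : IsStd θ (![0, 0, 0, 1] : Fin 4 → F) := by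
    refine Or.inr ⟨0, 0, ?_⟩
    have e : (0 : F) * 0 + θ 0 * 0 ^ 2 + θ 0 = 0 := by rw [hθ0]; ring
    rw [e]
  have s1 : IsStd θ (![1, 0, 1, 1] : Fin 4 → F) := by
    refine Or.inr ⟨1, 0, ?_⟩
    have e : (1 : F) * 0 + θ 1 * 1 ^ 2 + θ 0 = 1 := by rw [hθ0, hθ.hone]; ring
    rw [e]
  have s2 : IsStd θ (![1, 1, 0, 1] : Fin 4 → F) := by
    refine Or.inr ⟨0, 1, ?_⟩
    have e : (0 : F) * 1 + θ 0 * 0 ^ 2 + θ 1 = 1 := by rw [hθ0, hθ.hone]; ring
    rw [e]
  obtain ⟨c0, h0⟩ := hC _ s0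
  obtain ⟨c3, h3⟩ := hC _ s3
  obtain ⟨c1, h1⟩ := hC _ s1
  obtain ⟨c2, h2⟩ := hC _ s2
  have a0 : ovB A 0 0 * 1 + ovB A 0 1 * 0 + ovB A 0 2 * 0 + ovB A 0 3 * 0 = c0 * 0 := h0 0
  have a1 : ovB A 1 0 * 1 + ovB A 1 1 * 0 + ovB A 1 2 * 0 + ovB A 1 3 * 0 = c0 * 0 := h0 1
  have a2 : ovB A 2 0 * 1 + ovB A 2 1 * 0 + ovB A 2 2 * 0 + ovB A 2 3 * 0 = c0 * 0 := h0 2
  have a3 : ovB A 3 0 * 1 + ovB A 3 1 * 0 + ovB A 3 2 * 0 + ovB A 3 3 * 0 = c0 * 1 := h0 3
  have d0 : ovB A 0 0 * 0 + ovB A 0 1 * 0 + ovB A 0 2 * 0 + ovB A 0 3 * 1 = c3 * 1 := h3 0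
  have d1 : ovB A 1 0 * 0 + ovB A 1 1 * 0 + ovB A 1 2 * 0 + ovB A 1 3 * 1 = c3 * 0 := h3 1
  have d2 : ovB A 2 0 * 0 + ovB A 2 1 * 0 + ovB A 2 2 * 0 + ovB A 2 3 * 1 = c3 * 0 := h3 2
  have d3 : ovB A 3 0 * 0 + ovB A 3 1 * 0 + ovB A 3 2 * 0 + ovB A 3 3 * 1 = c3 * 0 := h3 3
  have e0 : ovB A 0 0 * 1 + ovB A 0 1 * 0 + ovB A 0 2 * 1 + ovB A 0 3 * 1 = c1 * 1 := h1 0
  have e1 : ovB A 1 0 * 1 + ovB A 1 1 * 0 + ovB A 1 2 * 1 + ovB A 1 3 * 1 = c1 * 1 := h1 1
  have e2 : ovB A 2 0 * 1 + ovB A 2 1 * 0 + ovB A 2 2 * 1 + ovB A 2 3 * 1 = c1 * 0 := h1 2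
  have e3 : ovB A 3 0 * 1 + ovB A 3 1 * 0 + ovB A 3 2 * 1 + ovB A 3 3 * 1 = c1 * 1 := h1 3
  have f0 : ovB A 0 0 * 1 + ovB A 0 1 * 1 + ovB A 0 2 * 0 + ovB A 0 3 * 1 = c2 * 1 := h2 0
  have f1 : ovB A 1 0 * 1 + ovB A 1 1 * 1 + ovB A 1 2 * 0 + ovB A 1 3 * 1 = c2 * 0 := h2 1
  have f2 : ovB A 2 0 * 1 + ovB A 2 1 * 1 + ovB A 2 2 * 0 + ovB A 2 3 * 1 = c2 * 1 := h2 2
  have f3 : ovB A 3 0 * 1 + ovB A 3 1 * 1 + ovB A 3 2 * 0 + ovB A 3 3 * 1 = c2 * 1 := h2 3
  have b00 : ovB A 0 0 = 0 := by linear_combination a0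
  have b10 : ovB A 1 0 = 0 := by linear_combination a1
  have b20 : ovB A 2 0 = 0 := by linear_combination a2
  have b30 : ovB A 3 0 = c0 := by linear_combination a3
  have b13 : ovB A 1 3 = 0 := by linear_combination d1
  have b23 : ovB A 2 3 = 0 := by linear_combination d2
  have b33 : ovB A 3 3 = 0 := by linear_combination d3
  have b03 : ovB A 0 3 = c0 := by rw [hsym 0 3]; exact b30
  have b01 : ovB A 0 1 = 0 := by rw [hsym 0 1]; exact b10
  have b02 : ovB A 0 2 = 0 := by rw [hsym 0 2]; exact b20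
  have b31 : ovB A 3 1 = 0 := by rw [hsym 3 1]; exact b13
  have b32 : ovB A 3 2 = 0 := by rw [hsym 3 2]; exact b23
  have hc1 : c1 = c0 := by linear_combination -e0 + b00 + b02 + b03
  have hc2 : c2 = c0 := by linear_combination -f0 + b00 + b01 + b03
  have b12 : ovB A 1 2 = c0 := by linear_combination e1 - b10 - b13 + hc1
  have b11 : ovB A 1 1 = 0 := by linear_combination f1 - b10 - b13
  have b22 : ovB A 2 2 = 0 := by linear_combination e2 - b20 - b23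
  have b21 : ovB A 2 1 = c0 := by linear_combination f2 - b20 - b23 + hc2
  have hent : ∀ i j, ovB A i j = c0 * Cfsg.suzukiForm F i j := by
    refine ov_fin4 (ov_fin4 ?_ ?_ ?_ ?_) (ov_fin4 ?_ ?_ ?_ ?_) (ov_fin4 ?_ ?_ ?_ ?_)
      (ov_fin4 ?_ ?_ ?_ ?_)
    · rw [j00, b00, mul_zero]
    · rw [j01, b01, mul_zero]
    · rw [j02, b02, mul_zero]
    · rw [j03, b03, mul_one]
    · rw [j10, b10, mul_zero]
    · rw [j11, b11, mul_zero]
    · rw [j12, b12, mul_one]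
    · rw [j13, b13, mul_zero]
    · rw [j20, b20, mul_zero]
    · rw [j21, b21, mul_one]
    · rw [j22, b22, mul_zero]
    · rw [j23, b23, mul_zero]
    · rw [j30, b30, mul_one]
    · rw [j31, b31, mul_zero]
    · rw [j32, b32, mul_zero]
    · rw [j33, b33, mul_zero]
  have hM : Aᵀ * Cfsg.suzukiForm F * A = c0 • Cfsg.suzukiForm F := by
    ext i j
    rw [hB, hent, Matrix.smul_apply, smul_eq_mul]
  have hJJ' : ∀ i j, (Cfsg.suzukiForm F * Cfsg.suzukiForm F) i j =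
      (1 : Matrix (Fin 4) (Fin 4) F) i j := by
    refine ov_fin4 (ov_fin4 ?_ ?_ ?_ ?_) (ov_fin4 ?_ ?_ ?_ ?_) (ov_fin4 ?_ ?_ ?_ ?_)
      (ov_fin4 ?_ ?_ ?_ ?_) <;>
    simp [Matrix.mul_apply, Fin.sum_univ_four, Matrix.one_apply,
      j00, j01, j02, j03, j10, j11, j12, j13, j20, j21, j22, j23, j30, j31, j32, j33]
  have hJJ : Cfsg.suzukiForm F * Cfsg.suzukiForm F = 1 := by
    ext i j
    exact hJJ' i j
  have hdJ : (Cfsg.suzukiForm F).det ≠ 0 := by
    intro h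
    have h1 := congrArg Matrix.det hJJ
    rw [Matrix.det_mul, h, Matrix.det_one, zero_mul] at h1
    exact zero_ne_one h1
  have h4 : c0 ^ 4 = 1 := by
    have h1 := congrArg Matrix.det hM
    rw [Matrix.det_mul, Matrix.det_mul, Matrix.det_transpose, hdet, one_mul, mul_one,
      Matrix.det_smul, Fintype.card_fin] at h1
    have h2 : (c0 ^ 4 - 1) * (Cfsg.suzukiForm F).det = 0 := by linear_combination -h1
    rcases mul_eq_zero.mp h2 with h | h
    · linear_combination h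
    · exact absurd h hdJ
  have hc : c0 = 1 := by
    have h5 : (c0 - 1) ^ 4 = 0 := by
      linear_combination h4 + (1 - 2 * c0 ^ 3 + 3 * c0 ^ 2 - 2 * c0) * hθ.h2
    have h6 : c0 - 1 = 0 := (pow_eq_zero_iff (by norm_num)).mp h5
    linear_combination h6
  rw [hM, hc, one_smul]

theorem ov_form {F : Type*} [Field F] [Fintype F] {m : ℕ}
    (hF : Fintype.card F = 2 ^ (2 * m + 1)) {g : Matrix.SpecialLinearGroup (Fin 4) F}
    (hg : g ∈ Cfsg.Sz F m) :
    (g : Matrix (Fin 4) (Fin 4) F).transpose * Cfsg.suzukiForm F *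
      (g : Matrix (Fin 4) (Fin 4) F) = Cfsg.suzukiForm F := by
  obtain ⟨θ, hθm, hθ⟩ := ov_theta_exists hF
  exact ov_form_aux hθ _ g.det_coe (fun v hv => ov_stab_std hθm hg hv)
    (fun x y h => ov_mulVec_inj g h)

end Cfsg.Agent.Helper22
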