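import Mathlib
import Cfsg.Agent.Helper22.NilCover
import Cfsg.Agent.Helper24.NormalCenter

set_option autoImplicit false
set_option linter.style.haveILetI false
set_option linter.unusedSectionVars false

open Cfsg
open Matrix MatrixGroups
open scoped commutatorElement

namespace Cfsg.Agent.Helper22

section Generic

variable {Γ : Type*} [Group Γ]

def pglLift (G : Subgroup (Γ ⧸ Subgroup.center Γ)) (A : Subgroup ↥G) : Subgroup Γ :=
  (A.map G.subtype).comap (QuotientGroup.mk' (Subgroup.center Γ))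

theorem mem_pglLift (G : Subgroup (Γ ⧸ Subgroup.center Γ)) (A : Subgroup ↥G) (g : Γ) :
    g ∈ pglLift G A ↔ ∃ h : QuotientGroup.mk' (Subgroup.center Γ) g ∈ G,
      (⟨QuotientGroup.mk' (Subgroup.center Γ) g, h⟩ : ↥G) ∈ A := by
  unfold pglLift
  rw [Subgroup.mem_comap, Subgroup.mem_map]
  constructor
  · rintro ⟨⟨y, hyG⟩, hy, hyg⟩
    have h1 : y = QuotientGroup.mk' (Subgroup.center Γ) g := hyg
    subst h1
    exact ⟨hyG, hy⟩
  · rintro ⟨h, hA⟩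
    exact ⟨⟨_, h⟩, hA, rfl⟩

theorem pglLift_nilpotent (G : Subgroup (Γ ⧸ Subgroup.center Γ)) (A : Subgroup ↥G)
    (hA : Group.IsNilpotent ↥A) : Group.IsNilpotent ↥(pglLift G A) := by
  haveI : Group.IsNilpotent ↥(A.map G.subtype) := S1473.nilpotent_map G.subtype A hA
  let f : ↥(pglLift G A) →* ↥(A.map G.subtype) :=
    ((QuotientGroup.mk' (Subgroup.center Γ)).comp (pglLift G A).subtype).codRestrict
      (A.map G.subtype) (fun g => g.2)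
  refine Subgroup.isNilpotent_of_ker_le_center f ?_
  intro g hg
  rw [MonoidHom.mem_ker] at hg
  have h1 : QuotientGroup.mk' (Subgroup.center Γ) g.1 = 1 :=
    congrArg Subtype.val hg
  have h2 : g.1 ∈ Subgroup.center Γ := by
    have h3 : ((g.1 : Γ) : Γ ⧸ Subgroup.center Γ) = 1 := h1
    exact (QuotientGroup.eq_one_iff _).mp h3
  rw [Subgroup.mem_center_iff]
  intro x
  exact Subtype.ext (Subgroup.mem_center_iff.mp h2 x.1)

def downSub (G : Subgroup (Γ ⧸ Subgroup.center Γ)) (S : Subgroup Γ) : Subgroup ↥G :=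
  (S.map (QuotientGroup.mk' (Subgroup.center Γ))).subgroupOf G

theorem mk_mem_downSub (G : Subgroup (Γ ⧸ Subgroup.center Γ)) (S : Subgroup Γ)
    (hZS : Subgroup.center Γ ≤ S) (g : Γ) (hg : QuotientGroup.mk' (Subgroup.center Γ) g ∈ G) :
    (⟨QuotientGroup.mk' (Subgroup.center Γ) g, hg⟩ : ↥G) ∈ downSub G S ↔ g ∈ S := by
  unfold downSub
  rw [Subgroup.mem_subgroupOf, Subgroup.mem_map]
  constructor
  · rintro ⟨s, hs, hsg⟩
    have h1 : QuotientGroup.mk' (Subgroup.center Γ) s =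
        QuotientGroup.mk' (Subgroup.center Γ) g := hsg
    rw [QuotientGroup.mk'_eq_mk'] at h1
    obtain ⟨z, hz, hszg⟩ := h1
    rw [← hszg]
    exact mul_mem hs (hZS hz)
  · intro hgS
    exact ⟨g, hgS, rfl⟩

theorem le_downSub_of_lift_le (G : Subgroup (Γ ⧸ Subgroup.center Γ)) (S : Subgroup Γ)
    (hZS : Subgroup.center Γ ≤ S) (C : Subgroup ↥G) (hC : pglLift G C ≤ S) :
    C ≤ downSub G S := by
  intro x hx
  obtain ⟨g, hg⟩ := QuotientGroup.mk'_surjective (Subgroup.center Γ) x.1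
  have hgG : QuotientGroup.mk' (Subgroup.center Γ) g ∈ G := by rw [hg]; exact x.2
  have hxe : x = ⟨QuotientGroup.mk' (Subgroup.center Γ) g, hgG⟩ := Subtype.ext hg.symm
  rw [hxe] at hx ⊢
  rw [mk_mem_downSub G S hZS g hgG]
  exact hC ((mem_pglLift G C g).mpr ⟨hgG, hx⟩)

theorem cover_contra (G : Subgroup (Γ ⧸ Subgroup.center Γ)) {𝓐 : Finset (Subgroup ↥G)}
    (h𝓐 : IsNMC 𝓐) (S : Subgroup Γ) (hZS : Subgroup.center Γ ≤ S)
    (g₀ : Γ) (hg₀G : QuotientGroup.mk' (Subgroup.center Γ) g₀ ∈ G) (hg₀S : g₀ ∉ S)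
    (a b : Γ) (haG : QuotientGroup.mk' (Subgroup.center Γ) a ∈ G)
    (hbG : QuotientGroup.mk' (Subgroup.center Γ) b ∈ G)
    (haS : ∀ H : Subgroup Γ, Group.IsNilpotent ↥H → a ∈ H → H ≤ S)
    (hbS : ∀ H : Subgroup Γ, Group.IsNilpotent ↥H → b ∈ H → H ≤ S)
    (hab : ∀ H : Subgroup Γ, Group.IsNilpotent ↥H → a ∈ H → b ∈ H → False) : False := by
  obtain ⟨A, hA, haA⟩ := h𝓐.1.2 ⟨_, haG⟩
  obtain ⟨B, hB, hbB⟩ := h𝓐.1.2 ⟨_, hbG⟩
  have hAn := pglLift_nilpotent G A (h𝓐.2.2 A hA)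
  have hBn := pglLift_nilpotent G B (h𝓐.2.2 B hB)
  have haL : a ∈ pglLift G A := (mem_pglLift G A a).mpr ⟨haG, haA⟩
  have hbL : b ∈ pglLift G B := (mem_pglLift G B b).mpr ⟨hbG, hbB⟩
  have hAS : A ≤ downSub G S := le_downSub_of_lift_le G S hZS A (haS _ hAn haL)
  have hBS : B ≤ downSub G S := le_downSub_of_lift_le G S hZS B (hbS _ hBn hbL)
  have hne : A ≠ B := by
    intro hAB
    rw [← hAB] at hbL
    exact hab _ hAn haL hbL
  have htop : downSub G S ≠ ⊤ := by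
    intro ht
    have h1 : (⟨_, hg₀G⟩ : ↥G) ∈ downSub G S := by rw [ht]; exact Subgroup.mem_top _
    exact hg₀S ((mk_mem_downSub G S hZS g₀ hg₀G).mp h1)
  exact nmc_no_two_in h𝓐 hA hB hne htop hAS hBS

end Generic

theorem replace_contra {G : Type*} [Group G] {𝓐 : Finset (Subgroup G)} (h𝓐 : IsNMC 𝓐)
    (𝓑 : Finset (Subgroup G)) (h𝓑 : ∀ B ∈ 𝓑, B ≠ ⊤)
    (hR1 : ∀ B ∈ 𝓑, ∃ A ∈ 𝓐, A ≤ B ∧ ∀ B' ∈ 𝓑, A ≤ B' → B' = B)
    (Astar : Subgroup G) (hAs : Astar ∈ 𝓐) (hAs1 : ∀ x ∈ Astar, ∃ B ∈ 𝓑, x ∈ B)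
    (hAs2 : ∀ B ∈ 𝓑, ¬ Astar ≤ B) : False := by
  classical
  choose! f hf using hR1
  obtain ⟨⟨hprop, hcov⟩, hmin, -⟩ := h𝓐
  obtain ⟨𝓣, h𝓣⟩ : ∃ 𝓣, 𝓣 = 𝓐.filter (fun A => ∀ x ∈ A, ∃ B ∈ 𝓑, x ∈ B) := ⟨_, rfl⟩
  have hmem𝓣 : ∀ A, A ∈ 𝓣 ↔ A ∈ 𝓐 ∧ ∀ x ∈ A, ∃ B ∈ 𝓑, x ∈ B := by
    intro A; rw [h𝓣, Finset.mem_filter]
  have h𝓣sub : 𝓣 ⊆ 𝓐 := by
    intro A hA; exact ((hmem𝓣 A).mp hA).1
  have hAs𝓣 : Astar ∈ 𝓣 := (hmem𝓣 Astar).mpr ⟨hAs, hAs1⟩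
  have hcard1 : 𝓑.card ≤ (𝓣.erase Astar).card := by
    refine Finset.card_le_card_of_injOn f ?_ ?_
    · intro B hB
      have hB' : B ∈ 𝓑 := Finset.mem_coe.mp hB
      obtain ⟨h1, h2, h3⟩ := hf B hB'
      refine Finset.mem_coe.mpr (Finset.mem_erase.mpr
        ⟨?_, (hmem𝓣 _).mpr ⟨h1, fun x hx => ⟨B, hB', h2 hx⟩⟩⟩)
      intro he
      exact hAs2 B hB' (by rw [← he]; exact h2)
    · intro B hB B' hB' hBB'
      have hB1 : B ∈ 𝓑 := Finset.mem_coe.mp hB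
      have hB1' : B' ∈ 𝓑 := Finset.mem_coe.mp hB'
      obtain ⟨h1, h2, h3⟩ := hf B hB1
      obtain ⟨h1', h2', h3'⟩ := hf B' hB1'
      exact (h3 B' hB1' (by rw [hBB']; exact h2')).symm
  have hnew : (∀ A ∈ (𝓐 \ 𝓣) ∪ 𝓑, A ≠ ⊤) ∧ (∀ g : G, ∃ A ∈ (𝓐 \ 𝓣) ∪ 𝓑, g ∈ A) := by
    constructor
    · intro A hA
      rcases Finset.mem_union.mp hA with hA | hA
      · exact hprop A (Finset.mem_sdiff.mp hA).1
      · exact h𝓑 A hA
    · intro g
      obtain ⟨A, hA, hgA⟩ := hcov g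
      by_cases hAT : A ∈ 𝓣
      · obtain ⟨B, hB, hgB⟩ := ((hmem𝓣 A).mp hAT).2 g hgA
        exact ⟨B, Finset.mem_union_right _ hB, hgB⟩
      · exact ⟨A, Finset.mem_union_left _ (Finset.mem_sdiff.mpr ⟨hA, hAT⟩), hgA⟩
  have h1 := hmin _ hnew
  have h2 : ((𝓐 \ 𝓣) ∪ 𝓑).card ≤ (𝓐 \ 𝓣).card + 𝓑.card := Finset.card_union_le _ _
  have h3 : (𝓐 \ 𝓣).card = 𝓐.card - 𝓣.card := Finset.card_sdiff_of_subset h𝓣sub
  have h4 : (𝓣.erase Astar).card = 𝓣.card - 1 := Finset.card_erase_of_mem hAs𝓣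
  have h5 : 𝓣.card ≤ 𝓐.card := Finset.card_le_card h𝓣sub
  have h6 : 0 < 𝓣.card := Finset.card_pos.mpr ⟨Astar, hAs𝓣⟩
  omega

theorem regular_key {Γ : Type*} [Group Γ] [Finite Γ] {V : Type*} [Finite V] {K : Type*}
    (act : Γ → V → V) (act_one : ∀ v, act 1 v = v)
    (act_mul : ∀ g h v, act (g * h) v = act g (act h v))
    (sc : K → V → V) (comm : ∀ g c v, act g (sc c v) = sc c (act g v))
    (sc_inj : ∀ c v w, sc c v = sc c w → v = w)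
    (p : ℕ) [hp : Fact p.Prime] (hpV : p ∣ Nat.card V) (o : V) (ho : ∀ g, act g o = o)
    (u : Γ) (k : ℕ) (huk : u ^ p ^ k = 1) (v₀ : V) (hv₀ : v₀ ≠ o) (huv : act u v₀ = v₀)
    (hreg : ∀ w, act u w = w → w ≠ o → ∃ c : K, w = sc c v₀)
    (S : Subgroup Γ) (hS : ∀ g, g ∈ S ↔ ∃ c : K, act g v₀ = sc c v₀)
    (H : Subgroup Γ) (hH : Group.IsNilpotent ↥H) (huH : u ∈ H) : H ≤ S := by
  intro g hg
  haveI := hH
  obtain ⟨a, m, hcop, hord1, hord2⟩ := Helper21.exists_pparts p g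
  have huord : orderOf (⟨u, huH⟩ : ↥H) ∣ p ^ k := by
    apply orderOf_dvd_of_pow_eq_one
    exact Subtype.ext (by rw [Subgroup.coe_pow]; exact huk)
  refine Helper21.mem_of_pow_mem_of_coprime (m := m) (k := p ^ a)
    (Nat.Coprime.pow_right a hcop) ?_ ?_
  · rw [hS]
    obtain ⟨S0⟩ : Nonempty (Sylow p ↥H) := inferInstance
    have htf := (Group.isNilpotent_of_finite_tfae (G := ↥H)).out 0 3
    have hSn : (S0 : Subgroup ↥H).Normal := htf.mp hH p hp S0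
    have hsub : Subsingleton (Sylow p ↥H) :=
      @Unique.instSubsingleton _ (Sylow.unique_of_normal S0 hSn)
    have hmemS : ∀ x : ↥H, (∃ j, orderOf x = p ^ j) → x ∈ (S0 : Subgroup ↥H) := by
      intro x ⟨j, hj⟩
      have hz : IsPGroup p ↥(Subgroup.zpowers x) :=
        IsPGroup.of_card (n := j) (by rw [Nat.card_zpowers, hj])
      obtain ⟨S', hS'⟩ := hz.exists_le_sylow
      have hSS : S' = S0 := Subsingleton.elim _ _
      rw [← hSS]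
      exact hS' (Subgroup.mem_zpowers x)
    have huS0 : (⟨u, huH⟩ : ↥H) ∈ (S0 : Subgroup ↥H) := by
      apply hmemS
      obtain ⟨j, -, hj⟩ := (Nat.dvd_prime_pow hp.out).mp huord
      exact ⟨j, hj⟩
    have hgS0 : (⟨g ^ m, pow_mem hg _⟩ : ↥H) ∈ (S0 : Subgroup ↥H) := by
      apply hmemS
      exact ⟨a, (Subgroup.orderOf_mk _ _).trans hord2⟩
    letI actI : MulAction ↥(S0 : Subgroup ↥H) V :=
      { smul := fun x v => act ((x : ↥H) : Γ) v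
        one_smul := fun v => act_one v
        mul_smul := fun x y v => act_mul ((x : ↥H) : Γ) ((y : ↥H) : Γ) v }
    have hfix : o ∈ MulAction.fixedPoints ↥(S0 : Subgroup ↥H) V := by
      intro x
      exact ho _
    obtain ⟨w, hw, how⟩ :=
      S0.2.exists_fixed_point_of_prime_dvd_card_of_fixed_point V hpV hfix
    have hwu : act u w = w := hw ⟨⟨u, huH⟩, huS0⟩
    obtain ⟨c, hc⟩ := hreg w hwu (Ne.symm how)
    have hwg : act (g ^ m) w = w := hw ⟨⟨g ^ m, pow_mem hg _⟩, hgS0⟩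
    rw [hc, comm] at hwg
    have h3 := sc_inj c _ _ hwg
    obtain ⟨c0, hc0⟩ := hreg v₀ huv hv₀
    exact ⟨c0, by rw [h3]; exact hc0⟩
  · rw [hS]
    have hc : (⟨u, huH⟩ : ↥H) * ⟨g ^ p ^ a, pow_mem hg _⟩ =
        ⟨g ^ p ^ a, pow_mem hg _⟩ * ⟨u, huH⟩ := by
      apply S1473.comm_of_coprime
      have h2 : orderOf (⟨g ^ p ^ a, pow_mem hg _⟩ : ↥H) = m :=
        (Subgroup.orderOf_mk _ _).trans hord1
      rw [h2]
      exact Nat.Coprime.coprime_dvd_left huord (Nat.Coprime.pow_left k hcop.symm)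
    have hc' : u * g ^ p ^ a = g ^ p ^ a * u := congrArg Subtype.val hc
    have hfix : act u (act (g ^ p ^ a) v₀) = act (g ^ p ^ a) v₀ := by
      rw [← act_mul, hc', act_mul, huv]
    have hne : act (g ^ p ^ a) v₀ ≠ o := by
      intro h0
      have h1 : act (g ^ p ^ a)⁻¹ (act (g ^ p ^ a) v₀) = v₀ := by
        rw [← act_mul, inv_mul_cancel, act_one]
      rw [h0, ho] at h1
      exact hv₀ h1.symm
    exact hreg _ hfix hne

end Cfsg.Agent.Helper22
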