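import Mathlib
import Cfsg.Agent.Helper22.PglCover

set_option autoImplicit false
set_option linter.style.haveILetI false
set_option linter.unusedSectionVars false

open Cfsg
open Matrix MatrixGroups
open scoped commutatorElement

namespace Cfsg.Agent.Helper22

section Mat

variable {n : ℕ} {F : Type*} [Field F]

theorem gl_inv_mulVec (w : GL (Fin n) F) (x : Fin n → F) : (w⁻¹).val *ᵥ (w.val *ᵥ x) = x := by
  rw [Matrix.mulVec_mulVec, ← Units.val_mul, inv_mul_cancel, Units.val_one, Matrix.one_mulVec]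

theorem gl_mulVec_inv (w : GL (Fin n) F) (x : Fin n → F) : w.val *ᵥ ((w⁻¹).val *ᵥ x) = x := by
  rw [Matrix.mulVec_mulVec, ← Units.val_mul, mul_inv_cancel, Units.val_one, Matrix.one_mulVec]

theorem gl_vecMul_inv (w : GL (Fin n) F) (x : Fin n → F) : (x ᵥ* (w⁻¹).val) ᵥ* w.val = x := by
  rw [Matrix.vecMul_vecMul, ← Units.val_mul, inv_mul_cancel, Units.val_one, Matrix.vecMul_one]

theorem gl_inv_vecMul (w : GL (Fin n) F) (x : Fin n → F) : (x ᵥ* w.val) ᵥ* (w⁻¹).val = x := by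
  rw [Matrix.vecMul_vecMul, ← Units.val_mul, mul_inv_cancel, Units.val_one, Matrix.vecMul_one]

theorem gl_mulVec_ne_zero (w : GL (Fin n) F) (x : Fin n → F) (hx : x ≠ 0) : w.val *ᵥ x ≠ 0 := by
  intro h0
  apply hx
  have := gl_inv_mulVec w x
  rw [h0, Matrix.mulVec_zero] at this
  exact this.symm

theorem gl_det_ne_zero (g : GL (Fin n) F) : g.val.det ≠ 0 :=
  ((Matrix.isUnit_iff_isUnit_det g.val).mp g.isUnit).ne_zero

def colStab (v : Fin n → F) : Subgroup (GL (Fin n) F) where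
  carrier := {g | ∃ c : Fˣ, g.val *ᵥ v = (c : F) • v}
  one_mem' := ⟨1, by rw [Units.val_one, Matrix.one_mulVec, Units.val_one, one_smul]⟩
  mul_mem' := by
    rintro g h ⟨c, hc⟩ ⟨d, hd⟩
    refine ⟨d * c, ?_⟩
    rw [Units.val_mul g h, ← Matrix.mulVec_mulVec, hd, Matrix.mulVec_smul, hc,
      Units.val_mul d c, mul_smul]
  inv_mem' := by
    rintro g ⟨c, hc⟩
    refine ⟨c⁻¹, ?_⟩
    have h1 : (g⁻¹).val *ᵥ (g.val *ᵥ v) = v := gl_inv_mulVec g v
    rw [hc, Matrix.mulVec_smul] at h1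
    have h2 : ((c⁻¹ : Fˣ) : F) • ((c : F) • ((g⁻¹).val *ᵥ v)) = (g⁻¹).val *ᵥ v := by
      rw [smul_smul, ← Units.val_mul, inv_mul_cancel, Units.val_one, one_smul]
    rw [h1] at h2
    exact h2.symm

def rowStab (φ : Fin n → F) : Subgroup (GL (Fin n) F) where
  carrier := {g | ∃ c : Fˣ, φ ᵥ* g.val = (c : F) • φ}
  one_mem' := ⟨1, by rw [Units.val_one, Matrix.vecMul_one, Units.val_one, one_smul]⟩
  mul_mem' := by
    rintro g h ⟨c, hc⟩ ⟨d, hd⟩
    refine ⟨c * d, ?_⟩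
    rw [Units.val_mul g h, ← Matrix.vecMul_vecMul, hc, Matrix.smul_vecMul, hd,
      Units.val_mul c d, mul_smul]
  inv_mem' := by
    rintro g ⟨c, hc⟩
    refine ⟨c⁻¹, ?_⟩
    have h1 : (φ ᵥ* g.val) ᵥ* (g⁻¹).val = φ := gl_inv_vecMul g φ
    rw [hc, Matrix.smul_vecMul] at h1
    have h2 : ((c⁻¹ : Fˣ) : F) • ((c : F) • (φ ᵥ* (g⁻¹).val)) = φ ᵥ* (g⁻¹).val := by
      rw [smul_smul, ← Units.val_mul, inv_mul_cancel, Units.val_one, one_smul]
    rw [h1] at h2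
    exact h2.symm

theorem mem_colStab (v : Fin n → F) (g : GL (Fin n) F) :
    g ∈ colStab v ↔ ∃ c : Fˣ, g.val *ᵥ v = (c : F) • v := Iff.rfl

theorem mem_rowStab (φ : Fin n → F) (g : GL (Fin n) F) :
    g ∈ rowStab φ ↔ ∃ c : Fˣ, φ ᵥ* g.val = (c : F) • φ := Iff.rfl

theorem mem_rowStab_inv (φ : Fin n → F) (g : GL (Fin n) F) :
    g ∈ rowStab φ ↔ ∃ c : Fˣ, φ ᵥ* (g⁻¹).val = (c : F) • φ := by
  constructor
  · intro h
    exact (rowStab φ).inv_mem h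
  · intro h
    have h' : g⁻¹ ∈ rowStab φ := h
    have h2 := (rowStab φ).inv_mem h'
    rwa [inv_inv] at h2

theorem center_scalar (z : GL (Fin n) F) (hz : z ∈ Subgroup.center (GL (Fin n) F)) :
    ∃ κ : Fˣ, z.val = Matrix.diagonal (fun _ => (κ : F)) := by
  rw [Matrix.GeneralLinearGroup.center_eq_range_scalar] at hz
  obtain ⟨κ, rfl⟩ := hz
  exact ⟨κ, rfl⟩

theorem scalar_mem_center (z : GL (Fin n) F) (κ : F) (hz : z.val = Matrix.diagonal (fun _ => κ)) :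
    z ∈ Subgroup.center (GL (Fin n) F) := by
  rw [Matrix.GeneralLinearGroup.mem_center_iff_val_mem_range_scalar]
  exact ⟨κ, hz.symm⟩

theorem center_le_colStab (v : Fin n → F) : Subgroup.center (GL (Fin n) F) ≤ colStab v := by
  intro z hz
  obtain ⟨κ, hκ⟩ := center_scalar z hz
  refine ⟨κ, ?_⟩
  rw [hκ]
  funext i
  rw [Matrix.mulVec_diagonal]
  rfl

theorem center_le_rowStab (φ : Fin n → F) : Subgroup.center (GL (Fin n) F) ≤ rowStab φ := by
  intro z hz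
  obtain ⟨κ, hκ⟩ := center_scalar z hz
  refine ⟨κ, ?_⟩
  rw [hκ]
  funext i
  rw [Matrix.vecMul_diagonal]
  show φ i * (κ : F) = (κ : F) * φ i
  exact mul_comm _ _

theorem card_vec_dvd [Fintype F] (hn : 0 < n) (p : ℕ) [CharP F p] :
    p ∣ Nat.card (Fin n → F) := by
  obtain ⟨k, hpk, hk⟩ := FiniteField.card F p
  have h1 : Nat.card (Fin n → F) = (p ^ (k : ℕ)) ^ n := by
    rw [Nat.card_fun, Nat.card_eq_fintype_card, Nat.card_eq_fintype_card, hk, Fintype.card_fin]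
  rw [h1]
  exact dvd_pow (dvd_pow_self p k.ne_zero) hn.ne'

def ColReg (u : GL (Fin n) F) (v₀ : Fin n → F) : Prop :=
  v₀ ≠ 0 ∧ u.val *ᵥ v₀ = v₀ ∧
    ∀ w : Fin n → F, u.val *ᵥ w = w → w ≠ 0 → ∃ c : Fˣ, w = (c : F) • v₀

def RowReg (u : GL (Fin n) F) (φ₀ : Fin n → F) : Prop :=
  φ₀ ≠ 0 ∧ φ₀ ᵥ* u.val = φ₀ ∧
    ∀ w : Fin n → F, w ᵥ* u.val = w → w ≠ 0 → ∃ c : Fˣ, w = (c : F) • φ₀

theorem unit_smul_inj (c : Fˣ) (v w : Fin n → F) (h : (c : F) • v = (c : F) • w) : v = w := by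
  have h2 : ((c⁻¹ : Fˣ) : F) • ((c : F) • v) = ((c⁻¹ : Fˣ) : F) • ((c : F) • w) := by rw [h]
  rw [smul_smul, smul_smul, ← Units.val_mul, inv_mul_cancel, Units.val_one, one_smul,
    one_smul] at h2
  exact h2

theorem col_key [Fintype F] (p : ℕ) [hp : Fact p.Prime] [CharP F p] (u : GL (Fin n) F) (k : ℕ)
    (huk : u ^ p ^ k = 1) (v₀ : Fin n → F) (hreg : ColReg u v₀) (H : Subgroup (GL (Fin n) F))
    (hH : Group.IsNilpotent ↥H) (huH : u ∈ H) : H ≤ colStab v₀ := by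
  have hn : 0 < n := by
    rcases Nat.eq_zero_or_pos n with h0 | h0
    · exfalso
      subst h0
      exact hreg.1 (funext fun i => i.elim0)
    · exact h0
  refine regular_key (K := Fˣ) (fun g v => g.val *ᵥ v) (fun v => ?_) (fun g h v => ?_)
    (fun c v => (c : F) • v) (fun g c v => ?_) (fun c v w h => unit_smul_inj c v w h) p
    (card_vec_dvd hn p) 0 (fun g => ?_)
    u k huk v₀ hreg.1 hreg.2.1 hreg.2.2 (colStab v₀) (fun g => Iff.rfl) H hH huH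
  · show (1 : GL (Fin n) F).val *ᵥ v = v
    rw [Units.val_one, Matrix.one_mulVec]
  · show (g * h).val *ᵥ v = g.val *ᵥ (h.val *ᵥ v)
    rw [Units.val_mul, Matrix.mulVec_mulVec]
  · show g.val *ᵥ ((c : F) • v) = (c : F) • (g.val *ᵥ v)
    rw [Matrix.mulVec_smul]
  · show g.val *ᵥ (0 : Fin n → F) = 0
    rw [Matrix.mulVec_zero]

theorem row_key [Fintype F] (p : ℕ) [hp : Fact p.Prime] [CharP F p] (u : GL (Fin n) F) (k : ℕ)
    (huk : u ^ p ^ k = 1) (φ₀ : Fin n → F) (hreg : RowReg u φ₀) (H : Subgroup (GL (Fin n) F))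
    (hH : Group.IsNilpotent ↥H) (huH : u ∈ H) : H ≤ rowStab φ₀ := by
  have hn : 0 < n := by
    rcases Nat.eq_zero_or_pos n with h0 | h0
    · exfalso
      subst h0
      exact hreg.1 (funext fun i => i.elim0)
    · exact h0
  have hfixinv : ∀ w : Fin n → F, w ᵥ* (u⁻¹).val = w ↔ w ᵥ* u.val = w := by
    intro w
    constructor
    · intro h
      have h1 : (w ᵥ* (u⁻¹).val) ᵥ* u.val = w := gl_vecMul_inv u w
      rw [h] at h1
      exact h1
    · intro h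
      have h1 : (w ᵥ* u.val) ᵥ* (u⁻¹).val = w := gl_inv_vecMul u w
      rw [h] at h1
      exact h1
  refine regular_key (K := Fˣ) (fun g φ => φ ᵥ* (g⁻¹).val) (fun v => ?_) (fun g h v => ?_)
    (fun c v => (c : F) • v) (fun g c v => ?_) (fun c v w h => unit_smul_inj c v w h) p
    (card_vec_dvd hn p) 0 (fun g => ?_)
    u k huk φ₀ hreg.1 ((hfixinv φ₀).mpr hreg.2.1)
    (fun w hw hw0 => hreg.2.2 w ((hfixinv w).mp hw) hw0)
    (rowStab φ₀) (fun g => mem_rowStab_inv φ₀ g) H hH huH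
  · show v ᵥ* ((1 : GL (Fin n) F)⁻¹).val = v
    rw [inv_one, Units.val_one, Matrix.vecMul_one]
  · show v ᵥ* ((g * h)⁻¹).val = (v ᵥ* (h⁻¹).val) ᵥ* (g⁻¹).val
    rw [_root_.mul_inv_rev, Units.val_mul, Matrix.vecMul_vecMul]
  · show ((c : F) • v) ᵥ* (g⁻¹).val = (c : F) • (v ᵥ* (g⁻¹).val)
    rw [Matrix.smul_vecMul]
  · show (0 : Fin n → F) ᵥ* (g⁻¹).val = 0
    rw [Matrix.zero_vecMul]

theorem eig_one_of_pow (p : ℕ) [hp : Fact p.Prime] [CharP F p] (g : GL (Fin n) F) (k : ℕ)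
    (hg : g ^ p ^ k = 1) (v : Fin n → F) (hv : v ≠ 0) (c : F) (hc : g.val *ᵥ v = c • v) :
    c = 1 := by
  have h1 : ∀ m : ℕ, (g ^ m).val *ᵥ v = c ^ m • v := by
    intro m
    induction m with
    | zero => rw [pow_zero, pow_zero, Units.val_one, Matrix.one_mulVec, one_smul]
    | succ m ih =>
      rw [pow_succ g m, Units.val_mul, ← Matrix.mulVec_mulVec, hc, Matrix.mulVec_smul, ih,
        smul_smul, pow_succ c m, mul_comm]
  have h2 := h1 (p ^ k)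
  rw [hg, Units.val_one, Matrix.one_mulVec] at h2
  have h3 : c ^ p ^ k = 1 := by
    by_contra hne
    apply hv
    have h4 : (c ^ p ^ k - 1) • v = 0 := by rw [sub_smul, one_smul, ← h2, sub_self]
    rcases smul_eq_zero.mp h4 with h5 | h5
    · exact absurd (sub_eq_zero.mp h5) hne
    · exact h5
  have h6 : (c - 1) ^ p ^ k = 0 := by rw [sub_pow_char_pow, h3, one_pow, sub_self]
  exact sub_eq_zero.mp ((pow_eq_zero_iff (pow_ne_zero k hp.out.ne_zero)).mp h6)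

theorem colReg_conj (u w : GL (Fin n) F) (v₀ : Fin n → F) (h : ColReg u v₀) :
    ColReg (w * u * w⁻¹) (w.val *ᵥ v₀) := by
  have hconj : ∀ x : Fin n → F,
      (w * u * w⁻¹).val *ᵥ x = w.val *ᵥ (u.val *ᵥ ((w⁻¹).val *ᵥ x)) := by
    intro x
    rw [Units.val_mul, Units.val_mul, ← Matrix.mulVec_mulVec, ← Matrix.mulVec_mulVec]
  refine ⟨gl_mulVec_ne_zero w v₀ h.1, ?_, ?_⟩
  · rw [hconj, gl_inv_mulVec, h.2.1]
  · intro x hx hx0
    rw [hconj] at hx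
    have h1 : u.val *ᵥ ((w⁻¹).val *ᵥ x) = (w⁻¹).val *ᵥ x := by
      have h3 : (w⁻¹).val *ᵥ (w.val *ᵥ (u.val *ᵥ ((w⁻¹).val *ᵥ x))) = (w⁻¹).val *ᵥ x := by
        rw [hx]
      rw [gl_inv_mulVec] at h3
      exact h3
    have h2 : (w⁻¹).val *ᵥ x ≠ 0 := gl_mulVec_ne_zero w⁻¹ x hx0
    obtain ⟨c, hc⟩ := h.2.2 _ h1 h2
    refine ⟨c, ?_⟩
    rw [← Matrix.mulVec_smul, ← hc, gl_mulVec_inv]

theorem rowReg_conj (u w : GL (Fin n) F) (φ₀ : Fin n → F) (h : RowReg u φ₀) :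
    RowReg (w * u * w⁻¹) (φ₀ ᵥ* (w⁻¹).val) := by
  have hconj : ∀ x : Fin n → F,
      x ᵥ* (w * u * w⁻¹).val = ((x ᵥ* w.val) ᵥ* u.val) ᵥ* (w⁻¹).val := by
    intro x
    rw [Units.val_mul, Units.val_mul, Matrix.vecMul_vecMul, Matrix.vecMul_vecMul, mul_assoc]
  refine ⟨?_, ?_, ?_⟩
  · intro h0
    apply h.1
    have := gl_vecMul_inv w φ₀
    rw [h0, Matrix.zero_vecMul] at this
    exact this.symm
  · rw [hconj, gl_vecMul_inv, h.2.1]
  · intro x hx hx0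
    rw [hconj] at hx
    have h1 : (x ᵥ* w.val) ᵥ* u.val = x ᵥ* w.val := by
      have h3 : (((x ᵥ* w.val) ᵥ* u.val) ᵥ* (w⁻¹).val) ᵥ* w.val = x ᵥ* w.val := by rw [hx]
      rw [gl_vecMul_inv] at h3
      exact h3
    have h2 : x ᵥ* w.val ≠ 0 := by
      intro h0
      apply hx0
      have := gl_inv_vecMul w x
      rw [h0, Matrix.zero_vecMul] at this
      exact this.symm
    obtain ⟨c, hc⟩ := h.2.2 _ h1 h2
    refine ⟨c, ?_⟩
    rw [← Matrix.smul_vecMul, ← hc, gl_inv_vecMul]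

theorem colStab_smul (κ : Fˣ) (v : Fin n → F) : colStab ((κ : F) • v) = colStab v := by
  ext g
  constructor
  · rintro ⟨c, hc⟩
    refine ⟨c, ?_⟩
    rw [Matrix.mulVec_smul, smul_comm] at hc
    exact unit_smul_inj κ _ _ hc
  · rintro ⟨c, hc⟩
    refine ⟨c, ?_⟩
    rw [Matrix.mulVec_smul, hc, smul_comm]

theorem colStab_of_colReg (p : ℕ) [hp : Fact p.Prime] [CharP F p] (u : GL (Fin n) F) (k : ℕ)
    (hu : u ^ p ^ k = 1) (v₀ : Fin n → F) (hreg : ColReg u v₀) (v : Fin n → F) (hv : v ≠ 0)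
    (h : u ∈ colStab v) : ∃ κ : Fˣ, v = (κ : F) • v₀ := by
  obtain ⟨c, hc⟩ := h
  have h1 := eig_one_of_pow p u k hu v hv c hc
  rw [h1, one_smul] at hc
  exact hreg.2.2 v hc hv

theorem mem_range_toGL (g : GL (Fin n) F) (h : g.val.det = 1) :
    g ∈ (Matrix.SpecialLinearGroup.toGL :
      Matrix.SpecialLinearGroup (Fin n) F →* GL (Fin n) F).range :=
  ⟨⟨g.val, h⟩, Units.ext rfl⟩

theorem mk_mem_of_det {G : Subgroup (GL (Fin n) F ⧸ Subgroup.center (GL (Fin n) F))}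
    (hG : ((Matrix.SpecialLinearGroup.toGL :
      Matrix.SpecialLinearGroup (Fin n) F →* GL (Fin n) F).range).map
      (QuotientGroup.mk' (Subgroup.center (GL (Fin n) F))) ≤ G) (g : GL (Fin n) F)
    (h : g.val.det = 1) : QuotientGroup.mk' (Subgroup.center (GL (Fin n) F)) g ∈ G :=
  hG ⟨g, mem_range_toGL g h, rfl⟩

theorem det_conj (w g : GL (Fin n) F) : (w * g * w⁻¹).val.det = g.val.det := by
  rw [Units.val_mul, Units.val_mul]
  exact Matrix.det_units_conj w g.val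

theorem exists_proj_central (H : Subgroup (GL (Fin n) F)) (hH : Group.IsNilpotent ↥H)
    (hne : ¬ H ≤ Subgroup.center (GL (Fin n) F)) :
    ∃ x ∈ H, x ∉ Subgroup.center (GL (Fin n) F) ∧ ∀ g ∈ H,
      (∃ κ : F, x.val * g.val = κ • (g.val * x.val)) ∧
      (∃ κ : F, g.val * x.val = κ • (x.val * g.val)) := by
  haveI := hH
  have h1 : ¬ ((⊤ : Subgroup ↥H) ≤ (Subgroup.center (GL (Fin n) F)).subgroupOf H) := by
    intro h
    apply hne
    intro g hg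
    have := h (Subgroup.mem_top (⟨g, hg⟩ : ↥H))
    exact Subgroup.mem_subgroupOf.mp this
  obtain ⟨x, -, hxM, hcomm⟩ := Helper24.exists_mem_not_mem_commutator_mem (⊤ : Subgroup ↥H)
    ((Subgroup.center (GL (Fin n) F)).subgroupOf H) h1
  refine ⟨x.1, x.2, fun hx => hxM (Subgroup.mem_subgroupOf.mpr hx), ?_⟩
  intro g hg
  have key : ∀ y : ↥H, ∃ κ : Fˣ, x.1.val * y.1.val = (κ : F) • (y.1.val * x.1.val) := by
    intro y
    have h2 := hcomm y
    rw [Subgroup.mem_subgroupOf] at h2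
    obtain ⟨κ, hκ⟩ := center_scalar _ h2
    refine ⟨κ, ?_⟩
    have h3 : x.1 * y.1 = ((⁅x, y⁆ : ↥H) : GL (Fin n) F) * (y.1 * x.1) := by
      have e : ((⁅x, y⁆ : ↥H) : GL (Fin n) F) = x.1 * y.1 * x.1⁻¹ * y.1⁻¹ := rfl
      rw [e]; group
    have h4 := congrArg Units.val h3
    rw [Units.val_mul, Units.val_mul, hκ, Units.val_mul] at h4
    rw [h4, ← Matrix.smul_eq_diagonal_mul]
  obtain ⟨κ, hκ⟩ := key ⟨g, hg⟩
  have hκ' : x.1.val * g.val = (κ : F) • (g.val * x.1.val) := hκ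
  refine ⟨⟨(κ : F), hκ'⟩, ⟨((κ⁻¹ : Fˣ) : F), ?_⟩⟩
  rw [hκ', smul_smul, ← Units.val_mul κ⁻¹ κ, inv_mul_cancel, Units.val_one, one_smul]

end Mat

end Cfsg.Agent.Helper22
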