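import Mathlib
import Cfsg.Agent.Helper22.PglMat

set_option autoImplicit false
set_option linter.style.haveILetI false
set_option linter.unusedSectionVars false

open Cfsg
open Matrix MatrixGroups

namespace Cfsg.Agent.Helper22

section Jordan

variable {n : ℕ} {F : Type*} [Field F]

def jN (n : ℕ) (F : Type*) [Field F] : Matrix (Fin n) (Fin n) F :=
  Matrix.of fun i j => if (j : ℕ) = i + 1 then 1 else 0

theorem jN_apply (i j : Fin n) : jN n F i j = if (j : ℕ) = i + 1 then 1 else 0 := rfl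

theorem jN_mulVec_succ (w : Fin n → F) (a : ℕ) (h : a + 1 < n) :
    (jN n F *ᵥ w) ⟨a, Nat.lt_of_succ_lt h⟩ = w ⟨a + 1, h⟩ := by
  show ∑ j, jN n F ⟨a, Nat.lt_of_succ_lt h⟩ j * w j = _
  rw [Finset.sum_eq_single (⟨a + 1, h⟩ : Fin n)]
  · have e : jN n F ⟨a, Nat.lt_of_succ_lt h⟩ ⟨a + 1, h⟩ = 1 := by
      rw [jN_apply]; exact if_pos rfl
    rw [e, one_mul]
  · intro j _ hj
    have e : jN n F ⟨a, Nat.lt_of_succ_lt h⟩ j = 0 := by
      rw [jN_apply]; exact if_neg (fun hji => hj (Fin.ext hji))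
    rw [e, zero_mul]
  · intro hni
    exact absurd (Finset.mem_univ _) hni

theorem jN_mulVec_last (w : Fin n → F) (i : Fin n) (h : ¬ (i : ℕ) + 1 < n) :
    (jN n F *ᵥ w) i = 0 := by
  show ∑ j, jN n F i j * w j = _
  apply Finset.sum_eq_zero
  intro j _
  have e : jN n F i j = 0 := by
    rw [jN_apply]; exact if_neg (fun hji => h (by rw [← hji]; exact j.2))
  rw [e, zero_mul]

theorem jN_vecMul_succ (φ : Fin n → F) (a : ℕ) (h : a + 1 < n) :
    (φ ᵥ* jN n F) ⟨a + 1, h⟩ = φ ⟨a, Nat.lt_of_succ_lt h⟩ := by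
  show ∑ i, φ i * jN n F i ⟨a + 1, h⟩ = _
  rw [Finset.sum_eq_single (⟨a, Nat.lt_of_succ_lt h⟩ : Fin n)]
  · have e : jN n F ⟨a, Nat.lt_of_succ_lt h⟩ ⟨a + 1, h⟩ = 1 := by
      rw [jN_apply]; exact if_pos rfl
    rw [e, mul_one]
  · intro i _ hi
    have e : jN n F i ⟨a + 1, h⟩ = 0 := by
      rw [jN_apply]
      refine if_neg (fun hji => hi (Fin.ext ?_))
      have h2 : a + 1 = (i : ℕ) + 1 := hji
      show (i : ℕ) = a
      omega
    rw [e, mul_zero]
  · intro hni
    exact absurd (Finset.mem_univ _) hni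

theorem jN_vecMul_zero (φ : Fin n → F) (j : Fin n) (h : (j : ℕ) = 0) :
    (φ ᵥ* jN n F) j = 0 := by
  show ∑ i, φ i * jN n F i j = _
  apply Finset.sum_eq_zero
  intro i _
  have e : jN n F i j = 0 := by
    rw [jN_apply]; exact if_neg (by rw [h]; exact (Nat.succ_ne_zero _).symm)
  rw [e, mul_zero]

theorem jN_pow_apply (m : ℕ) :
    ∀ (i j : Fin n), (j : ℕ) ≠ i + m → (jN n F ^ m) i j = 0 := by
  induction m with
  | zero =>
    intro i j h
    rw [pow_zero]
    exact Matrix.one_apply_ne (fun hij => h (by rw [hij]; rfl))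
  | succ m ih =>
    intro i j h
    rw [pow_succ, Matrix.mul_apply]
    apply Finset.sum_eq_zero
    intro k _
    by_cases hk : (k : ℕ) = i + m
    · have e : jN n F k j = 0 := by
        rw [jN_apply]; exact if_neg (fun hjk => h (by omega))
      rw [e, mul_zero]
    · rw [ih i k hk, zero_mul]

theorem jN_pow_n : jN n F ^ n = 0 := by
  ext i j
  rw [Matrix.zero_apply]
  exact jN_pow_apply n i j (by have := j.2; omega)

theorem jordan_det : (1 + jN n F).det = 1 := by
  have h : (1 + jN n F).BlockTriangular id := by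
    intro i j hij
    have hij' : (j : ℕ) < i := hij
    have e : jN n F i j = 0 := by
      rw [jN_apply]; exact if_neg (by omega)
    have hne : i ≠ j := Fin.ne_of_val_ne (by omega)
    rw [Matrix.add_apply, Matrix.one_apply_ne hne, e, zero_add]
  rw [Matrix.det_of_isUpperTriangular h]
  apply Finset.prod_eq_one
  intro i _
  have e : jN n F i i = 0 := by
    rw [jN_apply]; exact if_neg (by omega)
  rw [Matrix.add_apply, Matrix.one_apply_eq, e, add_zero]

def jS (n : ℕ) (F : Type*) [Field F] : Matrix.SpecialLinearGroup (Fin n) F :=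
  ⟨1 + jN n F, jordan_det⟩

def jU (n : ℕ) (F : Type*) [Field F] : GL (Fin n) F := Matrix.SpecialLinearGroup.toGL (jS n F)

theorem jU_val : (jU n F).val = 1 + jN n F := rfl

theorem jU_det : (jU n F).val.det = 1 := jordan_det

theorem jU_pow (p : ℕ) [hp : Fact p.Prime] [CharP F p] : (jU n F) ^ p ^ n = 1 := by
  apply Units.ext
  rw [Units.val_pow_eq_pow_val, jU_val, Units.val_one]
  rcases Nat.eq_zero_or_pos n with h0 | h0
  · subst h0
    exact Subsingleton.elim _ _
  · haveI : Nonempty (Fin n) := ⟨⟨0, h0⟩⟩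
    haveI : CharP (Matrix (Fin n) (Fin n) F) p := inferInstance
    rw [add_pow_char_pow_of_commute p n (Commute.one_left _), one_pow,
      pow_eq_zero_of_le (Nat.lt_pow_self hp.out.one_lt).le jN_pow_n, add_zero]

theorem jU_mulVec (w : Fin n → F) : (jU n F).val *ᵥ w = w + jN n F *ᵥ w := by
  rw [jU_val, Matrix.add_mulVec, Matrix.one_mulVec]

theorem jU_vecMul (φ : Fin n → F) : φ ᵥ* (jU n F).val = φ + φ ᵥ* jN n F := by
  rw [jU_val, Matrix.vecMul_add, Matrix.vecMul_one]

theorem jN_mulVec_eq_zero_iff (w : Fin n → F) :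
    jN n F *ᵥ w = 0 ↔ ∀ j : Fin n, (j : ℕ) ≠ 0 → w j = 0 := by
  constructor
  · intro h j hj
    obtain ⟨a, ha⟩ := Nat.exists_eq_succ_of_ne_zero hj
    have hlt : a + 1 < n := by have := j.2; omega
    have h1 := jN_mulVec_succ w a hlt
    rw [h, Pi.zero_apply] at h1
    have hj' : j = ⟨a + 1, hlt⟩ := Fin.ext ha
    rw [hj']
    exact h1.symm
  · intro h
    funext i
    rw [Pi.zero_apply]
    by_cases hi : (i : ℕ) + 1 < n
    · have h1 := jN_mulVec_succ w i hi
      have hi' : (⟨(i : ℕ), Nat.lt_of_succ_lt hi⟩ : Fin n) = i := Fin.ext rfl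
      rw [hi'] at h1
      rw [h1]
      exact h _ (Nat.succ_ne_zero _)
    · exact jN_mulVec_last w i hi

theorem jN_vecMul_eq_zero_iff (φ : Fin n → F) :
    φ ᵥ* jN n F = 0 ↔ ∀ j : Fin n, (j : ℕ) + 1 ≠ n → φ j = 0 := by
  constructor
  · intro h j hj
    have hlt : (j : ℕ) + 1 < n := by have := j.2; omega
    have h1 := jN_vecMul_succ φ j hlt
    rw [h, Pi.zero_apply] at h1
    have hj' : (⟨(j : ℕ), Nat.lt_of_succ_lt hlt⟩ : Fin n) = j := Fin.ext rfl
    rw [hj'] at h1
    exact h1.symm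
  · intro h
    funext j
    rw [Pi.zero_apply]
    rcases Nat.eq_zero_or_pos (j : ℕ) with h0 | h0
    · exact jN_vecMul_zero φ j h0
    · obtain ⟨a, ha⟩ := Nat.exists_eq_succ_of_ne_zero h0.ne'
      have hlt : a + 1 < n := by have := j.2; omega
      have hj' : j = ⟨a + 1, hlt⟩ := Fin.ext ha
      rw [hj', jN_vecMul_succ φ a hlt]
      exact h _ (by show a + 1 ≠ n; omega)

theorem jU_colReg (hn : 0 < n) : ColReg (jU n F) (Pi.single (⟨0, hn⟩ : Fin n) (1 : F)) := by
  have hfix : ∀ w : Fin n → F,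
      (jU n F).val *ᵥ w = w ↔ ∀ j : Fin n, (j : ℕ) ≠ 0 → w j = 0 := by
    intro w
    rw [jU_mulVec]
    constructor
    · intro h
      exact (jN_mulVec_eq_zero_iff w).mp (add_left_cancel (a := w) (by rw [h, add_zero]))
    · intro h
      rw [(jN_mulVec_eq_zero_iff w).mpr h, add_zero]
  refine ⟨?_, ?_, ?_⟩
  · intro h
    have := congrFun h ⟨0, hn⟩
    rw [Pi.single_eq_same, Pi.zero_apply] at this
    exact one_ne_zero this
  · rw [hfix]
    intro j hj
    exact Pi.single_eq_of_ne (Fin.ne_of_val_ne hj) _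
  · intro w hw hw0
    rw [hfix] at hw
    have hw00 : w ⟨0, hn⟩ ≠ 0 := by
      intro h0
      apply hw0
      funext j
      show w j = 0
      by_cases hj : (j : ℕ) = 0
      · have : j = ⟨0, hn⟩ := Fin.ext hj
        rw [this]; exact h0
      · exact hw j hj
    refine ⟨Units.mk0 _ hw00, ?_⟩
    funext j
    rw [Units.val_mk0, Pi.smul_apply, smul_eq_mul]
    by_cases hj : (j : ℕ) = 0
    · have : j = ⟨0, hn⟩ := Fin.ext hj
      rw [this, Pi.single_eq_same, mul_one]
    · rw [hw j hj, Pi.single_eq_of_ne (Fin.ne_of_val_ne hj), mul_zero]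

theorem jU_rowReg (hn : 0 < n) :
    RowReg (jU n F) (Pi.single (⟨n - 1, Nat.sub_lt hn Nat.one_pos⟩ : Fin n) (1 : F)) := by
  have hfix : ∀ φ : Fin n → F,
      φ ᵥ* (jU n F).val = φ ↔ ∀ j : Fin n, (j : ℕ) + 1 ≠ n → φ j = 0 := by
    intro φ
    rw [jU_vecMul]
    constructor
    · intro h
      exact (jN_vecMul_eq_zero_iff φ).mp (add_left_cancel (a := φ) (by rw [h, add_zero]))
    · intro h
      rw [(jN_vecMul_eq_zero_iff φ).mpr h, add_zero]
  have hlast : ∀ j : Fin n, (j : ℕ) + 1 ≠ n →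
      j ≠ (⟨n - 1, Nat.sub_lt hn Nat.one_pos⟩ : Fin n) := by
    intro j hj hje
    apply hj
    rw [hje]
    show n - 1 + 1 = n
    omega
  have hlast' : ∀ j : Fin n, ¬ ((j : ℕ) + 1 ≠ n) →
      j = (⟨n - 1, Nat.sub_lt hn Nat.one_pos⟩ : Fin n) := by
    intro j hj
    apply Fin.ext
    show (j : ℕ) = n - 1
    omega
  refine ⟨?_, ?_, ?_⟩
  · intro h
    have := congrFun h ⟨n - 1, Nat.sub_lt hn Nat.one_pos⟩
    rw [Pi.single_eq_same, Pi.zero_apply] at this
    exact one_ne_zero this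
  · rw [hfix]
    intro j hj
    exact Pi.single_eq_of_ne (hlast j hj) _
  · intro w hw hw0
    rw [hfix] at hw
    have hw00 : w ⟨n - 1, Nat.sub_lt hn Nat.one_pos⟩ ≠ 0 := by
      intro h0
      apply hw0
      funext j
      show w j = 0
      by_cases hj : (j : ℕ) + 1 ≠ n
      · exact hw j hj
      · rw [hlast' j hj]; exact h0
    refine ⟨Units.mk0 _ hw00, ?_⟩
    funext j
    rw [Units.val_mk0, Pi.smul_apply, smul_eq_mul]
    by_cases hj : (j : ℕ) + 1 ≠ n
    · rw [hw j hj, Pi.single_eq_of_ne (hlast j hj), mul_zero]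
    · rw [hlast' j hj, Pi.single_eq_same, mul_one]

def tvGL (i j : Fin n) (h : i ≠ j) : GL (Fin n) F :=
  ⟨Matrix.transvection i j 1, Matrix.transvection i j (-1),
    by rw [Matrix.transvection_mul_transvection_same i j h, add_neg_cancel,
      Matrix.transvection_zero],
    by rw [Matrix.transvection_mul_transvection_same i j h, neg_add_cancel,
      Matrix.transvection_zero]⟩

theorem tvGL_val (i j : Fin n) (h : i ≠ j) :
    (tvGL (F := F) i j h).val = Matrix.transvection i j 1 := rfl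

theorem tvGL_inv_val (i j : Fin n) (h : i ≠ j) :
    ((tvGL (F := F) i j h)⁻¹).val = Matrix.transvection i j (-1) := rfl

theorem tvGL_det (i j : Fin n) (h : i ≠ j) : (tvGL (F := F) i j h).val.det = 1 :=
  Matrix.det_transvection_of_ne i j h 1

theorem transvection_mulVec (i j : Fin n) (c : F) (v : Fin n → F) :
    Matrix.transvection i j c *ᵥ v = v + Pi.single i (c * v j) := by
  have h : Matrix.single i j c *ᵥ v = Pi.single i (c * v j) := Matrix.single_mulVec i j c v
  rw [Matrix.transvection, Matrix.add_mulVec, Matrix.one_mulVec, h]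

theorem single_vecMul_transvection (k i j : Fin n) (c : F) (l : Fin n) :
    (Pi.single k (1 : F) ᵥ* Matrix.transvection i j c) l =
      (if k = l then 1 else 0) + (if i = k ∧ j = l then c else 0) := by
  rw [Matrix.single_vecMul, Matrix.transvection]
  show (1 : F) • ((1 : Matrix (Fin n) (Fin n) F) k l + Matrix.single i j c k l) = _
  rw [one_smul, Matrix.one_apply, Matrix.single_apply]

end Jordan

end Cfsg.Agent.Helper22
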