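import Mathlib
import Cfsg.Agent.Helper22.PglJordan

set_option autoImplicit false
set_option linter.style.haveILetI false
set_option linter.unusedSectionVars false
set_option linter.unusedSimpArgs false

open Cfsg
open Matrix MatrixGroups

namespace Cfsg.Agent.Helper22

section Two

variable {F : Type*} [Field F]

theorem mul2 (A B : Matrix (Fin 2) (Fin 2) F) (i j : Fin 2) :
    (A * B) i j = A i 0 * B 0 j + A i 1 * B 1 j := by
  rw [Matrix.mul_apply, Fin.sum_univ_two]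

theorem mulVec2 (A : Matrix (Fin 2) (Fin 2) F) (v : Fin 2 → F) (i : Fin 2) :
    (A *ᵥ v) i = A i 0 * v 0 + A i 1 * v 1 := by
  show ∑ j, A i j * v j = _
  rw [Fin.sum_univ_two]

theorem ext2 {A B : Matrix (Fin 2) (Fin 2) F} (h00 : A 0 0 = B 0 0) (h01 : A 0 1 = B 0 1)
    (h10 : A 1 0 = B 1 0) (h11 : A 1 1 = B 1 1) : A = B := by
  ext i j
  fin_cases i <;> fin_cases j
  · exact h00
  · exact h01
  · exact h10
  · exact h11

theorem vext2 {v w : Fin 2 → F} (h0 : v 0 = w 0) (h1 : v 1 = w 1) : v = w := by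
  funext i
  fin_cases i
  · exact h0
  · exact h1

def mk2 (a b c d : F) (h : a * d - b * c ≠ 0) : GL (Fin 2) F :=
  Matrix.GeneralLinearGroup.mkOfDetNeZero !![a, b; c, d]
    (by rw [Matrix.det_fin_two_of]; exact h)

theorem mk2_00 (a b c d : F) (h : a * d - b * c ≠ 0) : (mk2 a b c d h).val 0 0 = a := rfl
theorem mk2_01 (a b c d : F) (h : a * d - b * c ≠ 0) : (mk2 a b c d h).val 0 1 = b := rfl
theorem mk2_10 (a b c d : F) (h : a * d - b * c ≠ 0) : (mk2 a b c d h).val 1 0 = c := rfl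
theorem mk2_11 (a b c d : F) (h : a * d - b * c ≠ 0) : (mk2 a b c d h).val 1 1 = d := rfl

theorem e0_0 : (Pi.single (0 : Fin 2) (1 : F) : Fin 2 → F) 0 = 1 := Pi.single_eq_same _ _
theorem e0_1 : (Pi.single (0 : Fin 2) (1 : F) : Fin 2 → F) 1 = 0 :=
  Pi.single_eq_of_ne (by decide) _
theorem e1_0 : (Pi.single (1 : Fin 2) (1 : F) : Fin 2 → F) 0 = 0 :=
  Pi.single_eq_of_ne (by decide) _
theorem e1_1 : (Pi.single (1 : Fin 2) (1 : F) : Fin 2 → F) 1 = 1 := Pi.single_eq_same _ _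

theorem mulVec_e0 (A : Matrix (Fin 2) (Fin 2) F) (i : Fin 2) :
    (A *ᵥ (Pi.single (0 : Fin 2) (1 : F))) i = A i 0 := by
  rw [mulVec2, e0_0, e0_1, mul_one, mul_zero, add_zero]

theorem mulVec_e1 (A : Matrix (Fin 2) (Fin 2) F) (i : Fin 2) :
    (A *ᵥ (Pi.single (1 : Fin 2) (1 : F))) i = A i 1 := by
  rw [mulVec2, e1_0, e1_1, mul_zero, mul_one, zero_add]

theorem jU2_00 : (jU 2 F).val 0 0 = 1 := by
  have h2 : jN 2 F 0 0 = 0 := by rw [jN_apply]; exact if_neg (by decide)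
  rw [jU_val, Matrix.add_apply, Matrix.one_apply_eq, h2, add_zero]

theorem jU2_01 : (jU 2 F).val 0 1 = 1 := by
  have h1 : (1 : Matrix (Fin 2) (Fin 2) F) 0 1 = 0 := Matrix.one_apply_ne (by decide)
  have h2 : jN 2 F 0 1 = 1 := by rw [jN_apply]; exact if_pos rfl
  rw [jU_val, Matrix.add_apply, h1, h2, zero_add]

theorem jU2_10 : (jU 2 F).val 1 0 = 0 := by
  have h1 : (1 : Matrix (Fin 2) (Fin 2) F) 1 0 = 0 := Matrix.one_apply_ne (by decide)
  have h2 : jN 2 F 1 0 = 0 := by rw [jN_apply]; exact if_neg (by decide)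
  rw [jU_val, Matrix.add_apply, h1, h2, add_zero]

theorem jU2_11 : (jU 2 F).val 1 1 = 1 := by
  have h2 : jN 2 F 1 1 = 0 := by rw [jN_apply]; exact if_neg (by decide)
  rw [jU_val, Matrix.add_apply, Matrix.one_apply_eq, h2, add_zero]

theorem jU2_colReg : ColReg (jU 2 F) (Pi.single (0 : Fin 2) (1 : F)) :=
  jU_colReg (by norm_num)

theorem gl2_det_ne (g : GL (Fin 2) F) :
    g.val 0 0 * g.val 1 1 - g.val 0 1 * g.val 1 0 ≠ 0 := by
  rw [← Matrix.det_fin_two]; exact gl_det_ne_zero g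

theorem mem_colStab_e0 (g : GL (Fin 2) F) :
    g ∈ colStab (Pi.single (0 : Fin 2) (1 : F)) ↔ g.val 1 0 = 0 := by
  constructor
  · rintro ⟨c, hc⟩
    have h1 := congrFun hc 1
    rw [mulVec_e0, Pi.smul_apply, e0_1, smul_zero] at h1
    exact h1
  · intro h
    have hd := gl2_det_ne g
    rw [h, mul_zero, sub_zero] at hd
    have h00 : g.val 0 0 ≠ 0 := left_ne_zero_of_mul hd
    refine ⟨Units.mk0 _ h00, ?_⟩
    apply vext2
    · rw [mulVec_e0, Units.val_mk0, Pi.smul_apply, e0_0, smul_eq_mul, mul_one]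
    · rw [mulVec_e0, Units.val_mk0, Pi.smul_apply, e0_1, smul_zero, h]

theorem mem_colStab_e1_of (g : GL (Fin 2) F) (h : g.val 0 1 = 0) :
    g ∈ colStab (Pi.single (1 : Fin 2) (1 : F)) := by
  have hd := gl2_det_ne g
  rw [h, zero_mul, sub_zero] at hd
  have h11 : g.val 1 1 ≠ 0 := right_ne_zero_of_mul hd
  refine ⟨Units.mk0 _ h11, ?_⟩
  apply vext2
  · rw [mulVec_e1, Units.val_mk0, Pi.smul_apply, e1_0, smul_zero, h]
  · rw [mulVec_e1, Units.val_mk0, Pi.smul_apply, e1_1, smul_eq_mul, mul_one]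

theorem exists_gl_col (v : Fin 2 → F) (hv : v ≠ 0) :
    ∃ c : GL (Fin 2) F, c.val *ᵥ (Pi.single (0 : Fin 2) (1 : F)) = v := by
  by_cases h0 : v 0 = 0
  · have h1 : v 1 ≠ 0 := by
      intro h1
      exact hv (vext2 h0 h1)
    refine ⟨mk2 (v 0) 1 (v 1) 0
      (by rw [mul_zero, zero_sub, one_mul]; exact neg_ne_zero.mpr h1), ?_⟩
    apply vext2
    · exact (mulVec_e0 _ _).trans (mk2_00 _ _ _ _ _)
    · exact (mulVec_e0 _ _).trans (mk2_10 _ _ _ _ _)
  · refine ⟨mk2 (v 0) 0 (v 1) 1 (by rw [mul_one, zero_mul, sub_zero]; exact h0), ?_⟩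
    apply vext2
    · exact (mulVec_e0 _ _).trans (mk2_00 _ _ _ _ _)
    · exact (mulVec_e0 _ _).trans (mk2_10 _ _ _ _ _)

def dg (a b : Fˣ) : GL (Fin 2) F :=
  mk2 (a : F) 0 0 (b : F)
    (by rw [mul_zero, sub_zero]; exact mul_ne_zero a.ne_zero b.ne_zero)

theorem dg_00 (a b : Fˣ) : (dg a b).val 0 0 = a := rfl
theorem dg_01 (a b : Fˣ) : (dg a b).val 0 1 = 0 := rfl
theorem dg_10 (a b : Fˣ) : (dg a b).val 1 0 = 0 := rfl
theorem dg_11 (a b : Fˣ) : (dg a b).val 1 1 = b := rfl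

theorem dg_mul (a b c d : Fˣ) : dg a b * dg c d = dg (a * c) (b * d) := by
  apply Units.ext
  rw [Units.val_mul]
  apply ext2
  · simp only [mul2, dg_00, dg_01, dg_10, dg_11, Units.val_mul, mul_zero, zero_mul, add_zero,
      zero_add]
  · simp only [mul2, dg_00, dg_01, dg_10, dg_11, Units.val_mul, mul_zero, zero_mul, add_zero,
      zero_add]
  · simp only [mul2, dg_00, dg_01, dg_10, dg_11, Units.val_mul, mul_zero, zero_mul, add_zero,
      zero_add]
  · simp only [mul2, dg_00, dg_01, dg_10, dg_11, Units.val_mul, mul_zero, zero_mul, add_zero,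
      zero_add]

theorem dg_one : dg (1 : Fˣ) 1 = 1 := by
  apply Units.ext
  rw [Units.val_one]
  apply ext2
  · rw [dg_00, Units.val_one, Matrix.one_apply_eq]
  · rw [dg_01]; exact (Matrix.one_apply_ne (by decide)).symm
  · rw [dg_10]; exact (Matrix.one_apply_ne (by decide)).symm
  · rw [dg_11, Units.val_one, Matrix.one_apply_eq]

theorem dg_pow (a b : Fˣ) (k : ℕ) : dg a b ^ k = dg (a ^ k) (b ^ k) := by
  induction k with
  | zero => rw [pow_zero, pow_zero, pow_zero, dg_one]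
  | succ k ih => rw [pow_succ, ih, dg_mul, ← pow_succ, ← pow_succ]

theorem antidiag_pow_odd (g : Matrix (Fin 2) (Fin 2) F) (h0 : g 0 0 = 0) (h1 : g 1 1 = 0)
    (k : ℕ) : (g ^ (2 * k + 1)) 0 0 = 0 ∧ (g ^ (2 * k + 1)) 1 1 = 0 := by
  induction k with
  | zero => rw [mul_zero, zero_add, pow_one]; exact ⟨h0, h1⟩
  | succ k ih =>
    have e : g ^ (2 * (k + 1) + 1) = g ^ (2 * k + 1) * g * g := by
      rw [show 2 * (k + 1) + 1 = (2 * k + 1) + 1 + 1 by ring, pow_succ, pow_succ]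
    rw [e]
    obtain ⟨i0, i1⟩ := ih
    constructor
    · rw [mul2, mul2, mul2, i0, h0, h1]; ring
    · rw [mul2, mul2, mul2, i1, h0, h1]; ring

theorem diag_or_anti (D g : Matrix (Fin 2) (Fin 2) F) (κ : F) (hD01 : D 0 1 = 0)
    (hD10 : D 1 0 = 0) (hd0 : D 0 0 ≠ 0) (hd1 : D 1 1 ≠ 0) (hd : D 0 0 ≠ D 1 1)
    (h : D * g = κ • (g * D)) :
    (g 0 1 = 0 ∧ g 1 0 = 0) ∨ (g 0 0 = 0 ∧ g 1 1 = 0) := by
  have e00 := congrFun (congrFun h 0) 0
  have e01 := congrFun (congrFun h 0) 1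
  have e10 := congrFun (congrFun h 1) 0
  have e11 := congrFun (congrFun h 1) 1
  simp only [Matrix.smul_apply, mul2, hD01, hD10, smul_eq_mul, mul_zero, zero_mul, add_zero,
    zero_add] at e00 e01 e10 e11
  by_cases hκ : κ = 1
  · left
    rw [hκ, one_mul] at e01 e10
    constructor
    · have h3 : g 0 1 * (D 0 0 - D 1 1) = 0 := by linear_combination e01
      rcases mul_eq_zero.mp h3 with h' | h'
      · exact h'
      · exact absurd (sub_eq_zero.mp h') hd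
    · have h3 : g 1 0 * (D 0 0 - D 1 1) = 0 := by linear_combination (-1 : F) * e10
      rcases mul_eq_zero.mp h3 with h' | h'
      · exact h'
      · exact absurd (sub_eq_zero.mp h') hd
  · right
    have hκ' : 1 - κ ≠ 0 := fun h' => hκ (sub_eq_zero.mp h').symm
    constructor
    · have h3 : g 0 0 * (D 0 0 * (1 - κ)) = 0 := by linear_combination e00
      rcases mul_eq_zero.mp h3 with h' | h'
      · exact h'
      · exact absurd h' (mul_ne_zero hd0 hκ')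
    · have h3 : g 1 1 * (D 1 1 * (1 - κ)) = 0 := by linear_combination e11
      rcases mul_eq_zero.mp h3 with h' | h'
      · exact h'
      · exact absurd h' (mul_ne_zero hd1 hκ')

theorem comm_of_coprime_pow {Γ : Type*} [Group Γ] (H : Subgroup Γ) (hH : Group.IsNilpotent ↥H)
    (a b : Γ) (ha : a ∈ H) (hb : b ∈ H) (m k : ℕ) (hm : a ^ m = 1) (hk : b ^ k = 1)
    (hcop : Nat.Coprime m k) : a * b = b * a := by
  haveI := hH
  have h1 : orderOf (⟨a, ha⟩ : ↥H) ∣ m := by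
    apply orderOf_dvd_of_pow_eq_one
    exact Subtype.ext (by rw [Subgroup.coe_pow]; exact hm)
  have h2 : orderOf (⟨b, hb⟩ : ↥H) ∣ k := by
    apply orderOf_dvd_of_pow_eq_one
    exact Subtype.ext (by rw [Subgroup.coe_pow]; exact hk)
  have h3 := S1473.comm_of_coprime (⟨a, ha⟩ : ↥H) ⟨b, hb⟩
    (Nat.Coprime.coprime_dvd_left h1 (Nat.Coprime.coprime_dvd_right h2 hcop))
  exact congrArg Subtype.val h3

def sqDet (F : Type*) [Field F] : Subgroup (GL (Fin 2) F) where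
  carrier := {g | ∃ κ : F, g.val.det = κ * κ}
  one_mem' := ⟨1, by rw [Units.val_one, Matrix.det_one, mul_one]⟩
  mul_mem' := by
    rintro g h ⟨a, ha⟩ ⟨b, hb⟩
    exact ⟨a * b, by rw [Units.val_mul, Matrix.det_mul, ha, hb]; ring⟩
  inv_mem' := by
    rintro g ⟨a, ha⟩
    have h : (g⁻¹).val.det * g.val.det = 1 := by
      rw [← Matrix.det_mul, ← Units.val_mul, inv_mul_cancel, Units.val_one, Matrix.det_one]
    refine ⟨a⁻¹, ?_⟩
    rw [eq_inv_of_mul_eq_one_left h, ha, mul_inv]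

theorem center_le_sqDet : Subgroup.center (GL (Fin 2) F) ≤ sqDet F := by
  intro z hz
  obtain ⟨κ, hκ⟩ := center_scalar z hz
  exact ⟨κ, by rw [hκ, Matrix.det_diagonal, Fin.prod_univ_two]⟩

theorem sq_key [Fintype F] (p : ℕ) [hp : Fact p.Prime] [CharP F p] (t : GL (Fin 2) F) (k : ℕ)
    (ht : t ^ p ^ k = 1) (hcomm : ∀ g : GL (Fin 2) F, g * t = t * g → g ∈ sqDet F)
    (H : Subgroup (GL (Fin 2) F)) (hH : Group.IsNilpotent ↥H) (htH : t ∈ H) :
    H ≤ sqDet F := by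
  intro g hg
  obtain ⟨a, m, hcop, hord1, hord2⟩ := Helper21.exists_pparts p g
  refine Helper21.mem_of_pow_mem_of_coprime (m := m) (k := p ^ a)
    (Nat.Coprime.pow_right a hcop) ?_ ?_
  · have h1 : (g ^ m) ^ p ^ a = 1 := by rw [← hord2]; exact pow_orderOf_eq_one _
    have h2 : ((g ^ m).val.det) ^ p ^ a = 1 := by
      rw [← Matrix.det_pow, ← Units.val_pow_eq_pow_val, h1, Units.val_one, Matrix.det_one]
    have h3 : ((g ^ m).val.det - 1) ^ p ^ a = 0 := by
      rw [sub_pow_char_pow, h2, one_pow, sub_self]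
    have h4 : (g ^ m).val.det = 1 :=
      sub_eq_zero.mp ((pow_eq_zero_iff (pow_ne_zero a hp.out.ne_zero)).mp h3)
    exact ⟨1, by rw [h4, mul_one]⟩
  · apply hcomm
    have hpow : (g ^ p ^ a) ^ m = 1 := by rw [← hord1]; exact pow_orderOf_eq_one _
    exact comm_of_coprime_pow H hH (g ^ p ^ a) t (pow_mem hg _) htH m (p ^ k) hpow ht
      (Nat.Coprime.pow_right k hcop)

theorem sq_comm_conj (u w : GL (Fin 2) F)
    (h : ∀ g : GL (Fin 2) F, g * u = u * g → g ∈ sqDet F) :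
    ∀ g : GL (Fin 2) F, g * (w * u * w⁻¹) = (w * u * w⁻¹) * g → g ∈ sqDet F := by
  intro g hg
  have h1 : (w⁻¹ * g * w) * u = u * (w⁻¹ * g * w) := by
    have h2 : w⁻¹ * (g * (w * u * w⁻¹)) * w = w⁻¹ * ((w * u * w⁻¹) * g) * w := by rw [hg]
    calc (w⁻¹ * g * w) * u = w⁻¹ * (g * (w * u * w⁻¹)) * w := by group
      _ = w⁻¹ * ((w * u * w⁻¹) * g) * w := h2
      _ = u * (w⁻¹ * g * w) := by group
  obtain ⟨κ, hκ⟩ := h _ h1
  refine ⟨κ, ?_⟩
  rw [← hκ]
  have h3 := det_conj w⁻¹ g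
  rw [inv_inv] at h3
  exact h3.symm

theorem jU2_comm_sq (g : GL (Fin 2) F) (h : g * jU 2 F = jU 2 F * g) : g ∈ sqDet F := by
  have h' := congrArg Units.val h
  rw [Units.val_mul, Units.val_mul] at h'
  have e00 := congrFun (congrFun h' 0) 0
  have e01 := congrFun (congrFun h' 0) 1
  simp only [mul2, jU2_00, jU2_01, jU2_10, jU2_11, mul_one, mul_zero, add_zero, one_mul,
    zero_mul] at e00 e01
  have h10 : g.val 1 0 = 0 := by linear_combination (-1 : F) * e00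
  have h11 : g.val 1 1 = g.val 0 0 := by linear_combination (-1 : F) * e01
  exact ⟨g.val 0 0, by rw [Matrix.det_fin_two, h10, h11, mul_zero, sub_zero]⟩

theorem hasEig_of (g : Matrix (Fin 2) (Fin 2) F) (v0 v1 l : F) (hv : v0 ≠ 0 ∨ v1 ≠ 0)
    (h0 : g 0 0 * v0 + g 0 1 * v1 = l * v0) (h1 : g 1 0 * v0 + g 1 1 * v1 = l * v1) :
    ∃ v : Fin 2 → F, v ≠ 0 ∧ ∃ l : F, g *ᵥ v = l • v := by
  refine ⟨![v0, v1], ?_, l, ?_⟩
  · intro h
    rcases hv with hv | hv
    · exact hv (congrFun h 0)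
    · exact hv (congrFun h 1)
  · apply vext2
    · rw [mulVec2]; exact h0
    · rw [mulVec2]; exact h1

theorem det_sq_of_mem_map (h : GL (Fin 2) F)
    (hh : QuotientGroup.mk' (Subgroup.center (GL (Fin 2) F)) h ∈
      ((Matrix.SpecialLinearGroup.toGL :
        Matrix.SpecialLinearGroup (Fin 2) F →* GL (Fin 2) F).range).map
      (QuotientGroup.mk' (Subgroup.center (GL (Fin 2) F)))) : h ∈ sqDet F := by
  obtain ⟨g', ⟨s, hs⟩, hg'⟩ := hh
  rw [QuotientGroup.mk'_eq_mk'] at hg'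
  obtain ⟨z, hz, hzg⟩ := hg'
  rw [← hzg]
  refine (sqDet F).mul_mem ?_ (center_le_sqDet hz)
  refine ⟨1, ?_⟩
  rw [← hs, mul_one]
  exact s.2

end Two

end Cfsg.Agent.Helper22
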