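import Mathlib
import Cfsg.Agent.Helper22.Pgl2

set_option autoImplicit false
set_option linter.style.haveILetI false
set_option linter.unusedSectionVars false
set_option linter.unusedSimpArgs false

open Cfsg
open Matrix MatrixGroups

namespace Cfsg.Agent.Helper22

section TwoA

variable {F : Type*} [Field F]

theorem torus_key [Fintype F] (r : ℕ) (hr : r.Prime) (hodd : Odd r) (α : Fˣ)
    (hα : orderOf α = r) (H : Subgroup (GL (Fin 2) F)) (hH : Group.IsNilpotent ↥H)
    (hs : dg α α⁻¹ ∈ H) : ∀ g ∈ H, g.val 0 1 = 0 ∧ g.val 1 0 = 0 := by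
  haveI : Fact r.Prime := ⟨hr⟩
  have hα4 : α ^ 4 ≠ 1 := by
    intro h
    have h1 : r ∣ 4 := by rw [← hα]; exact orderOf_dvd_of_pow_eq_one h
    have h2 : r ∣ 2 := hr.dvd_of_dvd_pow (show r ∣ 2 ^ 2 from h1)
    have h3 : r = 2 := (Nat.prime_dvd_prime_iff_eq hr Nat.prime_two).mp h2
    rw [h3] at hodd
    exact absurd hodd (Nat.not_odd_iff_even.mpr even_two)
  obtain ⟨a, ha⟩ : ∃ a : F, a = (α : F) := ⟨_, rfl⟩
  obtain ⟨a', ha'⟩ : ∃ a' : F, a' = ((α⁻¹ : Fˣ) : F) := ⟨_, rfl⟩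
  have haa' : a * a' = 1 := by rw [ha, ha', ← Units.val_mul, mul_inv_cancel, Units.val_one]
  have ha4 : a ^ 4 ≠ 1 := by
    intro h
    apply hα4
    apply Units.ext
    rw [Units.val_pow_eq_pow_val, Units.val_one, ← ha]
    exact h
  have ha0 : a ≠ 0 := left_ne_zero_of_mul_eq_one haa'
  have ha'0 : a' ≠ 0 := right_ne_zero_of_mul_eq_one haa'
  have hne : a ≠ a' := by
    intro h
    apply ha4
    rw [← h] at haa'
    calc a ^ 4 = (a * a) * (a * a) := by ring
      _ = 1 := by rw [haa', mul_one]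
  have s00 : (dg α α⁻¹).val 0 0 = a := (dg_00 α α⁻¹).trans ha.symm
  have s11 : (dg α α⁻¹).val 1 1 = a' := (dg_11 α α⁻¹).trans ha'.symm
  have s01 : (dg α α⁻¹).val 0 1 = 0 := rfl
  have s10 : (dg α α⁻¹).val 1 0 = 0 := rfl
  have hsZ : dg α α⁻¹ ∉ Subgroup.center (GL (Fin 2) F) := by
    intro hz
    obtain ⟨κ, hκ⟩ := center_scalar _ hz
    have h0 := congrFun (congrFun hκ 0) 0
    have h1 := congrFun (congrFun hκ 1) 1
    rw [Matrix.diagonal_apply_eq] at h0 h1
    rw [s00] at h0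
    rw [s11] at h1
    exact hne (h0.trans h1.symm)
  have hHZ : ¬ H ≤ Subgroup.center (GL (Fin 2) F) := fun h => hsZ (h hs)
  obtain ⟨x, hxH, hxZ, hx⟩ := exists_proj_central H hH hHZ
  obtain ⟨κ, hκ⟩ := (hx _ hs).2
  have hx_da := diag_or_anti _ x.val κ s01 s10 (by rw [s00]; exact ha0)
    (by rw [s11]; exact ha'0) (by rw [s00, s11]; exact hne) hκ
  have hxdiag : x.val 0 1 = 0 ∧ x.val 1 0 = 0 := by
    rcases hx_da with h | ⟨h00, h11⟩
    · exact h
    · exfalso
      have e01 := congrFun (congrFun hκ 0) 1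
      have e10 := congrFun (congrFun hκ 1) 0
      simp only [Matrix.smul_apply, mul2, s00, s01, s10, s11, smul_eq_mul, mul_zero, zero_mul,
        add_zero, zero_add] at e01 e10
      have hd := gl2_det_ne x
      rw [h00, h11, zero_mul, zero_sub] at hd
      have hx01 : x.val 0 1 ≠ 0 := fun h => hd (by rw [h, zero_mul, neg_zero])
      have hx10 : x.val 1 0 ≠ 0 := fun h => hd (by rw [h, mul_zero, neg_zero])
      have k1 : a = κ * a' := by
        have h3 : x.val 0 1 * (a - κ * a') = 0 := by linear_combination e01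
        rcases mul_eq_zero.mp h3 with h' | h'
        · exact absurd h' hx01
        · exact sub_eq_zero.mp h'
      have k2 : a' = κ * a := by
        have h3 : x.val 1 0 * (a' - κ * a) = 0 := by linear_combination e10
        rcases mul_eq_zero.mp h3 with h' | h'
        · exact absurd h' hx10
        · exact sub_eq_zero.mp h'
      apply ha4
      have hk : κ = a * a := by
        calc κ = κ * (a * a') := by rw [haa', mul_one]
          _ = (κ * a') * a := by ring
          _ = a * a := by rw [← k1]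
      calc a ^ 4 = a * (a * a * a) := by ring
        _ = a * (κ * a) := by rw [hk]
        _ = a * a' := by rw [← k2]
        _ = 1 := haa'
  obtain ⟨hx01, hx10⟩ := hxdiag
  have hxd := gl2_det_ne x
  rw [hx01, zero_mul, sub_zero] at hxd
  have hx00 : x.val 0 0 ≠ 0 := left_ne_zero_of_mul hxd
  have hx11 : x.val 1 1 ≠ 0 := right_ne_zero_of_mul hxd
  have hxne : x.val 0 0 ≠ x.val 1 1 := by
    intro he
    apply hxZ
    apply scalar_mem_center x (x.val 0 0)
    apply ext2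
    · rw [Matrix.diagonal_apply_eq]
    · rw [hx01]; exact (Matrix.diagonal_apply_ne _ (by decide)).symm
    · rw [hx10]; exact (Matrix.diagonal_apply_ne _ (by decide)).symm
    · rw [Matrix.diagonal_apply_eq, he]
  have hda : ∀ g ∈ H, (g.val 0 1 = 0 ∧ g.val 1 0 = 0) ∨ (g.val 0 0 = 0 ∧ g.val 1 1 = 0) := by
    intro g hg
    obtain ⟨κ', hκ'⟩ := (hx g hg).1
    exact diag_or_anti x.val g.val κ' hx01 hx10 hx00 hx11 hxne hκ'
  intro g hg
  rcases hda g hg with h | ⟨h00, h11⟩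
  · exact h
  · exfalso
    obtain ⟨e, m, hcop, hord1, hord2⟩ := Helper21.exists_pparts r g
    have hpow : (g ^ r ^ e) ^ m = 1 := by rw [← hord1]; exact pow_orderOf_eq_one _
    have hsr : (dg α α⁻¹) ^ r = 1 := by
      have hαr : α ^ r = 1 := by rw [← hα]; exact pow_orderOf_eq_one α
      rw [dg_pow, inv_pow, hαr, inv_one, dg_one]
    have hcomm := comm_of_coprime_pow H hH (g ^ r ^ e) (dg α α⁻¹) (pow_mem hg _) hs m r hpow
      hsr hcop
    obtain ⟨j, hj⟩ : ∃ j, r ^ e = 2 * j + 1 := by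
      have h3 : Odd (r ^ e) := hodd.pow
      obtain ⟨j, hj⟩ := h3
      exact ⟨j, hj⟩
    have hanti := antidiag_pow_odd g.val h00 h11 j
    rw [← hj, ← Units.val_pow_eq_pow_val] at hanti
    obtain ⟨g00, g11⟩ := hanti
    have hc' := congrArg Units.val hcomm
    rw [Units.val_mul (g ^ r ^ e) (dg α α⁻¹), Units.val_mul (dg α α⁻¹) (g ^ r ^ e)] at hc'
    have e01 := congrFun (congrFun hc' 0) 1
    simp only [mul2, s00, s01, s10, s11, mul_zero, zero_mul, add_zero, zero_add] at e01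
    have hd := gl2_det_ne (g ^ r ^ e)
    rw [g00, g11, zero_mul, zero_sub] at hd
    have h01 : (g ^ r ^ e).val 0 1 = 0 := by
      have h3 : (g ^ r ^ e).val 0 1 * (a' - a) = 0 := by linear_combination e01
      rcases mul_eq_zero.mp h3 with h' | h'
      · exact h'
      · exact absurd (sub_eq_zero.mp h').symm hne
    exact hd (by rw [h01, zero_mul, neg_zero])

theorem pgl2_caseA [Fintype F]
    (G : Subgroup (GL (Fin 2) F ⧸ Subgroup.center (GL (Fin 2) F)))
    (hG : ((Matrix.SpecialLinearGroup.toGL :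
      Matrix.SpecialLinearGroup (Fin 2) F →* GL (Fin 2) F).range).map
      (QuotientGroup.mk' (Subgroup.center (GL (Fin 2) F))) ≤ G)
    (𝓐 : Finset (Subgroup ↥G)) (h𝓐 : IsNMC 𝓐)
    (r : ℕ) (hr : r.Prime) (hodd : Odd r) (hrd : r ∣ Nat.card Fˣ) : False := by
  obtain ⟨p, hpc⟩ := CharP.exists F
  haveI := hpc
  haveI hp : Fact p.Prime := ⟨CharP.char_is_prime F p⟩
  haveI : Fact r.Prime := ⟨hr⟩
  obtain ⟨α, hα⟩ := exists_prime_orderOf_dvd_card' r hrd
  obtain ⟨L, hL⟩ : ∃ L : GL (Fin 2) F, L = mk2 1 0 1 1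
      (by rw [mul_one, zero_mul, sub_zero]; exact one_ne_zero) := ⟨_, rfl⟩
  have hdets : (dg α α⁻¹).val.det = 1 := by
    rw [Matrix.det_fin_two, dg_00, dg_11, dg_01, dg_10, mul_zero, sub_zero, ← Units.val_mul,
      mul_inv_cancel, Units.val_one]
  refine cover_contra G h𝓐 (colStab (Pi.single (0 : Fin 2) (1 : F))) (center_le_colStab _) L
    ?_ ?_ (jU 2 F) (dg α α⁻¹) ?_ ?_ ?_ ?_ ?_
  · exact mk_mem_of_det hG L
      (by rw [hL, Matrix.det_fin_two, mk2_00, mk2_11, mk2_01, mk2_10]; ring)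
  · intro h
    have h1 := (mem_colStab_e0 L).mp h
    rw [hL, mk2_10] at h1
    exact one_ne_zero h1
  · exact mk_mem_of_det hG _ jU_det
  · exact mk_mem_of_det hG _ hdets
  · intro H hH huH
    exact col_key p (jU 2 F) 2 (jU_pow p) _ jU2_colReg H hH huH
  · intro H hH hsH g hg
    exact (mem_colStab_e0 g).mpr (torus_key r hr hodd α hα H hH hsH g hg).2
  · intro H hH huH hsH
    have h1 := (torus_key r hr hodd α hα H hH hsH _ huH).1
    rw [jU2_01] at h1
    exact one_ne_zero h1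

theorem pgl2_caseB1 [Fintype F]
    (G : Subgroup (GL (Fin 2) F ⧸ Subgroup.center (GL (Fin 2) F)))
    (hG : ((Matrix.SpecialLinearGroup.toGL :
      Matrix.SpecialLinearGroup (Fin 2) F →* GL (Fin 2) F).range).map
      (QuotientGroup.mk' (Subgroup.center (GL (Fin 2) F))) ≤ G)
    (𝓐 : Finset (Subgroup ↥G)) (h𝓐 : IsNMC 𝓐)
    (x : GL (Fin 2) F ⧸ Subgroup.center (GL (Fin 2) F)) (hxG : x ∈ G)
    (hx : x ∉ ((Matrix.SpecialLinearGroup.toGL :
      Matrix.SpecialLinearGroup (Fin 2) F →* GL (Fin 2) F).range).map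
      (QuotientGroup.mk' (Subgroup.center (GL (Fin 2) F)))) : False := by
  obtain ⟨p, hpc⟩ := CharP.exists F
  haveI := hpc
  haveI hp : Fact p.Prime := ⟨CharP.char_is_prime F p⟩
  obtain ⟨g₀, hg₀⟩ := QuotientGroup.mk'_surjective (Subgroup.center (GL (Fin 2) F)) x
  have hg₀G : QuotientGroup.mk' (Subgroup.center (GL (Fin 2) F)) g₀ ∈ G := by
    rw [hg₀]; exact hxG
  have hg₀S : g₀ ∉ sqDet F := by
    rintro ⟨κ, hκ⟩
    apply hx
    have hκ0 : κ ≠ 0 := by
      intro h0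
      rw [h0, mul_zero] at hκ
      exact gl_det_ne_zero g₀ hκ
    obtain ⟨z, hz⟩ : ∃ z : GL (Fin 2) F,
        z = Matrix.GeneralLinearGroup.scalar (Fin 2) (Units.mk0 κ hκ0) := ⟨_, rfl⟩
    have hzv : z.val = Matrix.diagonal (fun _ => κ) := by rw [hz]; rfl
    have hzZ : z ∈ Subgroup.center (GL (Fin 2) F) := scalar_mem_center z κ hzv
    have hzdet : z.val.det = κ * κ := by rw [hzv, Matrix.det_diagonal, Fin.prod_univ_two]
    have hdet : (g₀ * z⁻¹).val.det = 1 := by
      have h1 : (z⁻¹).val.det * z.val.det = 1 := by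
        rw [← Matrix.det_mul, ← Units.val_mul, inv_mul_cancel, Units.val_one, Matrix.det_one]
      rw [Units.val_mul, Matrix.det_mul, hκ, ← hzdet, mul_comm, h1]
    rw [← hg₀]
    refine ⟨g₀ * z⁻¹, mem_range_toGL _ hdet, ?_⟩
    rw [map_mul, map_inv]
    have h3 : QuotientGroup.mk' (Subgroup.center (GL (Fin 2) F)) z = 1 :=
      (QuotientGroup.eq_one_iff z).mpr hzZ
    rw [h3, inv_one, mul_one]
  obtain ⟨w, hw⟩ : ∃ w : GL (Fin 2) F, w = mk2 0 1 1 0
      (by rw [mul_zero, one_mul, zero_sub]; exact neg_ne_zero.mpr one_ne_zero) := ⟨_, rfl⟩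
  obtain ⟨b, hb⟩ : ∃ b : GL (Fin 2) F, b = w * jU 2 F * w⁻¹ := ⟨_, rfl⟩
  have hjpow : (jU 2 F) ^ p ^ 2 = 1 := jU_pow p
  have hbpow : b ^ p ^ 2 = 1 := by rw [hb, conj_pow, hjpow, mul_one, mul_inv_cancel]
  refine cover_contra G h𝓐 (sqDet F) center_le_sqDet g₀ hg₀G hg₀S (jU 2 F) b ?_ ?_ ?_ ?_ ?_
  · exact mk_mem_of_det hG _ jU_det
  · exact mk_mem_of_det hG _ (by rw [hb, det_conj]; exact jU_det)
  · intro H hH huH
    exact sq_key p (jU 2 F) 2 hjpow jU2_comm_sq H hH huH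
  · intro H hH hbH
    exact sq_key p b 2 hbpow (by rw [hb]; exact sq_comm_conj (jU 2 F) w jU2_comm_sq) H hH hbH
  · intro H hH huH hbH
    have h1 := col_key p b 2 hbpow _ (by rw [hb]; exact colReg_conj (jU 2 F) w _ jU2_colReg)
      H hH hbH
    obtain ⟨c, hc⟩ := h1 huH
    have h0 := congrFun hc 0
    rw [mulVec2, mulVec_e0, mulVec_e0, Pi.smul_apply, mulVec_e0, jU2_00, jU2_01, hw, mk2_00,
      mk2_10] at h0
    rw [smul_zero, mul_zero, zero_add, mul_one] at h0
    exact one_ne_zero h0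

end TwoA

end Cfsg.Agent.Helper22
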