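import Mathlib
import Cfsg.Agent.Helper22.Pgl2A

set_option autoImplicit false
set_option linter.style.haveILetI false
set_option linter.unusedSectionVars false
set_option linter.unusedSimpArgs false

open Cfsg
open Matrix MatrixGroups

namespace Cfsg.Agent.Helper22

section TwoB

variable {F : Type*} [Field F]

theorem eig_claim (i : F) (hii : i * i = -1) (h2 : (2 : F) ≠ 0) (J : GL (Fin 2) F)
    (hJ00 : J.val 0 0 = i) (hJ01 : J.val 0 1 = 0) (hJ10 : J.val 1 0 = 0)
    (hJ11 : J.val 1 1 = -i)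
    (H : Subgroup (GL (Fin 2) F)) (hH : Group.IsNilpotent ↥H) (hJH : J ∈ H)
    (hsq : ∀ g ∈ H, g ∈ sqDet F) :
    ∀ g ∈ H, ∃ v : Fin 2 → F, v ≠ 0 ∧ ∃ l : F, g.val *ᵥ v = l • v := by
  have hi0 : i ≠ 0 := by
    intro h
    rw [h, mul_zero] at hii
    exact one_ne_zero (show (1 : F) = 0 by linear_combination hii)
  have hine : i ≠ -i := by
    intro h
    have h3 : (2 : F) * i = 0 := by linear_combination h
    rcases mul_eq_zero.mp h3 with h' | h'
    · exact h2 h'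
    · exact hi0 h'
  have hJZ : J ∉ Subgroup.center (GL (Fin 2) F) := by
    intro hz
    obtain ⟨κ, hκ⟩ := center_scalar _ hz
    have h0 := congrFun (congrFun hκ 0) 0
    have h1 := congrFun (congrFun hκ 1) 1
    rw [Matrix.diagonal_apply_eq] at h0 h1
    rw [hJ00] at h0
    rw [hJ11] at h1
    exact hine (h0.trans h1.symm)
  obtain ⟨x, hxH, hxZ, hx⟩ := exists_proj_central H hH (fun h => hJZ (h hJH))
  obtain ⟨κ, hκ⟩ := (hx _ hJH).2
  have hx_da := diag_or_anti J.val x.val κ hJ01 hJ10 (by rw [hJ00]; exact hi0)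
    (by rw [hJ11]; exact neg_ne_zero.mpr hi0) (by rw [hJ00, hJ11]; exact hine) hκ
  intro g hg
  obtain ⟨κg, hκg⟩ := (hx g hg).1
  obtain ⟨δ, hδ⟩ := hsq g hg
  have hgd : g.val 0 0 * g.val 1 1 - g.val 0 1 * g.val 1 0 = δ * δ := by
    rw [← Matrix.det_fin_two]; exact hδ
  have hgne := gl2_det_ne g
  rcases hx_da with ⟨hx01, hx10⟩ | ⟨hx00, hx11⟩
  · have hxd := gl2_det_ne x
    rw [hx01, zero_mul, sub_zero] at hxd
    have hx00 : x.val 0 0 ≠ 0 := left_ne_zero_of_mul hxd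
    have hx11 : x.val 1 1 ≠ 0 := right_ne_zero_of_mul hxd
    have hxne : x.val 0 0 ≠ x.val 1 1 := by
      intro he
      apply hxZ
      apply scalar_mem_center x (x.val 0 0)
      apply ext2
      · rw [Matrix.diagonal_apply_eq]
      · rw [hx01]; exact (Matrix.diagonal_apply_ne _ (by decide)).symm
      · rw [hx10]; exact (Matrix.diagonal_apply_ne _ (by decide)).symm
      · rw [Matrix.diagonal_apply_eq, he]
    rcases diag_or_anti x.val g.val κg hx01 hx10 hx00 hx11 hxne hκg with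
      ⟨g01, g10⟩ | ⟨g00, g11⟩
    · exact hasEig_of g.val 1 0 (g.val 0 0) (Or.inl one_ne_zero) (by ring)
        (by rw [g10]; ring)
    · have hb : g.val 0 1 ≠ 0 := by
        intro h
        apply hgne
        rw [g00, h, zero_mul, zero_mul, sub_zero]
      exact hasEig_of g.val (g.val 0 1) (i * δ) (i * δ) (Or.inl hb)
        (by linear_combination (g.val 0 1) * g00)
        (by linear_combination (-1 : F) * hgd + (-(δ * δ)) * hii + (i * δ) * g11 +
          (g.val 1 1) * g00)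
  · obtain ⟨δx, hδx⟩ := hsq x hxH
    have hxdet : x.val 0 0 * x.val 1 1 - x.val 0 1 * x.val 1 0 = δx * δx := by
      rw [← Matrix.det_fin_two]; exact hδx
    have hxne0 := gl2_det_ne x
    have hb0 : x.val 0 1 ≠ 0 := by
      intro h
      apply hxne0
      rw [hx00, h, zero_mul, zero_mul, sub_zero]
    obtain ⟨b, hbdef⟩ : ∃ b : F, b = x.val 0 1 := ⟨_, rfl⟩
    obtain ⟨c, hcdef⟩ : ∃ c : F, c = x.val 1 0 := ⟨_, rfl⟩
    obtain ⟨μ, hμdef⟩ : ∃ μ : F, μ = i * δx := ⟨_, rfl⟩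
    rw [← hbdef] at hb0
    have hμ : μ * μ = b * c := by
      rw [hμdef, hbdef, hcdef]
      linear_combination hxdet + (δx * δx) * hii - (x.val 1 1) * hx00
    have hbinv : b * b⁻¹ = 1 := mul_inv_cancel₀ hb0
    have E00 := congrFun (congrFun hκg 0) 0
    have E01 := congrFun (congrFun hκg 0) 1
    simp only [Matrix.smul_apply, mul2, hx00, hx11, smul_eq_mul, mul_zero, zero_mul, add_zero,
      zero_add] at E00 E01
    rw [← hbdef, ← hcdef] at E00
    rw [← hbdef] at E01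
    have hk2 : κg * κg = 1 := by
      have h1 := congrArg Matrix.det hκg
      rw [Matrix.det_mul, Matrix.det_smul, Matrix.det_mul, Fintype.card_fin] at h1
      have hxd := gl_det_ne_zero x
      have hgd' := gl_det_ne_zero g
      have h3 : (κg * κg - 1) * (x.val.det * g.val.det) = 0 := by
        linear_combination (-1 : F) * h1
      rcases mul_eq_zero.mp h3 with h' | h'
      · exact sub_eq_zero.mp h'
      · exact absurd h' (mul_ne_zero hxd hgd')
    have hk : κg = 1 ∨ κg = -1 := by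
      have h3 : (κg - 1) * (κg + 1) = 0 := by linear_combination hk2
      rcases mul_eq_zero.mp h3 with h' | h'
      · exact Or.inl (sub_eq_zero.mp h')
      · exact Or.inr (eq_neg_of_add_eq_zero_left h')
    rcases hk with hk1 | hkm
    · rw [hk1, one_mul] at E00 E01
      have hg11 : g.val 1 1 = g.val 0 0 := mul_left_cancel₀ hb0 (by linear_combination E01)
      exact hasEig_of g.val b μ (g.val 0 0 + g.val 0 1 * μ * b⁻¹) (Or.inl hb0)
        (by linear_combination (-(g.val 0 1 * μ)) * hbinv)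
        (by linear_combination E00 + μ * hg11 - (g.val 0 1 * c) * hbinv -
          (g.val 0 1 * b⁻¹) * hμ)
    · rw [hkm] at E01
      have hg11 : g.val 1 1 = -g.val 0 0 := mul_left_cancel₀ hb0 (by linear_combination E01)
      by_cases hg01 : g.val 0 1 = 0
      · exact hasEig_of g.val 0 1 (g.val 1 1) (Or.inr one_ne_zero)
          (by linear_combination hg01) (by ring)
      · exact hasEig_of g.val (g.val 0 1) (i * δ - g.val 0 0) (i * δ) (Or.inl hg01)
          (by ring)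
          (by linear_combination (i * δ) * hg11 - hgd - (δ * δ) * hii)

theorem pgl2_caseB2 [Fintype F]
    (G : Subgroup (GL (Fin 2) F ⧸ Subgroup.center (GL (Fin 2) F)))
    (hG : ((Matrix.SpecialLinearGroup.toGL :
      Matrix.SpecialLinearGroup (Fin 2) F →* GL (Fin 2) F).range).map
      (QuotientGroup.mk' (Subgroup.center (GL (Fin 2) F))) ≤ G)
    (𝓐 : Finset (Subgroup ↥G)) (h𝓐 : IsNMC 𝓐)
    (hSL : ∀ x ∈ G, x ∈ ((Matrix.SpecialLinearGroup.toGL :
      Matrix.SpecialLinearGroup (Fin 2) F →* GL (Fin 2) F).range).map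
      (QuotientGroup.mk' (Subgroup.center (GL (Fin 2) F))))
    (ι : Fˣ) (hι : orderOf ι = 4) : False := by
  classical
  obtain ⟨p, hpc⟩ := CharP.exists F
  haveI := hpc
  haveI hp : Fact p.Prime := ⟨CharP.char_is_prime F p⟩
  haveI : Fintype (GL (Fin 2) F) := Fintype.ofFinite _
  obtain ⟨i, hi⟩ : ∃ i : F, i = (ι : F) := ⟨_, rfl⟩
  have hι4 : ι ^ 4 = 1 := by rw [← hι]; exact pow_orderOf_eq_one ι
  have hι2 : ι ^ 2 ≠ 1 := by
    intro h
    have h1 : orderOf ι ∣ 2 := orderOf_dvd_of_pow_eq_one h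
    rw [hι] at h1
    exact absurd h1 (by decide)
  have hi4 : i ^ 4 = 1 := by rw [hi, ← Units.val_pow_eq_pow_val, hι4, Units.val_one]
  have hi2 : i ^ 2 ≠ 1 := by
    intro h
    apply hι2
    apply Units.ext
    rw [Units.val_pow_eq_pow_val, Units.val_one, ← hi]
    exact h
  have hii : i * i = -1 := by
    have h1 : (i ^ 2 - 1) * (i ^ 2 + 1) = 0 := by linear_combination hi4
    rcases mul_eq_zero.mp h1 with h | h
    · exact absurd (sub_eq_zero.mp h) hi2
    · linear_combination h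
  have h2 : (2 : F) ≠ 0 := by
    intro h
    apply hi2
    linear_combination hii - h
  have hi0 : i ≠ 0 := by rw [hi]; exact ι.ne_zero
  have hp2 : p ≠ 2 := by
    intro h
    apply h2
    have h3 := CharP.cast_eq_zero F p
    rw [h] at h3
    exact_mod_cast h3
  have hcop : Nat.Coprime (p ^ 2) 4 := by
    have h3 : Nat.Coprime p 2 := (Nat.coprime_primes hp.out Nat.prime_two).mpr hp2
    have h4 : Nat.Coprime (p ^ 2) (2 ^ 2) := Nat.Coprime.pow 2 2 h3
    exact h4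
  obtain ⟨J, hJ⟩ : ∃ J : GL (Fin 2) F, J = dg ι (-ι) := ⟨_, rfl⟩
  have hJ00 : J.val 0 0 = i := by rw [hJ, hi, dg_00]
  have hJ01 : J.val 0 1 = 0 := by rw [hJ, dg_01]
  have hJ10 : J.val 1 0 = 0 := by rw [hJ, dg_10]
  have hJ11 : J.val 1 1 = -i := by rw [hJ, hi, dg_11, Units.val_neg]
  have hJ4 : J ^ 4 = 1 := by
    rw [hJ, dg_pow, Even.neg_pow (⟨2, rfl⟩ : Even 4), hι4, dg_one]
  have hJdet : J.val.det = 1 := by
    rw [Matrix.det_fin_two, hJ00, hJ01, hJ10, hJ11]
    linear_combination (-1 : F) * hii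
  obtain ⟨Bor, hBor⟩ : ∃ Bor : GL (Fin 2) F → Subgroup ↥G,
      ∀ c, Bor c = downSub G (colStab (c.val *ᵥ (Pi.single (0 : Fin 2) (1 : F)))) :=
    ⟨_, fun _ => rfl⟩
  have he0ne : (Pi.single (0 : Fin 2) (1 : F) : Fin 2 → F) ≠ 0 := (jU2_colReg (F := F)).1
  have he1ne : (Pi.single (1 : Fin 2) (1 : F) : Fin 2 → F) ≠ 0 := by
    intro h
    have h3 := congrFun h 1
    rw [e1_1] at h3
    exact one_ne_zero h3
  have hjpow : (jU 2 F) ^ p ^ 2 = 1 := jU_pow p
  have hu_c : ∀ c : GL (Fin 2) F,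
      QuotientGroup.mk' (Subgroup.center (GL (Fin 2) F)) (c * jU 2 F * c⁻¹) ∈ G :=
    fun c => mk_mem_of_det hG _ (by rw [det_conj]; exact jU_det)
  have hcpow : ∀ c : GL (Fin 2) F, (c * jU 2 F * c⁻¹) ^ p ^ 2 = 1 := by
    intro c; rw [conj_pow, hjpow, mul_one, mul_inv_cancel]
  have hcreg : ∀ c : GL (Fin 2) F,
      ColReg (c * jU 2 F * c⁻¹) (c.val *ᵥ (Pi.single (0 : Fin 2) (1 : F))) :=
    fun c => colReg_conj (jU 2 F) c _ jU2_colReg
  have hF2 : ∀ c : GL (Fin 2) F, ∃ A ∈ 𝓐, (⟨_, hu_c c⟩ : ↥G) ∈ A ∧ A ≤ Bor c := by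
    intro c
    obtain ⟨A, hA, huA⟩ := h𝓐.1.2 ⟨_, hu_c c⟩
    refine ⟨A, hA, huA, ?_⟩
    rw [hBor]
    apply le_downSub_of_lift_le G _ (center_le_colStab _) A
    exact col_key p _ 2 (hcpow c) _ (hcreg c) _ (pglLift_nilpotent G A (h𝓐.2.2 A hA))
      ((mem_pglLift G A _).mpr ⟨hu_c c, huA⟩)
  have hF3 : ∀ c c' : GL (Fin 2) F, (⟨_, hu_c c⟩ : ↥G) ∈ Bor c' → Bor c' = Bor c := by
    intro c c' h
    rw [hBor] at h
    have h1 := (mk_mem_downSub G _ (center_le_colStab _) _ (hu_c c)).mp h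
    obtain ⟨κ, hκ⟩ := colStab_of_colReg p _ 2 (hcpow c) _ (hcreg c) _
      (gl_mulVec_ne_zero c' _ he0ne) h1
    rw [hBor, hBor, hκ, colStab_smul]
  obtain ⟨w, hw⟩ : ∃ w : GL (Fin 2) F, w = mk2 0 1 1 0
      (by rw [mul_zero, one_mul, zero_sub]; exact neg_ne_zero.mpr one_ne_zero) := ⟨_, rfl⟩
  have hBtop : ∀ c : GL (Fin 2) F, Bor c ≠ ⊤ := by
    intro c ht
    have h1 : (⟨_, hu_c (c * w)⟩ : ↥G) ∈ Bor c := by rw [ht]; exact Subgroup.mem_top _
    rw [hBor] at h1
    have h2 := (mk_mem_downSub G _ (center_le_colStab _) _ (hu_c (c * w))).mp h1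
    obtain ⟨κ, hκ⟩ := colStab_of_colReg p _ 2 (hcpow (c * w)) _ (hcreg (c * w)) _
      (gl_mulVec_ne_zero c _ he0ne) h2
    rw [Units.val_mul c w, ← Matrix.mulVec_mulVec, ← Matrix.mulVec_smul] at hκ
    have h3 : (c⁻¹).val *ᵥ (c.val *ᵥ (Pi.single (0 : Fin 2) (1 : F))) =
        (c⁻¹).val *ᵥ (c.val *ᵥ ((κ : F) • (w.val *ᵥ (Pi.single (0 : Fin 2) (1 : F))))) := by
      rw [← hκ]
    rw [gl_inv_mulVec, gl_inv_mulVec] at h3
    have h4 := congrFun h3 0
    rw [e0_0, Pi.smul_apply, mulVec_e0, hw, mk2_00, smul_zero] at h4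
    exact one_ne_zero h4
  have hjG : QuotientGroup.mk' (Subgroup.center (GL (Fin 2) F)) J ∈ G :=
    mk_mem_of_det hG J hJdet
  obtain ⟨Astar, hAs, hjA⟩ := h𝓐.1.2 ⟨_, hjG⟩
  have hHn := pglLift_nilpotent G Astar (h𝓐.2.2 Astar hAs)
  have hjH : J ∈ pglLift G Astar := (mem_pglLift G Astar J).mpr ⟨hjG, hjA⟩
  have hsq : ∀ g ∈ pglLift G Astar, g ∈ sqDet F := by
    intro g hg
    obtain ⟨hgG, -⟩ := (mem_pglLift G Astar g).mp hg
    exact det_sq_of_mem_map g (hSL _ hgG)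
  have heig := eig_claim i hii h2 J hJ00 hJ01 hJ10 hJ11 (pglLift G Astar) hHn hjH hsq
  refine replace_contra h𝓐 (Finset.univ.image Bor) ?_ ?_ Astar hAs ?_ ?_
  · intro B hB
    obtain ⟨c, -, rfl⟩ := Finset.mem_image.mp hB
    exact hBtop c
  · intro B hB
    obtain ⟨c, -, rfl⟩ := Finset.mem_image.mp hB
    obtain ⟨A, hA, huA, hAle⟩ := hF2 c
    refine ⟨A, hA, hAle, ?_⟩
    intro B' hB' hAB'
    obtain ⟨c', -, rfl⟩ := Finset.mem_image.mp hB'
    exact hF3 c c' (hAB' huA)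
  · intro x hx
    obtain ⟨g, hg⟩ := QuotientGroup.mk'_surjective (Subgroup.center (GL (Fin 2) F)) x.1
    have hgG : QuotientGroup.mk' (Subgroup.center (GL (Fin 2) F)) g ∈ G := by
      rw [hg]; exact x.2
    have hxe : x = ⟨QuotientGroup.mk' (Subgroup.center (GL (Fin 2) F)) g, hgG⟩ :=
      Subtype.ext hg.symm
    have hgH : g ∈ pglLift G Astar :=
      (mem_pglLift G Astar g).mpr ⟨hgG, by rw [← hxe]; exact hx⟩
    obtain ⟨v, hv0, l, hl⟩ := heig g hgH
    obtain ⟨c, hc⟩ := exists_gl_col v hv0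
    refine ⟨Bor c, Finset.mem_image.mpr ⟨c, Finset.mem_univ _, rfl⟩, ?_⟩
    rw [hxe, hBor, mk_mem_downSub G _ (center_le_colStab _) g hgG, hc]
    have hl0 : l ≠ 0 := by
      intro h0
      rw [h0, zero_smul] at hl
      exact gl_mulVec_ne_zero g v hv0 hl
    exact ⟨Units.mk0 l hl0, hl⟩
  · intro B hB hle
    obtain ⟨c, -, rfl⟩ := Finset.mem_image.mp hB
    obtain ⟨A, hA, huA, hAle⟩ := hF2 c
    have hAeq : Astar = A := by
      by_contra hne
      exact nmc_no_two_in h𝓐 hAs hA hne (hBtop c) hle hAle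
    obtain ⟨uc, huc⟩ : ∃ uc : GL (Fin 2) F, uc = c * jU 2 F * c⁻¹ := ⟨_, rfl⟩
    have hucpow : uc ^ p ^ 2 = 1 := by rw [huc]; exact hcpow c
    have hucreg : ColReg uc (c.val *ᵥ (Pi.single (0 : Fin 2) (1 : F))) := by
      rw [huc]; exact hcreg c
    have hucH : uc ∈ pglLift G Astar := by
      rw [huc]
      exact (mem_pglLift G Astar _).mpr ⟨hu_c c, by rw [hAeq]; exact huA⟩
    have hcomm := comm_of_coprime_pow _ hHn uc J hucH hjH (p ^ 2) 4 hucpow hJ4 hcop
    have hc' := congrArg Units.val hcomm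
    rw [Units.val_mul uc J, Units.val_mul J uc] at hc'
    have e01 := congrFun (congrFun hc' 0) 1
    have e10 := congrFun (congrFun hc' 1) 0
    simp only [mul2, hJ00, hJ01, hJ10, hJ11, mul_zero, zero_mul, add_zero, zero_add] at e01 e10
    have hU01 : uc.val 0 1 = 0 := by
      have h3 : (2 * i) * uc.val 0 1 = 0 := by linear_combination (-1 : F) * e01
      rcases mul_eq_zero.mp h3 with h' | h'
      · exact absurd h' (mul_ne_zero h2 hi0)
      · exact h'
    have hU10 : uc.val 1 0 = 0 := by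
      have h3 : (2 * i) * uc.val 1 0 = 0 := by linear_combination e10
      rcases mul_eq_zero.mp h3 with h' | h'
      · exact absurd h' (mul_ne_zero h2 hi0)
      · exact h'
    have hm0 : uc ∈ colStab (Pi.single (0 : Fin 2) (1 : F)) := (mem_colStab_e0 uc).mpr hU10
    have hm1 : uc ∈ colStab (Pi.single (1 : Fin 2) (1 : F)) := mem_colStab_e1_of uc hU01
    obtain ⟨κ0, hκ0⟩ := colStab_of_colReg p uc 2 hucpow _ hucreg _ he0ne hm0
    obtain ⟨κ1, hκ1⟩ := colStab_of_colReg p uc 2 hucpow _ hucreg _ he1ne hm1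
    have a1 := congrFun hκ0 1
    have b1 := congrFun hκ1 1
    rw [e0_1, Pi.smul_apply, smul_eq_mul] at a1
    rw [e1_1, Pi.smul_apply, smul_eq_mul] at b1
    have hv1 : (c.val *ᵥ (Pi.single (0 : Fin 2) (1 : F))) 1 = 0 := by
      rcases mul_eq_zero.mp a1.symm with h' | h'
      · exact absurd h' κ0.ne_zero
      · exact h'
    rw [hv1, mul_zero] at b1
    exact one_ne_zero b1

theorem pgl_case_two [Fintype F] (hq : 4 ≤ Fintype.card F)
    (G : Subgroup (GL (Fin 2) F ⧸ Subgroup.center (GL (Fin 2) F)))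
    (hG : ((Matrix.SpecialLinearGroup.toGL :
      Matrix.SpecialLinearGroup (Fin 2) F →* GL (Fin 2) F).range).map
      (QuotientGroup.mk' (Subgroup.center (GL (Fin 2) F))) ≤ G)
    (𝓐 : Finset (Subgroup ↥G)) (h𝓐 : IsNMC 𝓐) : False := by
  classical
  have hcard : Nat.card Fˣ = Fintype.card F - 1 := by
    rw [Nat.card_units, Nat.card_eq_fintype_card]
  rcases Nat.eq_two_pow_or_exists_odd_prime_and_dvd (Nat.card Fˣ) with
    ⟨k, hk⟩ | ⟨r, hr, hrd, hodd⟩
  · have hk2 : 2 ≤ k := by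
      by_contra hlt
      have hk' : k = 0 ∨ k = 1 := by omega
      rcases hk' with rfl | rfl
      · rw [hcard, pow_zero] at hk; omega
      · rw [hcard, pow_one] at hk; omega
    obtain ⟨g, hg⟩ := IsCyclic.exists_ofOrder_eq_natCard (α := Fˣ)
    have h4 : 2 ^ 2 ∣ orderOf g := by rw [hg, hk]; exact pow_dvd_pow 2 hk2
    have hι : orderOf (g ^ (orderOf g / 2 ^ 2)) = 4 :=
      (orderOf_pow_orderOf_div (orderOf_pos g).ne' h4).trans (by norm_num)
    by_cases hex : ∃ x ∈ G, x ∉ ((Matrix.SpecialLinearGroup.toGL :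
      Matrix.SpecialLinearGroup (Fin 2) F →* GL (Fin 2) F).range).map
      (QuotientGroup.mk' (Subgroup.center (GL (Fin 2) F)))
    · obtain ⟨x, hxG, hx⟩ := hex
      exact pgl2_caseB1 G hG 𝓐 h𝓐 x hxG hx
    · have hSL : ∀ x ∈ G, x ∈ ((Matrix.SpecialLinearGroup.toGL :
          Matrix.SpecialLinearGroup (Fin 2) F →* GL (Fin 2) F).range).map
          (QuotientGroup.mk' (Subgroup.center (GL (Fin 2) F))) :=
        fun x hx => by_contra (fun h => hex ⟨x, hx, h⟩)
      exact pgl2_caseB2 G hG 𝓐 h𝓐 hSL _ hι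
  · exact pgl2_caseA G hG 𝓐 h𝓐 r hr hodd hrd

end TwoB

end Cfsg.Agent.Helper22
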