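import Mathlib
import Cfsg.Agent.Helper22.PglJordan

set_option autoImplicit false
set_option linter.style.haveILetI false
set_option linter.unusedSectionVars false

open Cfsg
open Matrix MatrixGroups

namespace Cfsg.Agent.Helper22

theorem pgl_case_ge3 {F : Type*} [Field F] [Fintype F] (n : ℕ) (hn : 3 ≤ n)
    (G : Subgroup (GL (Fin n) F ⧸ Subgroup.center (GL (Fin n) F)))
    (hG : ((Matrix.SpecialLinearGroup.toGL :
      Matrix.SpecialLinearGroup (Fin n) F →* GL (Fin n) F).range).map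
      (QuotientGroup.mk' (Subgroup.center (GL (Fin n) F))) ≤ G)
    (𝓐 : Finset (Subgroup ↥G)) (h𝓐 : IsNMC 𝓐) : False := by
  obtain ⟨p, hpc⟩ := CharP.exists F
  haveI := hpc
  haveI hp : Fact p.Prime := ⟨CharP.char_is_prime F p⟩
  have hn0 : 0 < n := by omega
  have h1n : 1 < n := by omega
  have h2n : 2 < n := by omega
  obtain ⟨i0, hi0⟩ : ∃ i : Fin n, i = ⟨0, hn0⟩ := ⟨_, rfl⟩
  obtain ⟨i1, hi1⟩ : ∃ i : Fin n, i = ⟨1, h1n⟩ := ⟨_, rfl⟩
  obtain ⟨i2, hi2⟩ : ∃ i : Fin n, i = ⟨2, h2n⟩ := ⟨_, rfl⟩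
  obtain ⟨il, hil⟩ : ∃ i : Fin n, i = ⟨n - 1, Nat.sub_lt hn0 Nat.one_pos⟩ := ⟨_, rfl⟩
  have h10 : i1 ≠ i0 := by
    rw [hi0, hi1]; exact Fin.ne_of_val_ne (by show (1 : ℕ) ≠ 0; omega)
  have h20 : i2 ≠ i0 := by
    rw [hi0, hi2]; exact Fin.ne_of_val_ne (by show (2 : ℕ) ≠ 0; omega)
  have h21 : i2 ≠ i1 := by
    rw [hi1, hi2]; exact Fin.ne_of_val_ne (by show (2 : ℕ) ≠ 1; omega)
  have hl0 : il ≠ i0 := by
    rw [hi0, hil]; exact Fin.ne_of_val_ne (by show n - 1 ≠ 0; omega)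
  have hl1 : il ≠ i1 := by
    rw [hi1, hil]; exact Fin.ne_of_val_ne (by show n - 1 ≠ 1; omega)
  obtain ⟨w, hw⟩ : ∃ w : GL (Fin n) F, w = tvGL i1 i0 h10 := ⟨_, rfl⟩
  obtain ⟨g₀, hg₀⟩ : ∃ g : GL (Fin n) F, g = tvGL il i0 hl0 := ⟨_, rfl⟩
  have hcolreg : ColReg (jU n F) (Pi.single i0 1) := by rw [hi0]; exact jU_colReg hn0
  have hrowreg : RowReg (jU n F) (Pi.single il 1) := by rw [hil]; exact jU_rowReg hn0
  have hcolreg' := colReg_conj (jU n F) w _ hcolreg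
  have hrowreg' := rowReg_conj (jU n F) w _ hrowreg
  have hrow_eq : (Pi.single il (1 : F)) ᵥ* (w⁻¹).val = Pi.single il 1 := by
    funext l
    have hneg : ¬ (i1 = il ∧ i0 = l) := fun h => hl1 h.1.symm
    rw [hw, tvGL_inv_val, single_vecMul_transvection, if_neg hneg, add_zero, Pi.single_apply]
    exact if_congr eq_comm rfl rfl
  have hg₀S : g₀ ∉ rowStab (Pi.single il (1 : F)) := by
    rintro ⟨c, hc⟩
    have h1 := congrFun hc i0
    have hpos : il = il ∧ i0 = i0 := ⟨rfl, rfl⟩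
    rw [hg₀, tvGL_val, single_vecMul_transvection, if_neg hl0, if_pos hpos, zero_add,
      Pi.smul_apply, Pi.single_eq_of_ne hl0.symm, smul_zero] at h1
    exact one_ne_zero h1
  have hZS : Subgroup.center (GL (Fin n) F) ≤ rowStab (Pi.single il (1 : F)) :=
    center_le_rowStab _
  have hjpow : (jU n F) ^ p ^ n = 1 := jU_pow p
  obtain ⟨b, hb⟩ : ∃ b : GL (Fin n) F, b = w * jU n F * w⁻¹ := ⟨_, rfl⟩
  have hbpow : b ^ p ^ n = 1 := by
    rw [hb, conj_pow, hjpow, mul_one, mul_inv_cancel]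
  refine cover_contra G h𝓐 (rowStab (Pi.single il (1 : F))) hZS g₀ ?_ hg₀S (jU n F) b
    ?_ ?_ ?_ ?_ ?_
  · exact mk_mem_of_det hG g₀ (by rw [hg₀]; exact tvGL_det _ _ _)
  · exact mk_mem_of_det hG _ jU_det
  · exact mk_mem_of_det hG _ (by rw [hb, det_conj]; exact jU_det)
  · intro H hH huH
    exact row_key p (jU n F) n hjpow _ hrowreg H hH huH
  · intro H hH hbH
    have h1 := row_key p b n hbpow _ (by rw [hb]; exact hrowreg') H hH hbH
    rw [hrow_eq] at h1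
    exact h1
  · intro H hH huH hbH
    have h1 := col_key p b n hbpow _ (by rw [hb]; exact hcolreg') H hH hbH
    obtain ⟨c, hc⟩ := h1 huH
    obtain ⟨v, hvdef⟩ : ∃ v : Fin n → F, v = Pi.single i0 1 + Pi.single i1 1 := ⟨_, rfl⟩
    have hv : w.val *ᵥ Pi.single i0 (1 : F) = v := by
      rw [hw, tvGL_val, transvection_mulVec, Pi.single_eq_same, mul_one, hvdef]
    have v0 : v i0 = 1 := by
      rw [hvdef, Pi.add_apply, Pi.single_eq_same, Pi.single_eq_of_ne h10.symm, add_zero]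
    have v1 : v i1 = 1 := by
      rw [hvdef, Pi.add_apply, Pi.single_eq_same, Pi.single_eq_of_ne h10, zero_add]
    have v2 : v i2 = 0 := by
      rw [hvdef, Pi.add_apply, Pi.single_eq_of_ne h20, Pi.single_eq_of_ne h21, add_zero]
    rw [hv, jU_mulVec] at hc
    have e0 : (jN n F *ᵥ v) i0 = v i1 := by
      rw [hi0, hi1]; exact jN_mulVec_succ _ 0 h1n
    have e1 : (jN n F *ᵥ v) i1 = v i2 := by
      rw [hi1, hi2]; exact jN_mulVec_succ _ 1 h2n
    have c0 := congrFun hc i0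
    have c1 := congrFun hc i1
    rw [Pi.add_apply, Pi.smul_apply, e0, v0, v1, smul_eq_mul, mul_one] at c0
    rw [Pi.add_apply, Pi.smul_apply, e1, v1, v2, smul_eq_mul, mul_one, add_zero] at c1
    rw [← c1] at c0
    exact one_ne_zero (add_left_cancel (a := (1 : F)) (by rw [add_zero]; exact c0))

end Cfsg.Agent.Helper22
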