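import Mathlib
import Cfsg.Agent.S4263

set_option autoImplicit false

namespace Cfsg.Agent.Helper22

section Action

variable {G X : Type*} [Group G] [MulAction G X]

theorem stabilizer_subgroup_eq (B : Subgroup G) (x : X) :
    MulAction.stabilizer B x = (MulAction.stabilizer G x).subgroupOf B := by
  ext β
  rw [MulAction.mem_stabilizer_iff, Subgroup.mem_subgroupOf, MulAction.mem_stabilizer_iff]
  rfl

theorem ncard_orbit_subgroup (B : Subgroup G) (x : X) :
    (MulAction.orbit B x).ncard = (MulAction.stabilizer G x).relIndex B := by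
  rw [← MulAction.index_stabilizer, stabilizer_subgroup_eq]
  rfl

theorem ncard_orbit_subgroup_dvd [Finite G] (K : Subgroup G) [K.Normal] (x : X) :
    (MulAction.orbit K x).ncard ∣ (MulAction.orbit G x).ncard := by
  rw [ncard_orbit_subgroup, ← MulAction.index_stabilizer, ← S4263.relIndex_sup_eq]
  exact Subgroup.relIndex_dvd_index_of_le le_sup_left

theorem exists_stabilizer_smul_eq [Finite G] (x y : X)
    (hcop : (MulAction.orbit G x).ncard.Coprime (MulAction.orbit G y).ncard) (g : G) :
    ∃ β : G, β • y = y ∧ β • x = g • x := by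
  obtain ⟨A, hA⟩ : ∃ A, A = MulAction.stabilizer G x := ⟨_, rfl⟩
  obtain ⟨B, hB⟩ : ∃ B, B = MulAction.stabilizer G y := ⟨_, rfl⟩
  have hiA : A.index = (MulAction.orbit G x).ncard := by
    rw [hA]; exact MulAction.index_stabilizer G x
  have hiB : B.index = (MulAction.orbit G y).ncard := by
    rw [hB]; exact MulAction.index_stabilizer G y
  have h1 : (A ⊓ B).relIndex B * B.index = (A ⊓ B).index :=
    Subgroup.relIndex_mul_index inf_le_right
  have h2 : (A ⊓ B).relIndex A * A.index = (A ⊓ B).index :=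
    Subgroup.relIndex_mul_index inf_le_left
  have h3 : A.index ∣ A.relIndex B := by
    have h4 : A.index ∣ (A ⊓ B).relIndex B * B.index := by
      rw [h1, ← h2]; exact dvd_mul_left _ _
    rw [Subgroup.inf_relIndex_right] at h4
    exact Nat.Coprime.dvd_of_dvd_mul_right (by rw [hiA, hiB]; exact hcop) h4
  have h5 : (MulAction.orbit B x).ncard = A.relIndex B := by
    rw [hA]; exact ncard_orbit_subgroup B x
  have hsub : MulAction.orbit B x ⊆ MulAction.orbit G x := by
    rintro _ ⟨β, rfl⟩
    exact ⟨(β : G), rfl⟩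
  have hfin : (MulAction.orbit G x).Finite := Set.finite_range _
  have hBle : ∀ z ∈ B, z • y = y := by
    intro z hz
    rw [hB, MulAction.mem_stabilizer_iff] at hz
    exact hz
  have hne : A.relIndex B ≠ 0 := by
    show (A.subgroupOf B).index ≠ 0
    exact Subgroup.index_ne_zero_of_finite
  have h6 : (MulAction.orbit G x).ncard ≤ (MulAction.orbit B x).ncard := by
    rw [h5, ← hiA]; exact Nat.le_of_dvd (Nat.pos_of_ne_zero hne) h3
  have h7 : MulAction.orbit B x = MulAction.orbit G x :=
    Set.eq_of_subset_of_ncard_le hsub h6 hfin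
  have h8 : g • x ∈ MulAction.orbit B x := by
    rw [h7]; exact ⟨g, rfl⟩
  obtain ⟨β, hβ⟩ := h8
  exact ⟨(β : G), hBle _ β.2, hβ⟩

end Action

section Rep

variable {k H V : Type*} [Field k] [AddCommGroup V] [Module k V] [Group H]

theorem rep_orbit_apply_eq (ρ : Representation k H V) (g : H) (a : V) :
    {u : V | ∃ h : H, ρ h (ρ g a) = u} = {u : V | ∃ h : H, ρ h a = u} := by
  ext u
  constructor
  · rintro ⟨h, rfl⟩
    exact ⟨h * g, by rw [map_mul, Module.End.mul_apply]⟩
  · rintro ⟨h, rfl⟩
    exact ⟨h * g⁻¹, by rw [← Module.End.mul_apply, ← map_mul, inv_mul_cancel_right]⟩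

theorem rep_card_orbit_dvd [Finite H] (ρ : Representation k H V) (a a' : V)
    (hst : ∀ h : H, ρ h a = a → ρ h a' = a') :
    Nat.card {u : V | ∃ h : H, ρ h a' = u} ∣ Nat.card {u : V | ∃ h : H, ρ h a = u} := by
  let _ : MulAction H V := MulAction.compHom V ρ
  have horb : ∀ v : V, Nat.card {u : V | ∃ h : H, ρ h v = u} = (MulAction.orbit H v).ncard := by
    intro v
    rw [← Nat.card_coe_set_eq]; rfl
  rw [horb, horb, ← MulAction.index_stabilizer, ← MulAction.index_stabilizer]
  apply Subgroup.index_dvd_of_le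
  intro h hh
  rw [MulAction.mem_stabilizer_iff] at hh ⊢
  exact hst h hh

theorem rep_card_orbit_restrict_dvd [Finite H] (ρ : Representation k H V) (K : Subgroup H)
    [K.Normal] (w : V) :
    Nat.card {u : V | ∃ x : K, (ρ.comp K.subtype) x w = u} ∣
      Nat.card {u : V | ∃ h : H, ρ h w = u} := by
  let _ : MulAction H V := MulAction.compHom V ρ
  have h1 : Nat.card {u : V | ∃ h : H, ρ h w = u} = (MulAction.orbit H w).ncard := by
    rw [← Nat.card_coe_set_eq]; rfl
  have h2 : Nat.card {u : V | ∃ x : K, (ρ.comp K.subtype) x w = u}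
      = (MulAction.orbit K w).ncard := by
    rw [← Nat.card_coe_set_eq]; rfl
  rw [h1, h2]
  exact ncard_orbit_subgroup_dvd K w

theorem sum_fixed (σ : Representation k H V) (B : Subgroup H) [Fintype B] (w : V)
    (htr : ∀ g : H, ∃ β : H, β ∈ B ∧ σ β w = σ g w) (g : H) :
    σ g (∑ β : B, σ (β : H) w) = ∑ β : B, σ (β : H) w := by
  classical
  obtain ⟨O, hO⟩ : ∃ O : Finset V, O = Finset.univ.image (fun β : B => σ (β : H) w) := ⟨_, rfl⟩
  have hmemO : ∀ v : V, v ∈ O ↔ ∃ β : B, σ (β : H) w = v := by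
    intro v; rw [hO]; simp
  have hmemO' : ∀ g : H, σ g w ∈ O := by
    intro g
    obtain ⟨β, hβ, hβg⟩ := htr g
    exact (hmemO _).mpr ⟨⟨β, hβ⟩, hβg⟩
  have hfib : ∀ v ∈ O, (Finset.univ.filter (fun β : B => σ (β : H) w = v)).card
      = (Finset.univ.filter (fun β : B => σ (β : H) w = w)).card := by
    intro v hv
    obtain ⟨β₀, hβ₀⟩ := (hmemO v).mp hv
    symm
    refine Finset.card_nbij' (fun β => β₀ * β) (fun β => β₀⁻¹ * β) ?_ ?_ ?_ ?_
    · intro β hβ
      simp only [Finset.coe_filter, Finset.mem_univ, true_and,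
        Set.mem_ofPred_eq] at hβ ⊢
      rw [Subgroup.coe_mul, map_mul, Module.End.mul_apply, hβ, hβ₀]
    · intro β hβ
      simp only [Finset.coe_filter, Finset.mem_univ, true_and,
        Set.mem_ofPred_eq] at hβ ⊢
      rw [Subgroup.coe_mul, map_mul, Module.End.mul_apply, hβ, ← hβ₀, ← Module.End.mul_apply,
        ← map_mul, Subgroup.coe_inv, inv_mul_cancel, map_one, Module.End.one_apply]
    · intro β _; simp
    · intro β _; simp
  have hsum : ∑ β : B, σ (β : H) w
      = (Finset.univ.filter (fun β : B => σ (β : H) w = w)).card • ∑ v ∈ O, v := by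
    rw [← Finset.sum_fiberwise_of_maps_to (s := Finset.univ) (t := O)
      (g := fun β : B => σ (β : H) w) (fun β _ => (hmemO _).mpr ⟨β, rfl⟩), Finset.smul_sum]
    refine Finset.sum_congr rfl (fun v hv => ?_)
    rw [← hfib v hv, Finset.sum_congr rfl (fun β hβ => (Finset.mem_filter.mp hβ).2),
      Finset.sum_const]
  rw [hsum, map_nsmul, map_sum]
  congr 1
  refine Finset.sum_nbij' (fun v => σ g v) (fun v => σ g⁻¹ v) ?_ ?_ ?_ ?_ ?_
  · intro v hv
    obtain ⟨β, rfl⟩ := (hmemO v).mp hv
    show σ g (σ (β : H) w) ∈ O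
    rw [← Module.End.mul_apply, ← map_mul]
    exact hmemO' _
  · intro v hv
    obtain ⟨β, rfl⟩ := (hmemO v).mp hv
    show σ g⁻¹ (σ (β : H) w) ∈ O
    rw [← Module.End.mul_apply, ← map_mul]
    exact hmemO' _
  · intro v _
    show σ g⁻¹ (σ g v) = v
    rw [← Module.End.mul_apply, ← map_mul, inv_mul_cancel, map_one, Module.End.one_apply]
  · intro v _
    show σ g (σ g⁻¹ v) = v
    rw [← Module.End.mul_apply, ← map_mul, mul_inv_cancel, map_one, Module.End.one_apply]
  · intro v _; rfl

theorem invariant_of_coprime [Finite H] (σ : Representation k H V)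
    (hcard : (Nat.card H : k) ≠ 0)
    (S : Set V) (hS : Submodule.span k S = ⊤) (b : V)
    (hcop : ∀ w ∈ S, (Nat.card {u : V | ∃ h : H, σ h w = u}).Coprime
      (Nat.card {u : V | ∃ h : H, σ h b = u})) (x : H) : σ x b = b := by
  classical
  let _ : MulAction H V := MulAction.compHom V σ
  have horb : ∀ v : V, Nat.card {u : V | ∃ h : H, σ h v = u} = (MulAction.orbit H v).ncard := by
    intro v
    rw [← Nat.card_coe_set_eq]; rfl
  obtain ⟨B, hB⟩ : ∃ B : Subgroup H, B = MulAction.stabilizer H b := ⟨_, rfl⟩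
  have : Fintype B := Fintype.ofFinite B
  have hBle : ∀ z ∈ B, σ z b = b := by
    intro z hz
    rw [hB, MulAction.mem_stabilizer_iff] at hz
    exact hz
  have hBmem : ∀ β : B, σ (β : H) b = b := fun β => hBle _ β.2
  have hfix : ∀ w ∈ S, (∑ β : B, σ (β : H)) w ∈ σ.invariants := by
    intro w hw
    rw [Representation.mem_invariants]
    intro g
    rw [LinearMap.sum_apply]
    refine sum_fixed σ B w ?_ g
    intro g'
    have hc := hcop w hw
    rw [horb, horb] at hc
    obtain ⟨β, hβ1, hβ2⟩ := exists_stabilizer_smul_eq w b hc g'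
    refine ⟨β, ?_, hβ2⟩
    rw [hB, MulAction.mem_stabilizer_iff]; exact hβ1
  have hall : ∀ v : V, (∑ β : B, σ (β : H)) v ∈ σ.invariants := by
    have hle : Submodule.span k S ≤ Submodule.comap (∑ β : B, σ (β : H)) σ.invariants :=
      Submodule.span_le.mpr (fun w hw => hfix w hw)
    intro v
    have hv : v ∈ Submodule.span k S := by rw [hS]; exact Submodule.mem_top
    exact hle hv
  have hb := hall b
  rw [LinearMap.sum_apply, Finset.sum_congr rfl (fun β _ => hBmem β), Finset.sum_const,
    Finset.card_univ] at hb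
  have hBne : ((Fintype.card B : ℕ) : k) ≠ 0 := by
    intro h0
    apply hcard
    have hdvd : Fintype.card B ∣ Nat.card H := by
      rw [← Nat.card_eq_fintype_card]; exact Subgroup.card_subgroup_dvd_card B
    obtain ⟨e, he⟩ := hdvd
    rw [he, Nat.cast_mul, h0, zero_mul]
  have hb' : b ∈ σ.invariants := by
    rw [← Nat.cast_smul_eq_nsmul k] at hb
    exact (Submodule.smul_mem_iff _ hBne).mp hb
  exact (Representation.mem_invariants σ b).mp hb' x

theorem orbit_span_main [Finite H] (ρ : Representation k H V) (hcard : (Nat.card H : k) ≠ 0)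
    (a : V) (hspan : Submodule.span k {u : V | ∃ h : H, ρ h a = u} = ⊤) :
    Module.finrank k ρ.invariants ≤ 1 ∧
    ∀ b : V, (Nat.card {u : V | ∃ h : H, ρ h a = u}).Coprime
      (Nat.card {u : V | ∃ h : H, ρ h b = u}) → ∀ h : H, ρ h b = b := by
  classical
  have : Fintype H := Fintype.ofFinite H
  constructor
  · have hT1 : ∀ (g : H) (v : V), ρ g ((∑ h : H, ρ h) v) = (∑ h : H, ρ h) v := by
      intro g v
      rw [LinearMap.sum_apply, map_sum]
      simp only [← Module.End.mul_apply, ← map_mul]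
      exact Fintype.sum_equiv (Equiv.mulLeft g) _ _ (fun h => rfl)
    have hT2 : ∀ (g : H) (v : V), (∑ h : H, ρ h) (ρ g v) = (∑ h : H, ρ h) v := by
      intro g v
      rw [LinearMap.sum_apply, LinearMap.sum_apply]
      simp only [← Module.End.mul_apply, ← map_mul]
      exact Fintype.sum_equiv (Equiv.mulRight g) _ _ (fun h => rfl)
    have hT3 : ∀ v ∈ ρ.invariants, (∑ h : H, ρ h) v = (Nat.card H : k) • v := by
      intro v hv
      rw [LinearMap.sum_apply, Finset.sum_congr rfl (fun h _ => hv h), Finset.sum_const,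
        Finset.card_univ, Nat.card_eq_fintype_card, Nat.cast_smul_eq_nsmul]
    have hall : ∀ v : V, (∑ h : H, ρ h) v ∈ Submodule.span k {(∑ h : H, ρ h) a} := by
      have hle : Submodule.span k {u : V | ∃ h : H, ρ h a = u} ≤
          Submodule.comap (∑ h : H, ρ h) (Submodule.span k {(∑ h : H, ρ h) a}) := by
        refine Submodule.span_le.mpr ?_
        rintro u ⟨g, rfl⟩
        show (∑ h : H, ρ h) (ρ g a) ∈ Submodule.span k {(∑ h : H, ρ h) a}
        rw [hT2]
        exact Submodule.mem_span_singleton_self _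
      intro v
      have hv : v ∈ Submodule.span k {u : V | ∃ h : H, ρ h a = u} := by
        rw [hspan]; exact Submodule.mem_top
      exact hle hv
    have hinv : (∑ h : H, ρ h) a ∈ ρ.invariants := fun g => hT1 g a
    refine finrank_le_one (⟨(∑ h : H, ρ h) a, hinv⟩ : ρ.invariants) ?_
    rintro ⟨w, hw⟩
    have h1 := hall w
    rw [hT3 w hw, Submodule.smul_mem_iff _ hcard, Submodule.mem_span_singleton] at h1
    obtain ⟨c, hc⟩ := h1
    exact ⟨c, Subtype.ext hc⟩
  · intro b hcop h
    refine invariant_of_coprime ρ hcard _ hspan b ?_ h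
    rintro w ⟨g, rfl⟩
    rw [rep_orbit_apply_eq]
    exact hcop

end Rep

end Cfsg.Agent.Helper22
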