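import Mathlib
import Cfsg.Agent.Helper22.PglCover

set_option autoImplicit false
set_option linter.style.haveILetI false
set_option linter.unusedSectionVars false
set_option linter.unusedSimpArgs false

open Cfsg

namespace Cfsg.Agent.Helper22

theorem cover_contra_sub {Γ : Type*} [Group Γ] (G : Subgroup Γ) {𝓐 : Finset (Subgroup ↥G)}
    (h𝓐 : IsNMC 𝓐) (S : Subgroup Γ)
    (g₀ : Γ) (hg₀G : g₀ ∈ G) (hg₀S : g₀ ∉ S)
    (a b : Γ) (haG : a ∈ G) (hbG : b ∈ G)
    (haS : ∀ H : Subgroup Γ, Group.IsNilpotent ↥H → a ∈ H → H ≤ S)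
    (hbS : ∀ H : Subgroup Γ, Group.IsNilpotent ↥H → b ∈ H → H ≤ S)
    (hab : ∀ H : Subgroup Γ, Group.IsNilpotent ↥H → a ∈ H → b ∈ H → False) : False := by
  obtain ⟨A, hA, haA⟩ := h𝓐.1.2 ⟨a, haG⟩
  obtain ⟨B, hB, hbB⟩ := h𝓐.1.2 ⟨b, hbG⟩
  have hAn : Group.IsNilpotent ↥(A.map G.subtype) :=
    S1473.nilpotent_map G.subtype A (h𝓐.2.2 A hA)
  have hBn : Group.IsNilpotent ↥(B.map G.subtype) :=
    S1473.nilpotent_map G.subtype B (h𝓐.2.2 B hB)
  have haL : a ∈ A.map G.subtype := ⟨⟨a, haG⟩, haA, rfl⟩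
  have hbL : b ∈ B.map G.subtype := ⟨⟨b, hbG⟩, hbB, rfl⟩
  have hAS : A ≤ S.subgroupOf G := by
    intro x hx
    rw [Subgroup.mem_subgroupOf]
    exact haS _ hAn haL ⟨x, hx, rfl⟩
  have hBS : B ≤ S.subgroupOf G := by
    intro x hx
    rw [Subgroup.mem_subgroupOf]
    exact hbS _ hBn hbL ⟨x, hx, rfl⟩
  have hne : A ≠ B := by
    intro hAB
    have hbL' : b ∈ A.map G.subtype := by rw [hAB]; exact hbL
    exact hab _ hAn haL hbL'
  have htop : S.subgroupOf G ≠ ⊤ := by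
    intro ht
    have h1 : (⟨g₀, hg₀G⟩ : ↥G) ∈ S.subgroupOf G := by rw [ht]; exact Subgroup.mem_top _
    exact hg₀S (Subgroup.mem_subgroupOf.mp h1)
  exact nmc_no_two_in h𝓐 hA hB hne htop hAS hBS

theorem orbit_fixed_key {P : Type*} [Group P] [Finite P] {Ω : Type*} [MulAction P Ω]
    (p : ℕ) [hp : Fact p.Prime] (hP : IsPGroup p P) (t : P) (x : Ω) (htx : t • x = x)
    (n : ℕ) (hn : n < p) (f : Ω → Fin n)
    (hf : ∀ a b : P, t • (a • x) = a • x → t • (b • x) = b • x → f (a • x) = f (b • x) →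
      a • x = b • x) (g : P) : g • x = x := by
  classical
  haveI hfinO : Finite ↥(MulAction.orbit P x) :=
    (Set.finite_range (fun m : P => m • x)).to_subtype
  have hT : IsPGroup p ↥(Subgroup.zpowers t) := hP.to_subgroup _
  have hcong := hT.card_modEq_card_fixedPoints ↥(MulAction.orbit P x)
  have hTfix : ∀ s : ↥(Subgroup.zpowers t), (s : P) • x = x := by
    intro s
    have h1 : Subgroup.zpowers t ≤ MulAction.stabilizer P x :=
      (Subgroup.zpowers_le).mpr (MulAction.mem_stabilizer_iff.mpr htx)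
    exact MulAction.mem_stabilizer_iff.mp (h1 s.2)
  have hx0 : (⟨x, MulAction.mem_orbit_self x⟩ : ↥(MulAction.orbit P x)) ∈
      MulAction.fixedPoints ↥(Subgroup.zpowers t) ↥(MulAction.orbit P x) := by
    intro s
    exact Subtype.ext (hTfix s)
  have hpos : 0 < Nat.card
      ↥(MulAction.fixedPoints ↥(Subgroup.zpowers t) ↥(MulAction.orbit P x)) :=
    Nat.card_pos_iff.mpr ⟨⟨⟨_, hx0⟩⟩, inferInstance⟩
  have hle : Nat.card
      ↥(MulAction.fixedPoints ↥(Subgroup.zpowers t) ↥(MulAction.orbit P x)) ≤ n := by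
    have hinj : Function.Injective
        (fun y : ↥(MulAction.fixedPoints ↥(Subgroup.zpowers t) ↥(MulAction.orbit P x)) =>
          f y.1.1) := by
      intro y z hyz
      obtain ⟨a, ha⟩ := MulAction.mem_orbit_iff.mp y.1.2
      obtain ⟨b, hb⟩ := MulAction.mem_orbit_iff.mp z.1.2
      have hy : t • (y.1.1 : Ω) = y.1.1 :=
        congrArg Subtype.val (y.2 ⟨t, Subgroup.mem_zpowers t⟩)
      have hz : t • (z.1.1 : Ω) = z.1.1 :=
        congrArg Subtype.val (z.2 ⟨t, Subgroup.mem_zpowers t⟩)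
      have hyz' : f y.1.1 = f z.1.1 := hyz
      have hy2 : t • (a • x) = a • x := by rw [ha]; exact hy
      have hz2 : t • (b • x) = b • x := by rw [hb]; exact hz
      have hyz2 : f (a • x) = f (b • x) := by rw [ha, hb]; exact hyz'
      have h3 := hf a b hy2 hz2 hyz2
      apply Subtype.ext
      apply Subtype.ext
      rw [← ha, ← hb]
      exact h3
    have h4 := Nat.card_le_card_of_injective _ hinj
    rwa [Nat.card_fin] at h4
  obtain ⟨k, hk⟩ := hP.card_orbit x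
  rcases Nat.eq_zero_or_pos k with h0 | h0
  · rw [h0, pow_zero] at hk
    have hss : Subsingleton ↥(MulAction.orbit P x) := (Nat.card_eq_one_iff_unique.mp hk).1
    have h5 := Subsingleton.elim
      (⟨g • x, MulAction.mem_orbit x g⟩ : ↥(MulAction.orbit P x))
      ⟨x, MulAction.mem_orbit_self x⟩
    exact congrArg Subtype.val h5
  · exfalso
    have hdvd : p ∣ Nat.card ↥(MulAction.orbit P x) := by
      rw [hk]; exact dvd_pow_self p h0.ne'
    have h2 : p ∣ Nat.card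
        ↥(MulAction.fixedPoints ↥(Subgroup.zpowers t) ↥(MulAction.orbit P x)) :=
      (Nat.modEq_zero_iff_dvd.mp (hcong.symm.trans (Nat.modEq_zero_iff_dvd.mpr hdvd)))
    have h3 := Nat.le_of_dvd hpos h2
    omega

theorem semis_key {Γ : Type*} [Group Γ] [Finite Γ] {Ω : Type*}
    (act : Γ → Ω → Ω) (act_one : ∀ v, act 1 v = v)
    (act_mul : ∀ g h v, act (g * h) v = act g (act h v))
    (p : ℕ) [hp : Fact p.Prime] (t : Γ) (k : ℕ) (htk : t ^ p ^ k = 1) (x : Ω)
    (htx : act t x = x) (n : ℕ) (hn : n < p) (f : Ω → Fin n)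
    (hf : ∀ a b : Γ, act t (act a x) = act a x → act t (act b x) = act b x →
      f (act a x) = f (act b x) → act a x = act b x)
    (H : Subgroup Γ) (hH : Group.IsNilpotent ↥H) (htH : t ∈ H) (g : Γ) (hg : g ∈ H)
    (a : ℕ) (hga : orderOf g = p ^ a) : act g x = x := by
  haveI := hH
  obtain ⟨S0⟩ : Nonempty (Sylow p ↥H) := inferInstance
  have htf := (Group.isNilpotent_of_finite_tfae (G := ↥H)).out 0 3
  have hSn : (S0 : Subgroup ↥H).Normal := htf.mp hH p hp S0
  have hsub : Subsingleton (Sylow p ↥H) :=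
    @Unique.instSubsingleton _ (Sylow.unique_of_normal S0 hSn)
  have hmemS : ∀ y : ↥H, (∃ j, orderOf y = p ^ j) → y ∈ (S0 : Subgroup ↥H) := by
    intro y ⟨j, hj⟩
    have hz : IsPGroup p ↥(Subgroup.zpowers y) :=
      IsPGroup.of_card (n := j) (by rw [Nat.card_zpowers, hj])
    obtain ⟨S', hS'⟩ := hz.exists_le_sylow
    have hSS : S' = S0 := Subsingleton.elim _ _
    rw [← hSS]
    exact hS' (Subgroup.mem_zpowers y)
  have htord : orderOf (⟨t, htH⟩ : ↥H) ∣ p ^ k := by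
    apply orderOf_dvd_of_pow_eq_one
    exact Subtype.ext (by rw [Subgroup.coe_pow]; exact htk)
  have htS0 : (⟨t, htH⟩ : ↥H) ∈ (S0 : Subgroup ↥H) := by
    apply hmemS
    obtain ⟨j, -, hj⟩ := (Nat.dvd_prime_pow hp.out).mp htord
    exact ⟨j, hj⟩
  have hgS0 : (⟨g, hg⟩ : ↥H) ∈ (S0 : Subgroup ↥H) := by
    apply hmemS
    exact ⟨a, (Subgroup.orderOf_mk _ _).trans hga⟩
  letI actI : MulAction ↥(S0 : Subgroup ↥H) Ω :=
    { smul := fun s v => act ((s : ↥H) : Γ) v
      one_smul := fun v => act_one v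
      mul_smul := fun s s' v => act_mul ((s : ↥H) : Γ) ((s' : ↥H) : Γ) v }
  exact orbit_fixed_key p S0.2 ⟨⟨t, htH⟩, htS0⟩ x htx n hn f
    (fun a b h1 h2 h3 => hf _ _ h1 h2 h3) ⟨⟨g, hg⟩, hgS0⟩

end Cfsg.Agent.Helper22
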