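import Mathlib
import Cfsg.Agent.Helper22.SzCover
import Cfsg.Agent.Helper22.PglMat

set_option autoImplicit false
set_option linter.style.haveILetI false
set_option linter.unusedSectionVars false
set_option linter.unusedSimpArgs false

open Cfsg
open Matrix MatrixGroups

namespace Cfsg.Agent.Helper22

section Diag

variable {n : ℕ} {F : Type*} [Field F]

def lineOf (v : Fin n → F) : Set (Fin n → F) := {w | ∃ c : F, w = c • v}

def lineAct (g : GL (Fin n) F) (L : Set (Fin n → F)) : Set (Fin n → F) :=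
  (fun v => g.val *ᵥ v) '' L

theorem lineAct_one (L : Set (Fin n → F)) : lineAct (1 : GL (Fin n) F) L = L := by
  unfold lineAct
  have h : (fun v : Fin n → F => (1 : GL (Fin n) F).val *ᵥ v) = id := by
    funext v
    rw [Units.val_one, Matrix.one_mulVec]
    rfl
  rw [h, Set.image_id]

theorem lineAct_mul (g h : GL (Fin n) F) (L : Set (Fin n → F)) :
    lineAct (g * h) L = lineAct g (lineAct h L) := by
  unfold lineAct
  rw [Set.image_image]
  have h1 : (fun v : Fin n → F => (g * h).val *ᵥ v) = (fun v => g.val *ᵥ (h.val *ᵥ v)) := by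
    funext v
    rw [Units.val_mul, Matrix.mulVec_mulVec]
  rw [h1]

theorem lineAct_lineOf (g : GL (Fin n) F) (v : Fin n → F) :
    lineAct g (lineOf v) = lineOf (g.val *ᵥ v) := by
  ext w
  constructor
  · rintro ⟨w', ⟨c, rfl⟩, rfl⟩
    exact ⟨c, Matrix.mulVec_smul _ _ _⟩
  · rintro ⟨c, rfl⟩
    exact ⟨c • v, ⟨c, rfl⟩, Matrix.mulVec_smul _ _ _⟩

theorem self_mem_lineOf (v : Fin n → F) : v ∈ lineOf v := ⟨1, (one_smul F v).symm⟩

theorem lineOf_smul (c : F) (hc : c ≠ 0) (v : Fin n → F) : lineOf (c • v) = lineOf v := by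
  ext w
  constructor
  · rintro ⟨a, rfl⟩
    exact ⟨a * c, by rw [smul_smul]⟩
  · rintro ⟨a, rfl⟩
    exact ⟨a * c⁻¹, by rw [smul_smul, mul_assoc, inv_mul_cancel₀ hc, mul_one]⟩

theorem diag_eig (d : Fin n → F) (hd : Function.Injective d) (v : Fin n → F) (c : F) (i : Fin n)
    (hvi : v i ≠ 0) (h : (Matrix.diagonal d) *ᵥ v = c • v) :
    v = v i • Pi.single i (1 : F) := by
  have h1 : ∀ j, d j * v j = c * v j := by
    intro j
    have h2 := congrFun h j
    rw [Matrix.mulVec_diagonal] at h2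
    exact h2
  have hc : c = d i := by
    have h2 := h1 i
    exact (mul_right_cancel₀ hvi h2).symm
  funext j
  by_cases hj : j = i
  · rw [hj, Pi.smul_apply, Pi.single_eq_same, smul_eq_mul, mul_one]
  · rw [Pi.smul_apply, Pi.single_eq_of_ne hj, smul_eq_mul, mul_zero]
    have h2 := h1 j
    rw [hc] at h2
    have h3 : (d j - d i) * v j = 0 := by rw [sub_mul, h2, sub_self]
    rcases mul_eq_zero.mp h3 with h4 | h4
    · exact absurd (hd (sub_eq_zero.mp h4)) hj
    · exact h4

theorem diag_key [Fintype F] (r : ℕ) [hr : Fact r.Prime] (hnr : n < r) (t : GL (Fin n) F)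
    (k : ℕ) (htk : t ^ r ^ k = 1) (d : Fin n → F) (hd : Function.Injective d)
    (ht : t.val = Matrix.diagonal d) (i₀ : Fin n)
    (H : Subgroup (GL (Fin n) F)) (hH : Group.IsNilpotent ↥H) (htH : t ∈ H) :
    H ≤ colStab (Pi.single i₀ (1 : F)) := by
  classical
  have he0 : (Pi.single i₀ (1 : F) : Fin n → F) ≠ 0 := by
    intro h
    have h1 := congrFun h i₀
    rw [Pi.single_eq_same] at h1
    exact one_ne_zero h1
  have hdi : ∀ i, d i ≠ 0 := by
    intro i hi
    have hdet := gl_det_ne_zero t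
    rw [ht, Matrix.det_diagonal] at hdet
    exact hdet (Finset.prod_eq_zero (Finset.mem_univ i) hi)
  have hte : ∀ i, t.val *ᵥ (Pi.single i (1 : F)) = d i • Pi.single i (1 : F) := by
    intro i
    rw [ht]
    funext j
    rw [Matrix.mulVec_diagonal, Pi.smul_apply, smul_eq_mul]
    by_cases hj : j = i
    · rw [hj]
    · rw [Pi.single_eq_of_ne hj, mul_zero, mul_zero]
  have hfixline : ∀ v : Fin n → F, v ≠ 0 → lineOf (t.val *ᵥ v) = lineOf v →
      ∃ i, lineOf v = lineOf (Pi.single i (1 : F)) := by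
    intro v hv hfix
    have h1 : t.val *ᵥ v ∈ lineOf v := by rw [← hfix]; exact self_mem_lineOf _
    obtain ⟨c, hc⟩ := h1
    obtain ⟨i, hi⟩ : ∃ i, v i ≠ 0 := by
      by_contra hcon
      apply hv
      funext i
      by_contra hi
      exact hcon ⟨i, hi⟩
    rw [ht] at hc
    have h2 := diag_eig d hd v c i hi hc
    refine ⟨i, ?_⟩
    have h3 : lineOf (v i • Pi.single i (1 : F)) = lineOf (Pi.single i (1 : F)) :=
      lineOf_smul (v i) hi _
    rw [← h2] at h3
    exact h3
  obtain ⟨f, hf⟩ : ∃ f : Set (Fin n → F) → Fin n,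
      ∀ L, (∃ i, L = lineOf (Pi.single i (1 : F))) → L = lineOf (Pi.single (f L) (1 : F)) := by
    refine ⟨fun L => if h : ∃ i, L = lineOf (Pi.single i (1 : F)) then h.choose else i₀, ?_⟩
    intro L h
    have h1 : (if h : ∃ i, L = lineOf (Pi.single i (1 : F)) then h.choose else i₀) = h.choose :=
      dif_pos h
    show L = lineOf (Pi.single
      (if h : ∃ i, L = lineOf (Pi.single i (1 : F)) then h.choose else i₀) (1 : F))
    rw [h1]
    exact h.choose_spec
  intro g hg
  obtain ⟨a, m, hcop, hord1, hord2⟩ := Helper21.exists_pparts r g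
  have htord : orderOf (⟨t, htH⟩ : ↥H) ∣ r ^ k := by
    apply orderOf_dvd_of_pow_eq_one
    exact Subtype.ext (by rw [Subgroup.coe_pow]; exact htk)
  refine Helper21.mem_of_pow_mem_of_coprime (m := m) (k := r ^ a)
    (Nat.Coprime.pow_right a hcop) ?_ ?_
  · have hx : lineAct t (lineOf (Pi.single i₀ (1 : F))) = lineOf (Pi.single i₀ (1 : F)) := by
      rw [lineAct_lineOf, hte, lineOf_smul _ (hdi i₀)]
    have hfcond : ∀ a' b' : GL (Fin n) F,
        lineAct t (lineAct a' (lineOf (Pi.single i₀ (1 : F)))) =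
          lineAct a' (lineOf (Pi.single i₀ (1 : F))) →
        lineAct t (lineAct b' (lineOf (Pi.single i₀ (1 : F)))) =
          lineAct b' (lineOf (Pi.single i₀ (1 : F))) →
        f (lineAct a' (lineOf (Pi.single i₀ (1 : F)))) =
          f (lineAct b' (lineOf (Pi.single i₀ (1 : F)))) →
        lineAct a' (lineOf (Pi.single i₀ (1 : F))) =
          lineAct b' (lineOf (Pi.single i₀ (1 : F))) := by
      intro a' b' h1 h2 h3
      simp only [lineAct_lineOf] at h1 h2 h3 ⊢
      obtain ⟨i, hi⟩ := hfixline _ (gl_mulVec_ne_zero a' _ he0) h1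
      obtain ⟨j, hj⟩ := hfixline _ (gl_mulVec_ne_zero b' _ he0) h2
      have hA := hf _ ⟨i, hi⟩
      have hB := hf _ ⟨j, hj⟩
      exact hA.trans ((congrArg (fun i => lineOf (Pi.single i (1 : F))) h3).trans hB.symm)
    have key := semis_key (Γ := GL (Fin n) F) lineAct lineAct_one lineAct_mul r t k htk
      (lineOf (Pi.single i₀ (1 : F))) hx n hnr f hfcond H hH htH (g ^ m) (pow_mem hg m) a hord2
    rw [lineAct_lineOf] at key
    have h1 : (g ^ m).val *ᵥ Pi.single i₀ (1 : F) ∈ lineOf (Pi.single i₀ (1 : F)) := by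
      rw [← key]; exact self_mem_lineOf _
    obtain ⟨c, hc⟩ := h1
    have hc0 : c ≠ 0 := by
      rintro rfl
      rw [zero_smul] at hc
      exact gl_mulVec_ne_zero _ _ he0 hc
    exact ⟨Units.mk0 c hc0, hc⟩
  · have hc : (⟨t, htH⟩ : ↥H) * ⟨g ^ r ^ a, pow_mem hg _⟩ =
        ⟨g ^ r ^ a, pow_mem hg _⟩ * ⟨t, htH⟩ := by
      haveI := hH
      apply S1473.comm_of_coprime
      have h2 : orderOf (⟨g ^ r ^ a, pow_mem hg _⟩ : ↥H) = m :=
        (Subgroup.orderOf_mk _ _).trans hord1
      rw [h2]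
      exact Nat.Coprime.coprime_dvd_left htord (Nat.Coprime.pow_left k hcop.symm)
    have hc' : t * g ^ r ^ a = g ^ r ^ a * t := congrArg Subtype.val hc
    have h3 : t.val *ᵥ ((g ^ r ^ a).val *ᵥ Pi.single i₀ (1 : F)) =
        d i₀ • ((g ^ r ^ a).val *ᵥ Pi.single i₀ (1 : F)) := by
      rw [Matrix.mulVec_mulVec, ← Units.val_mul, hc', Units.val_mul, ← Matrix.mulVec_mulVec,
        hte, Matrix.mulVec_smul]
    have hv0 := gl_mulVec_ne_zero (g ^ r ^ a) _ he0
    obtain ⟨v, hv⟩ : ∃ v : Fin n → F, v = (g ^ r ^ a).val *ᵥ Pi.single i₀ (1 : F) := ⟨_, rfl⟩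
    rw [← hv] at h3 hv0
    have h4 : ∀ j, d j * v j = d i₀ * v j := by
      intro j
      have h5 := congrFun h3 j
      rw [ht, Matrix.mulVec_diagonal] at h5
      exact h5
    have h6 : ∀ j, j ≠ i₀ → v j = 0 := by
      intro j hj
      have h7 : (d j - d i₀) * v j = 0 := by rw [sub_mul, h4 j, sub_self]
      rcases mul_eq_zero.mp h7 with h8 | h8
      · exact absurd (hd (sub_eq_zero.mp h8)) hj
      · exact h8
    have h9 : v i₀ ≠ 0 := by
      intro h0
      apply hv0
      funext j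
      by_cases hj : j = i₀
      · rw [hj]; exact h0
      · exact h6 j hj
    refine ⟨Units.mk0 (v i₀) h9, ?_⟩
    rw [← hv]
    funext j
    show v j = v i₀ * (Pi.single i₀ (1 : F) : Fin n → F) j
    by_cases hj : j = i₀
    · rw [hj, Pi.single_eq_same, mul_one]
    · rw [Pi.single_eq_of_ne hj, mul_zero]; exact h6 j hj

end Diag

end Cfsg.Agent.Helper22
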