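import Mathlib
import Cfsg.Prelude.Def_Sz
import Cfsg.Agent.Helper22.SzMat

set_option autoImplicit false
set_option linter.style.haveILetI false
set_option linter.unusedSectionVars false
set_option linter.unusedSimpArgs false

open Cfsg
open Matrix MatrixGroups

namespace Cfsg.Agent.Helper22

section SzElems

variable {F : Type*} [Field F]

theorem fin4_forall {P : Fin 4 → Prop} (h0 : P 0) (h1 : P 1) (h2 : P 2) (h3 : P 3) :
    ∀ i, P i := by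
  intro i
  fin_cases i
  · exact h0
  · exact h1
  · exact h2
  · exact h3

theorem inj_fin4 {α : Type*} (d : Fin 4 → α) (h01 : d 0 ≠ d 1) (h02 : d 0 ≠ d 2)
    (h03 : d 0 ≠ d 3) (h12 : d 1 ≠ d 2) (h13 : d 1 ≠ d 3) (h23 : d 2 ≠ d 3) :
    Function.Injective d := by
  have key : ∀ i j : Fin 4, i < j → d i ≠ d j := by
    refine fin4_forall ?_ ?_ ?_ ?_ <;> refine fin4_forall ?_ ?_ ?_ ?_ <;> intro hlt <;>
      first
      | exact h01 | exact h02 | exact h03 | exact h12 | exact h13 | exact h23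
      | exact absurd hlt (by decide)
  intro i j h
  by_contra hne
  rcases lt_or_gt_of_ne hne with hlt | hlt
  · exact key i j hlt h
  · exact key j i hlt h.symm

theorem mulVec4 (A : Matrix (Fin 4) (Fin 4) F) (x : Fin 4 → F) (i : Fin 4) :
    (A *ᵥ x) i = A i 0 * x 0 + A i 1 * x 1 + A i 2 * x 2 + A i 3 * x 3 := by
  simp [Matrix.mulVec, dotProduct, Fin.sum_univ_four]

theorem mem_Sp4_iff (g : GL (Fin 4) F) : g ∈ Cfsg.Lie.Sp4 F ↔
    ∀ x y : Fin 4 → F, Cfsg.Lie.altForm4 (g.val *ᵥ x) (g.val *ᵥ y) = Cfsg.Lie.altForm4 x y :=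
  Iff.rfl

theorem mem_Sz_of (e : ℕ) (g : GL (Fin 4) F) (h1 : g ∈ Cfsg.Lie.Sp4 F)
    (h2 : Cfsg.Lie.star4 g.val = g.val.map (fun x => x ^ e)) : g ∈ Cfsg.Lie.Sz F e := by
  unfold Cfsg.Lie.Sz
  exact Subgroup.subset_closure ⟨h1, h2⟩

theorem star4_map {R S : Type*} [CommRing R] [CommRing S] (φ : R →+* S)
    (A : Matrix (Fin 4) (Fin 4) R) :
    Cfsg.Lie.star4 (A.map φ) = (Cfsg.Lie.star4 A).map φ := by
  ext p r
  simp only [Cfsg.Lie.star4, Matrix.of_apply, Matrix.map_apply, map_sub, map_mul]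

theorem zmod2_pow (e : ℕ) (he : e ≠ 0) (x : ZMod 2) : x ^ e = x := by
  have h : ∀ y : ZMod 2, y = 0 ∨ y = 1 := by decide
  rcases h x with rfl | rfl
  · exact zero_pow he
  · exact one_pow e

theorem zmap_star (φ : ZMod 2 →+* F) (e : ℕ) (he : e ≠ 0)
    (A : Matrix (Fin 4) (Fin 4) (ZMod 2)) (hA : ∀ i j, Cfsg.Lie.star4 A i j = A i j) :
    Cfsg.Lie.star4 (A.map φ) = (A.map φ).map (fun x => x ^ e) := by
  rw [star4_map]
  ext i j
  simp only [Matrix.map_apply]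
  rw [hA, ← map_pow, zmod2_pow e he]

def zGL (φ : ZMod 2 →+* F) (A B : Matrix (Fin 4) (Fin 4) (ZMod 2)) (h1 : A * B = 1)
    (h2 : B * A = 1) : GL (Fin 4) F :=
  ⟨φ.mapMatrix A, φ.mapMatrix B, by rw [← map_mul, h1, map_one],
    by rw [← map_mul, h2, map_one]⟩

theorem zmap_mulVec (φ : ZMod 2 →+* F) (A : Matrix (Fin 4) (Fin 4) (ZMod 2)) (x : Fin 4 → F)
    (i : Fin 4) : ((A.map φ) *ᵥ x) i =
      φ (A i 0) * x 0 + φ (A i 1) * x 1 + φ (A i 2) * x 2 + φ (A i 3) * x 3 := by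
  rw [mulVec4]
  rfl

def uM : Matrix (Fin 4) (Fin 4) (ZMod 2) := !![1, 0, 0, 0; 1, 1, 0, 0; 0, 1, 1, 0; 1, 1, 1, 1]

def uMi : Matrix (Fin 4) (Fin 4) (ZMod 2) := !![1, 0, 0, 0; 1, 1, 0, 0; 1, 1, 1, 0; 1, 0, 1, 1]

def wM : Matrix (Fin 4) (Fin 4) (ZMod 2) := !![0, 0, 0, 1; 0, 0, 1, 0; 0, 1, 0, 0; 1, 0, 0, 0]

theorem uM_mul_uMi : uM * uMi = 1 := by decide

theorem uMi_mul_uM : uMi * uM = 1 := by decide

theorem wM_mul_wM : wM * wM = 1 := by decide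

theorem uM_pow4 : uM ^ 2 ^ 2 = 1 := by
  have h : uM * uM * (uM * uM) = 1 := by decide
  have h2 : uM ^ 2 ^ 2 = uM * uM * (uM * uM) := by
    rw [sq (2 : ℕ), pow_mul, sq, sq]
  rw [h2]
  exact h

theorem uM_star_eq : Cfsg.Lie.star4 uM = uM := by decide

theorem wM_star_eq : Cfsg.Lie.star4 wM = wM := by decide

theorem uM_star : ∀ i j, Cfsg.Lie.star4 uM i j = uM i j := fun i j => by rw [uM_star_eq]

theorem wM_star : ∀ i j, Cfsg.Lie.star4 wM i j = wM i j := fun i j => by rw [wM_star_eq]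

def uG (φ : ZMod 2 →+* F) : GL (Fin 4) F := zGL φ uM uMi uM_mul_uMi uMi_mul_uM

def wG (φ : ZMod 2 →+* F) : GL (Fin 4) F := zGL φ wM wM wM_mul_wM wM_mul_wM

theorem uG_mulVec (φ : ZMod 2 →+* F) (x : Fin 4 → F) :
    (uG φ).val *ᵥ x = ![x 0, x 0 + x 1, x 1 + x 2, x 0 + x 1 + x 2 + x 3] := by
  funext i
  revert i
  refine fin4_forall ?_ ?_ ?_ ?_
  · show ((uM.map φ) *ᵥ x) 0 = x 0
    rw [zmap_mulVec]
    show φ 1 * x 0 + φ 0 * x 1 + φ 0 * x 2 + φ 0 * x 3 = x 0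
    rw [map_one, map_zero]; ring
  · show ((uM.map φ) *ᵥ x) 1 = x 0 + x 1
    rw [zmap_mulVec]
    show φ 1 * x 0 + φ 1 * x 1 + φ 0 * x 2 + φ 0 * x 3 = x 0 + x 1
    rw [map_one, map_zero]; ring
  · show ((uM.map φ) *ᵥ x) 2 = x 1 + x 2
    rw [zmap_mulVec]
    show φ 0 * x 0 + φ 1 * x 1 + φ 1 * x 2 + φ 0 * x 3 = x 1 + x 2
    rw [map_one, map_zero]; ring
  · show ((uM.map φ) *ᵥ x) 3 = x 0 + x 1 + x 2 + x 3
    rw [zmap_mulVec]
    show φ 1 * x 0 + φ 1 * x 1 + φ 1 * x 2 + φ 1 * x 3 = x 0 + x 1 + x 2 + x 3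
    rw [map_one]; ring

theorem wG_mulVec (φ : ZMod 2 →+* F) (x : Fin 4 → F) :
    (wG φ).val *ᵥ x = ![x 3, x 2, x 1, x 0] := by
  funext i
  revert i
  refine fin4_forall ?_ ?_ ?_ ?_
  · show ((wM.map φ) *ᵥ x) 0 = x 3
    rw [zmap_mulVec]
    show φ 0 * x 0 + φ 0 * x 1 + φ 0 * x 2 + φ 1 * x 3 = x 3
    rw [map_one, map_zero]; ring
  · show ((wM.map φ) *ᵥ x) 1 = x 2
    rw [zmap_mulVec]
    show φ 0 * x 0 + φ 0 * x 1 + φ 1 * x 2 + φ 0 * x 3 = x 2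
    rw [map_one, map_zero]; ring
  · show ((wM.map φ) *ᵥ x) 2 = x 1
    rw [zmap_mulVec]
    show φ 0 * x 0 + φ 1 * x 1 + φ 0 * x 2 + φ 0 * x 3 = x 1
    rw [map_one, map_zero]; ring
  · show ((wM.map φ) *ᵥ x) 3 = x 0
    rw [zmap_mulVec]
    show φ 1 * x 0 + φ 0 * x 1 + φ 0 * x 2 + φ 0 * x 3 = x 0
    rw [map_one, map_zero]; ring

theorem uG_mulVec0 (φ : ZMod 2 →+* F) (x : Fin 4 → F) : ((uG φ).val *ᵥ x) 0 = x 0 :=
  congrFun (uG_mulVec φ x) 0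

theorem uG_mulVec1 (φ : ZMod 2 →+* F) (x : Fin 4 → F) : ((uG φ).val *ᵥ x) 1 = x 0 + x 1 :=
  congrFun (uG_mulVec φ x) 1

theorem uG_mulVec2 (φ : ZMod 2 →+* F) (x : Fin 4 → F) : ((uG φ).val *ᵥ x) 2 = x 1 + x 2 :=
  congrFun (uG_mulVec φ x) 2

theorem uG_mulVec3 (φ : ZMod 2 →+* F) (x : Fin 4 → F) :
    ((uG φ).val *ᵥ x) 3 = x 0 + x 1 + x 2 + x 3 :=
  congrFun (uG_mulVec φ x) 3

theorem wG_mulVec0 (φ : ZMod 2 →+* F) (x : Fin 4 → F) : ((wG φ).val *ᵥ x) 0 = x 3 :=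
  congrFun (wG_mulVec φ x) 0

theorem uG_mem_Sp4 (φ : ZMod 2 →+* F) (h2 : (2 : F) = 0) : uG φ ∈ Cfsg.Lie.Sp4 F := by
  rw [mem_Sp4_iff]
  intro x y
  rw [uG_mulVec, uG_mulVec]
  show x 0 * (y 0 + y 1 + y 2 + y 3) + (x 0 + x 1) * (y 1 + y 2) + (x 1 + x 2) * (y 0 + y 1)
      + (x 0 + x 1 + x 2 + x 3) * y 0 = x 0 * y 3 + x 1 * y 2 + x 2 * y 1 + x 3 * y 0
  linear_combination
    (x 0 * y 0 + x 0 * y 1 + x 0 * y 2 + x 1 * y 1 + x 1 * y 0 + x 2 * y 0) * h2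

theorem wG_mem_Sp4 (φ : ZMod 2 →+* F) : wG φ ∈ Cfsg.Lie.Sp4 F := by
  rw [mem_Sp4_iff]
  intro x y
  rw [wG_mulVec, wG_mulVec]
  show x 3 * y 0 + x 2 * y 1 + x 1 * y 2 + x 0 * y 3
      = x 0 * y 3 + x 1 * y 2 + x 2 * y 1 + x 3 * y 0
  ring

theorem uG_mem_Sz (φ : ZMod 2 →+* F) (h2 : (2 : F) = 0) (e : ℕ) (he : e ≠ 0) :
    uG φ ∈ Cfsg.Lie.Sz F e := by
  refine mem_Sz_of e _ (uG_mem_Sp4 φ h2) ?_
  show Cfsg.Lie.star4 (uM.map φ) = (uM.map φ).map (fun x => x ^ e)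
  exact zmap_star φ e he uM uM_star

theorem wG_mem_Sz (φ : ZMod 2 →+* F) (e : ℕ) (he : e ≠ 0) :
    wG φ ∈ Cfsg.Lie.Sz F e := by
  refine mem_Sz_of e _ (wG_mem_Sp4 φ) ?_
  show Cfsg.Lie.star4 (wM.map φ) = (wM.map φ).map (fun x => x ^ e)
  exact zmap_star φ e he wM wM_star

theorem uG_pow (φ : ZMod 2 →+* F) : uG φ ^ 2 ^ 2 = 1 := by
  apply Units.ext
  rw [Units.val_pow_eq_pow_val, Units.val_one]
  show (φ.mapMatrix uM) ^ 2 ^ 2 = 1
  rw [← map_pow, uM_pow4, map_one]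

theorem uG_10 (φ : ZMod 2 →+* F) : (uG φ).val 1 0 = 1 := by
  show φ (uM 1 0) = 1
  have h : uM 1 0 = 1 := rfl
  rw [h, map_one]

theorem uG_colReg (φ : ZMod 2 →+* F) : ColReg (uG φ) (Pi.single (3 : Fin 4) (1 : F)) := by
  obtain ⟨v, hv⟩ : ∃ v : Fin 4 → F, v = Pi.single (3 : Fin 4) (1 : F) := ⟨_, rfl⟩
  have v0 : v 0 = 0 := by rw [hv]; exact Pi.single_eq_of_ne (by decide) _
  have v1 : v 1 = 0 := by rw [hv]; exact Pi.single_eq_of_ne (by decide) _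
  have v2 : v 2 = 0 := by rw [hv]; exact Pi.single_eq_of_ne (by decide) _
  have v3 : v 3 = 1 := by rw [hv]; exact Pi.single_eq_same _ _
  rw [← hv]
  refine ⟨?_, ?_, ?_⟩
  · intro h
    have h1 := congrFun h 3
    rw [v3] at h1
    exact one_ne_zero h1
  · funext i
    revert i
    refine fin4_forall ?_ ?_ ?_ ?_
    · rw [uG_mulVec0]
    · rw [uG_mulVec1, v0, zero_add]
    · rw [uG_mulVec2, v1, zero_add]
    · rw [uG_mulVec3, v0, v1, v2, zero_add, zero_add, zero_add]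
  · intro w hw hw0
    have e1 := congrFun hw 1
    rw [uG_mulVec1] at e1
    have e2 := congrFun hw 2
    rw [uG_mulVec2] at e2
    have e3 := congrFun hw 3
    rw [uG_mulVec3] at e3
    have w0 : w 0 = 0 := by linear_combination e1
    have w1 : w 1 = 0 := by linear_combination e2
    have w2 : w 2 = 0 := by linear_combination e3 - w0 - w1
    have w3 : w 3 ≠ 0 := by
      intro h3
      apply hw0
      funext i
      revert i
      exact fin4_forall w0 w1 w2 h3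
    refine ⟨Units.mk0 (w 3) w3, ?_⟩
    funext i
    revert i
    refine fin4_forall ?_ ?_ ?_ ?_
    · show w 0 = w 3 * v 0
      rw [v0, mul_zero]; exact w0
    · show w 1 = w 3 * v 1
      rw [v1, mul_zero]; exact w1
    · show w 2 = w 3 * v 2
      rw [v2, mul_zero]; exact w2
    · show w 3 = w 3 * v 3
      rw [v3, mul_one]

theorem wG_not_mem (φ : ZMod 2 →+* F) :
    wG φ ∉ colStab (Pi.single (3 : Fin 4) (1 : F)) := by
  obtain ⟨v, hv⟩ : ∃ v : Fin 4 → F, v = Pi.single (3 : Fin 4) (1 : F) := ⟨_, rfl⟩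
  have v0 : v 0 = 0 := by rw [hv]; exact Pi.single_eq_of_ne (by decide) _
  have v3 : v 3 = 1 := by rw [hv]; exact Pi.single_eq_same _ _
  rw [← hv]
  rintro ⟨c, hc⟩
  have h0 := congrFun hc 0
  rw [wG_mulVec0, v3] at h0
  have h1 : ((c : F) • v) 0 = 0 := by
    show (c : F) * v 0 = 0
    rw [v0, mul_zero]
  rw [h1] at h0
  exact one_ne_zero h0

def tG (d : Fin 4 → Fˣ) : GL (Fin 4) F :=
  ⟨Matrix.diagonal (fun i => ((d i : Fˣ) : F)),
    Matrix.diagonal (fun i => (((d i)⁻¹ : Fˣ) : F)),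
    by rw [Matrix.diagonal_mul_diagonal]; simp,
    by rw [Matrix.diagonal_mul_diagonal]; simp⟩

theorem tG_val (d : Fin 4 → Fˣ) :
    (tG d).val = Matrix.diagonal (fun i => ((d i : Fˣ) : F)) := rfl

theorem tG_pow_eq_one (d : Fin 4 → Fˣ) (k : ℕ) (h : ∀ i, d i ^ k = 1) : (tG d) ^ k = 1 := by
  apply Units.ext
  rw [Units.val_pow_eq_pow_val, Units.val_one, tG_val, Matrix.diagonal_pow]
  have h2 : ((fun i => ((d i : Fˣ) : F)) ^ k : Fin 4 → F) = fun _ => 1 := by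
    funext i
    show ((d i : Fˣ) : F) ^ k = 1
    rw [← Units.val_pow_eq_pow_val, h i, Units.val_one]
  rw [h2]
  exact Matrix.diagonal_one

theorem diag_mem_Sp4 (g : GL (Fin 4) F) (d : Fin 4 → F) (hg : g.val = Matrix.diagonal d)
    (h03 : d 0 * d 3 = 1) (h12 : d 1 * d 2 = 1) : g ∈ Cfsg.Lie.Sp4 F := by
  rw [mem_Sp4_iff]
  intro x y
  rw [hg]
  unfold Cfsg.Lie.altForm4
  simp only [Matrix.mulVec_diagonal]
  linear_combination (x 0 * y 3 + x 3 * y 0) * h03 + (x 1 * y 2 + x 2 * y 1) * h12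

theorem star4_diag (d : Fin 4 → F) (e : ℕ) (he : e ≠ 0)
    (h0 : d 0 * d 1 = d 0 ^ e) (h1 : d 0 * d 2 = d 1 ^ e) (h2 : d 1 * d 3 = d 2 ^ e)
    (h3 : d 2 * d 3 = d 3 ^ e) :
    Cfsg.Lie.star4 (Matrix.diagonal d) = (Matrix.diagonal d).map (fun x => x ^ e) := by
  have hz : (0 : F) ^ e = 0 := zero_pow he
  ext p r
  revert p r
  refine fin4_forall ?_ ?_ ?_ ?_ <;> refine fin4_forall ?_ ?_ ?_ ?_ <;>
    simp [Cfsg.Lie.star4, Cfsg.Lie.pairOf, Matrix.diagonal_apply, hz, h0, h1, h2, h3]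

theorem sz_torus_rel (e : ℕ) (a b ai bi : F) (haai : a * ai = 1) (hbbi : b * bi = 1)
    (hab : a * b = a ^ e) (hθ : (a ^ e) ^ e = a ^ 2) :
    a * bi = b ^ e ∧ b * ai = bi ^ e ∧ bi * ai = ai ^ e := by
  have ha0 : a ≠ 0 := left_ne_zero_of_mul_eq_one haai
  have hb0 : b ≠ 0 := left_ne_zero_of_mul_eq_one hbbi
  have hab0 : a * b ≠ 0 := mul_ne_zero ha0 hb0
  have hR3 : b ^ e * (a * b) = a * a := by
    rw [hab, ← mul_pow, mul_comm b a, hab, hθ, sq]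
  have hB0 : b ^ e ≠ 0 := pow_ne_zero e hb0
  have hA0 : a ^ e ≠ 0 := pow_ne_zero e ha0
  have hR4 : bi ^ e * b ^ e = 1 := by rw [← mul_pow, mul_comm, hbbi, one_pow]
  have hR5 : ai ^ e * a ^ e = 1 := by rw [← mul_pow, mul_comm, haai, one_pow]
  have h1 : a * bi = b ^ e := by
    apply mul_right_cancel₀ hab0
    linear_combination (a * a) * hbbi - hR3
  refine ⟨h1, ?_, ?_⟩
  · apply mul_right_cancel₀ hB0
    rw [hR4, ← h1]
    linear_combination (a * ai) * hbbi + haai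
  · apply mul_right_cancel₀ hA0
    rw [hR5, ← hab]
    linear_combination (a * ai) * hbbi + haai

theorem two_pow_odd_mod_three (m : ℕ) : 2 ^ (2 * m + 1) % 3 = 2 := by
  induction m with
  | zero => rfl
  | succ k ih =>
    have h : 2 ^ (2 * (k + 1) + 1) = 2 ^ (2 * k + 1) * 4 := by ring
    omega

theorem sz_core [Fintype F] [CharP F 2] (e : ℕ) (he0 : e ≠ 0)
    (hθ : ∀ x : F, (x ^ e) ^ e = x ^ 2) (r : ℕ) [hr : Fact r.Prime] (hr5 : 4 < r) (κ : Fˣ)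
    (hκ : orderOf κ = r) (𝓐 : Finset (Subgroup ↥(Cfsg.Lie.Sz F e))) (h𝓐 : IsNMC 𝓐) :
    False := by
  classical
  haveI : Fact (Nat.Prime 2) := ⟨Nat.prime_two⟩
  have h2 : (2 : F) = 0 := by
    have h := CharP.cast_eq_zero F 2
    exact_mod_cast h
  obtain ⟨φ, -⟩ : ∃ φ : ZMod 2 →+* F, True := ⟨ZMod.castHom (dvd_refl 2) F, trivial⟩
  obtain ⟨L, hL⟩ : ∃ L : Fˣ, L = κ⁻¹ * κ ^ e := ⟨_, rfl⟩
  have hKL : κ * L = κ ^ e := by rw [hL, mul_inv_cancel_left]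
  have hθu : ∀ x : Fˣ, (x ^ e) ^ e = x ^ 2 := by
    intro x
    apply Units.ext
    rw [Units.val_pow_eq_pow_val, Units.val_pow_eq_pow_val, Units.val_pow_eq_pow_val]
    exact hθ _
  have hr2 : r ≠ 2 := by omega
  have hκr : κ ^ r = 1 := by rw [← hκ]; exact pow_orderOf_eq_one κ
  have hκ1 : κ ≠ 1 := by
    intro h
    rw [h, orderOf_one] at hκ
    omega
  have hκ2 : κ ^ 2 ≠ 1 := by
    intro h
    have h1 := orderOf_dvd_of_pow_eq_one h
    rw [hκ] at h1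
    have h3 := Nat.le_of_dvd (by norm_num) h1
    omega
  have hA3 : κ ^ e ≠ κ ^ 2 := by
    intro h
    have h1 := hθu κ
    rw [h, ← pow_mul, mul_comm, pow_mul, h] at h1
    apply hκ2
    have h5 : κ ^ 2 * κ ^ 2 = κ ^ 2 * 1 := by rw [mul_one, ← sq]; exact h1
    exact mul_left_cancel h5
  have hA4 : κ ^ e ≠ 1 := by
    intro h
    have h1 := hθu κ
    rw [h, one_pow] at h1
    exact hκ2 h1.symm
  have hA5 : κ ^ e ≠ κ := by
    intro h
    have h1 := hθu κ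
    rw [h, h] at h1
    apply hκ1
    have h5 : κ * κ = κ * 1 := by rw [mul_one, ← sq]; exact h1.symm
    exact mul_left_cancel h5
  have hL1 : L ≠ 1 := by
    intro h
    rw [h, mul_one] at hKL
    exact hA5 hKL.symm
  have hLord : orderOf L ∣ r := by
    rw [← hκ]
    apply orderOf_dvd_of_mem_zpowers
    rw [hL]
    exact mul_mem (inv_mem (Subgroup.mem_zpowers κ)) (pow_mem (Subgroup.mem_zpowers κ) e)
  have hLr : L ^ r = 1 := orderOf_dvd_iff_pow_eq_one.mp hLord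
  have hL2 : L * L ≠ 1 := by
    intro h
    have h1 : orderOf L ∣ 2 := orderOf_dvd_of_pow_eq_one (by rw [sq]; exact h)
    have hcop : Nat.Coprime 2 r := (Nat.coprime_primes Nat.prime_two hr.out).mpr (Ne.symm hr2)
    have h3 : orderOf L ∣ Nat.gcd 2 r := Nat.dvd_gcd h1 hLord
    rw [Nat.Coprime.gcd_eq_one hcop] at h3
    exact hL1 (orderOf_eq_one_iff.mp (Nat.dvd_one.mp h3))
  have h01 : κ ≠ L := by
    intro h
    rw [← h] at hKL
    exact hA3 (by rw [sq]; exact hKL.symm)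
  have h02 : κ ≠ L⁻¹ := by
    intro h
    have h1 : κ * L = 1 := by rw [h, inv_mul_cancel]
    exact hA4 (hKL.symm.trans h1)
  have h03 : κ ≠ κ⁻¹ := by
    intro h
    exact hκ2 (by rw [sq]; exact eq_inv_iff_mul_eq_one.mp h)
  have h12 : L ≠ L⁻¹ := by
    intro h
    exact hL2 (eq_inv_iff_mul_eq_one.mp h)
  have h13 : L ≠ κ⁻¹ := by
    intro h
    have h1 : κ * L = 1 := by rw [mul_comm]; exact eq_inv_iff_mul_eq_one.mp h
    exact hA4 (hKL.symm.trans h1)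
  have h23 : L⁻¹ ≠ κ⁻¹ := by
    intro h
    exact h01 (inv_injective h).symm
  obtain ⟨du, hdu⟩ : ∃ du : Fin 4 → Fˣ, du = ![κ, L, L⁻¹, κ⁻¹] := ⟨_, rfl⟩
  have hdu0 : du 0 = κ := by rw [hdu]; rfl
  have hdu1 : du 1 = L := by rw [hdu]; rfl
  have hdu2 : du 2 = L⁻¹ := by rw [hdu]; rfl
  have hdu3 : du 3 = κ⁻¹ := by rw [hdu]; rfl
  have hduinj : Function.Injective du :=
    inj_fin4 du (by rw [hdu0, hdu1]; exact h01) (by rw [hdu0, hdu2]; exact h02)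
      (by rw [hdu0, hdu3]; exact h03) (by rw [hdu1, hdu2]; exact h12)
      (by rw [hdu1, hdu3]; exact h13) (by rw [hdu2, hdu3]; exact h23)
  obtain ⟨d, hd⟩ : ∃ d : Fin 4 → F, d = fun i => ((du i : Fˣ) : F) := ⟨_, rfl⟩
  have hdinj : Function.Injective d := by
    intro i j hij
    rw [hd] at hij
    exact hduinj (Units.ext hij)
  have htval : (tG du).val = Matrix.diagonal d := by rw [hd]; rfl
  have hd0 : d 0 = (κ : F) := by rw [hd]; show ((du 0 : Fˣ) : F) = κ; rw [hdu0]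
  have hd1 : d 1 = (L : F) := by rw [hd]; show ((du 1 : Fˣ) : F) = L; rw [hdu1]
  have hd2 : d 2 = ((L⁻¹ : Fˣ) : F) := by
    rw [hd]; show ((du 2 : Fˣ) : F) = ((L⁻¹ : Fˣ) : F); rw [hdu2]
  have hd3 : d 3 = ((κ⁻¹ : Fˣ) : F) := by
    rw [hd]; show ((du 3 : Fˣ) : F) = ((κ⁻¹ : Fˣ) : F); rw [hdu3]
  have htr : tG du ^ r = 1 := by
    apply tG_pow_eq_one
    refine fin4_forall ?_ ?_ ?_ ?_
    · rw [hdu0]; exact hκr
    · rw [hdu1]; exact hLr
    · rw [hdu2, inv_pow, hLr, inv_one]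
    · rw [hdu3, inv_pow, hκr, inv_one]
  have habF : (κ : F) * (L : F) = (κ : F) ^ e := by
    rw [← Units.val_mul, hKL, Units.val_pow_eq_pow_val]
  obtain ⟨g1, g2, g3⟩ := sz_torus_rel e (κ : F) (L : F) ((κ⁻¹ : Fˣ) : F) ((L⁻¹ : Fˣ) : F)
    (Units.mul_inv κ) (Units.mul_inv L) habF (hθ _)
  have htSz : tG du ∈ Cfsg.Lie.Sz F e := by
    refine mem_Sz_of e _ (diag_mem_Sp4 _ d htval ?_ ?_) ?_
    · rw [hd0, hd3]; exact Units.mul_inv κ
    · rw [hd1, hd2]; exact Units.mul_inv L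
    · rw [htval]
      refine star4_diag d e he0 ?_ ?_ ?_ ?_
      · rw [hd0, hd1]; exact habF
      · rw [hd0, hd2, hd1]; exact g1
      · rw [hd1, hd3, hd2]; exact g2
      · rw [hd2, hd3]; exact g3
  have hd01 : d 0 ≠ d 1 := by
    intro h
    have h1 := hdinj h
    exact absurd h1 (by decide)
  refine cover_contra_sub (Cfsg.Lie.Sz F e) h𝓐 (colStab (Pi.single (3 : Fin 4) (1 : F)))
    (wG φ) (wG_mem_Sz φ e he0) (wG_not_mem φ) (uG φ) (tG du) (uG_mem_Sz φ h2 e he0) htSz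
    ?_ ?_ ?_
  · intro H hH huH
    exact col_key 2 (uG φ) 2 (uG_pow φ) _ (uG_colReg φ) H hH huH
  · intro H hH htH
    exact diag_key r hr5 (tG du) 1 (by rw [pow_one]; exact htr) d hdinj htval 3 H hH htH
  · intro H hH huH htH
    haveI := hH
    have hc : (⟨uG φ, huH⟩ : ↥H) * ⟨tG du, htH⟩ = ⟨tG du, htH⟩ * ⟨uG φ, huH⟩ := by
      apply S1473.comm_of_coprime
      have ho1 : orderOf (⟨uG φ, huH⟩ : ↥H) ∣ 2 ^ 2 :=
        orderOf_dvd_of_pow_eq_one (Subtype.ext (by rw [Subgroup.coe_pow]; exact uG_pow φ))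
      have ho2 : orderOf (⟨tG du, htH⟩ : ↥H) ∣ r :=
        orderOf_dvd_of_pow_eq_one (Subtype.ext (by rw [Subgroup.coe_pow]; exact htr))
      have hcop : Nat.Coprime (2 ^ 2) r :=
        Nat.Coprime.pow_left 2 ((Nat.coprime_primes Nat.prime_two hr.out).mpr (Ne.symm hr2))
      exact Nat.Coprime.coprime_dvd_left ho1 (Nat.Coprime.coprime_dvd_right ho2 hcop)
    have hc' : uG φ * tG du = tG du * uG φ := congrArg Subtype.val hc
    have h3 : ((uG φ).val * (tG du).val) 1 0 = ((tG du).val * (uG φ).val) 1 0 := by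
      rw [← Units.val_mul, ← Units.val_mul, hc']
    rw [htval, Matrix.mul_diagonal, Matrix.diagonal_mul, uG_10, one_mul, mul_one] at h3
    exact hd01 h3

theorem sz_no_cover [Fintype F] (m : ℕ) (hm : 1 ≤ m)
    (hF : Fintype.card F = 2 ^ (2 * m + 1))
    (𝓐 : Finset (Subgroup ↥(Cfsg.Lie.Sz F (2 ^ (m + 1))))) (h𝓐 : IsNMC 𝓐) : False := by
  classical
  obtain ⟨p, hp⟩ := CharP.exists F
  haveI := hp
  have hpp : p.Prime := CharP.char_is_prime F p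
  obtain ⟨k, -, hk⟩ := FiniteField.card F p
  have hp2 : p = 2 := by
    rw [hF] at hk
    have h1 : p ∣ 2 ^ (2 * m + 1) := by rw [hk]; exact dvd_pow_self p k.ne_zero
    exact (Nat.prime_dvd_prime_iff_eq hpp Nat.prime_two).mp (hpp.dvd_of_dvd_pow h1)
  subst hp2
  have hθ : ∀ x : F, (x ^ 2 ^ (m + 1)) ^ 2 ^ (m + 1) = x ^ 2 := by
    intro x
    have h1 : (2 : ℕ) ^ (m + 1) * 2 ^ (m + 1) = 2 ^ (2 * m + 1) * 2 := by ring
    have h3 : x ^ 2 ^ (2 * m + 1) = x := by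
      have h4 := FiniteField.pow_card x
      rwa [hF] at h4
    rw [← pow_mul, h1, pow_mul, h3]
  have hX8 : 8 ≤ 2 ^ (2 * m + 1) :=
    calc 8 = 2 ^ 3 := by norm_num
      _ ≤ 2 ^ (2 * m + 1) := Nat.pow_le_pow_right (by norm_num) (by omega)
  have hX2 : 2 ^ (2 * m + 1) % 2 = 0 := by
    rw [pow_succ]; exact Nat.mul_mod_left _ _
  have hX3 := two_pow_odd_mod_three m
  have hcard : Nat.card Fˣ = 2 ^ (2 * m + 1) - 1 := by
    rw [Nat.card_units, Nat.card_eq_fintype_card, hF]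
  obtain ⟨r, hr, hrdvd⟩ : ∃ r : ℕ, r.Prime ∧ r ∣ 2 ^ (2 * m + 1) - 1 :=
    Nat.exists_prime_and_dvd (by omega)
  haveI : Fact r.Prime := ⟨hr⟩
  have hr2 : r ≠ 2 := by
    intro h
    rw [h] at hrdvd
    omega
  have hr3 : r ≠ 3 := by
    intro h
    rw [h] at hrdvd
    omega
  have hr4 : r ≠ 4 := by
    intro h
    rw [h] at hr
    exact absurd hr (by norm_num)
  have hr5 : 4 < r := by
    have h2le := hr.two_le
    omega
  obtain ⟨κ, hκ⟩ := exists_prime_orderOf_dvd_card' (G := Fˣ) r (by rw [hcard]; exact hrdvd)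
  exact sz_core (2 ^ (m + 1)) (pow_ne_zero _ (by norm_num)) hθ r hr5 κ hκ 𝓐 h𝓐

end SzElems

end Cfsg.Agent.Helper22
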