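import Mathlib
import Cfsg.Prelude.Def_Solvable
import Cfsg.Agent.Helper1.FrobConj
import Cfsg.Agent.S0034
import Cfsg.Agent.S0040
import Cfsg.Agent.S0041
import Cfsg.Agent.S0042
import Cfsg.Agent.S0171
import Cfsg.Agent.S1474
import Cfsg.Agent.S1473
import Cfsg.Agent.Helper24.NormalCenter
import Cfsg.Agent.Helper22.NilCover

set_option autoImplicit false
set_option linter.style.haveILetI false
set_option linter.unusedSectionVars false
set_option linter.unusedSimpArgs false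
set_option linter.unusedVariables false

open Cfsg
open scoped Pointwise

namespace Cfsg.Agent.Helper22

theorem tf_exists_orderOf_lift {G G' : Type*} [Group G] [Finite G] [Group G'] (f : G →* G')
    (hf : Function.Surjective f) (y : G') :
    ∃ x : G, orderOf x = orderOf y ∧ ∃ k : ℕ, f x = y ^ k := by
  obtain ⟨x₀, rfl⟩ := hf y
  have hd : orderOf (f x₀) ∣ orderOf x₀ := orderOf_map_dvd f x₀
  exact ⟨x₀ ^ (orderOf x₀ / orderOf (f x₀)),
    orderOf_pow_orderOf_div (orderOf_pos x₀).ne' hd, _, map_pow f x₀ _⟩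

theorem tf_cyclic_dvd {C : Type*} [Group C] [Finite C] [IsCyclic C] (n : ℕ)
    (hn : n ∣ Nat.card C) : ∃ x : C, orderOf x = n := by
  obtain ⟨g, hg⟩ := IsCyclic.exists_ofOrder_eq_natCard (α := C)
  exact ⟨g ^ (orderOf g / n), orderOf_pow_orderOf_div (orderOf_pos g).ne' (hg ▸ hn)⟩

theorem tf_nilpotent_pq {N : Type*} [Group N] [Finite N] [Group.IsNilpotent N] (p q : ℕ)
    (hp : p.Prime) (hq : q.Prime) (hpq : p ≠ q) (hpN : p ∣ Nat.card N) (hqN : q ∣ Nat.card N) :
    ∃ x : N, orderOf x = p * q := by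
  haveI := Fact.mk hp
  haveI := Fact.mk hq
  obtain ⟨a, ha⟩ := exists_prime_orderOf_dvd_card' p hpN
  obtain ⟨b, hb⟩ := exists_prime_orderOf_dvd_card' q hqN
  have hcop : (orderOf a).Coprime (orderOf b) := by
    rw [ha, hb]; exact (Nat.coprime_primes hp hq).2 hpq
  have hc : Commute a b := Cfsg.Agent.S1473.comm_of_coprime a b hcop
  exact ⟨a * b, by rw [hc.orderOf_mul_eq_mul_orderOf_of_coprime hcop, ha, hb]⟩

theorem tf_coprime_of_mod {n c : ℕ} (h : n % c = 1 % c) : Nat.Coprime n c := by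
  have h1 : Nat.gcd n c = Nat.gcd 1 c := Nat.ModEq.gcd_eq h
  rw [Nat.Coprime, h1, Nat.gcd_one_left]

theorem tf_map_eq_one {G G' : Type*} [Group G] [Group G'] (f : G →* G')
    (S : Subgroup G') (x : G) (hx : f x ∈ S) (hcop : (orderOf x).Coprime (Nat.card S)) :
    f x = 1 := by
  have h1 : orderOf (f x) ∣ orderOf x := orderOf_map_dvd f x
  have h2 : orderOf (f x) ∣ Nat.card S := by
    rw [← Subgroup.orderOf_mk (f x) hx]
    exact orderOf_dvd_natCard _
  exact orderOf_eq_one_iff.mp (Nat.eq_one_of_dvd_coprimes hcop h1 h2)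

theorem tf_map_eq_one' {G G' : Type*} [Group G] [Group G'] (f : G →* G') (x : G)
    (hcop : (orderOf x).Coprime (Nat.card G')) : f x = 1 := by
  have h1 : orderOf (f x) ∣ orderOf x := orderOf_map_dvd f x
  have h2 : orderOf (f x) ∣ Nat.card G' := orderOf_dvd_natCard _
  exact orderOf_eq_one_iff.mp (Nat.eq_one_of_dvd_coprimes hcop h1 h2)

theorem tf_frob_pack {X : Type*} [Group X] [Finite X] (C : Subgroup X)
    (hC : Cfsg.IsFrobeniusComplement C) (M : Subgroup X)
    (hM : Cfsg.frobeniusKernel C = (M : Set X)) :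
    M.Normal ∧ Subgroup.IsComplement' M C ∧ M ≠ ⊥ ∧
    (∀ h ∈ C, h ≠ 1 → M ⊓ Subgroup.centralizer {h} = ⊥) ∧
    Nat.Coprime (Nat.card M) (Nat.card C) ∧ Group.IsNilpotent M := by
  obtain ⟨N, hNset, hNn, hc, hNne, hfpf, -⟩ := Cfsg.Agent.Helper1.frob_data C hC
  obtain rfl : M = N := SetLike.coe_injective (hM.symm.trans hNset.symm)
  obtain ⟨N', hN'set, -, hN'nil⟩ := Cfsg.Agent.S0042.result C hC
  obtain rfl : M = N' := SetLike.coe_injective (hM.symm.trans hN'set.symm)
  have h34 := Cfsg.Agent.S0034.result C hC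
  refine ⟨hNn, hc, hNne, hfpf, ?_, hN'nil⟩
  have h1 : Nat.card (Cfsg.frobeniusKernel C) = C.index := h34.1
  rw [hM] at h1
  have h2 := h34.2
  rw [← h1] at h2
  exact tf_coprime_of_mod h2

theorem tf_frob_nc {X : Type*} [Group X] [Finite X] (M C : Subgroup X) [M.Normal]
    (hc : Subgroup.IsComplement' M C)
    (hfpf : ∀ h ∈ C, h ≠ 1 → M ⊓ Subgroup.centralizer {h} = ⊥)
    (y : X) (hy : y ∉ M) (x : X) (hx : x ∈ M) (hcomm : y * x = x * y) : x = 1 := by
  refine Cfsg.Agent.S0171.frob_no_commute M C (disjoint_iff.mp hc.disjoint) hc.sup_eq_top ?_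
    y hy x hx hcomm
  intro h hh h1 k hk hkc
  have hmem : k ∈ M ⊓ Subgroup.centralizer {h} :=
    Subgroup.mem_inf.mpr ⟨hk, Subgroup.mem_centralizer_singleton_iff.mpr hkc.symm⟩
  rw [hfpf h hh h1] at hmem
  exact Subgroup.mem_bot.mp hmem

theorem tf_invol_inverts {X : Type*} [Group X] [Finite X] (M : Subgroup X) [hMn : M.Normal]
    (t : X) (ht : t * t = 1) (hfpf : ∀ x ∈ M, t * x = x * t → x = 1) :
    ∀ n ∈ M, t * n * t⁻¹ = n⁻¹ := by
  have htinv : t⁻¹ = t := inv_eq_of_mul_eq_one_left ht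
  let φ : M → M := fun n =>
    ⟨(n : X)⁻¹ * (t * n * t⁻¹), M.mul_mem (M.inv_mem n.2) (hMn.conj_mem _ n.2 t)⟩
  have hinj : Function.Injective φ := by
    intro n m hnm
    have h1 : (n : X)⁻¹ * (t * n * t⁻¹) = (m : X)⁻¹ * (t * m * t⁻¹) :=
      congrArg Subtype.val hnm
    have h2 : t * ((m : X) * (n : X)⁻¹) = ((m : X) * (n : X)⁻¹) * t := by
      have e1 : t * (m : X) = (m : X) * ((m : X)⁻¹ * (t * m * t⁻¹)) * t := by group
      have e2 : (m : X) * ((n : X)⁻¹ * (t * n * t⁻¹)) * t = (m : X) * (n : X)⁻¹ * t * n := by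
        group
      calc t * ((m : X) * (n : X)⁻¹) = (t * (m : X)) * (n : X)⁻¹ := by group
        _ = ((m : X) * ((m : X)⁻¹ * (t * m * t⁻¹)) * t) * (n : X)⁻¹ := by rw [← e1]
        _ = ((m : X) * ((n : X)⁻¹ * (t * n * t⁻¹)) * t) * (n : X)⁻¹ := by rw [h1]
        _ = ((m : X) * (n : X)⁻¹ * t * n) * (n : X)⁻¹ := by rw [e2]
        _ = (m : X) * (n : X)⁻¹ * t := by group
    have h5 := hfpf _ (M.mul_mem m.2 (M.inv_mem n.2)) h2
    rw [mul_inv_eq_one] at h5
    exact Subtype.ext h5.symm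
  have hsurj : Function.Surjective φ := Finite.surjective_of_injective hinj
  intro x hx
  obtain ⟨n, hn⟩ := hsurj ⟨x, hx⟩
  have hx' : x = (n : X)⁻¹ * (t * n * t⁻¹) := (congrArg Subtype.val hn).symm
  rw [hx']
  calc t * ((n : X)⁻¹ * (t * n * t⁻¹)) * t⁻¹ = t * (n : X)⁻¹ * t * n * (t * t)⁻¹ := by group
    _ = t * (n : X)⁻¹ * t * n := by rw [ht, inv_one, mul_one]
    _ = t * (n : X)⁻¹ * t⁻¹ * n := by rw [htinv]
    _ = ((n : X)⁻¹ * (t * n * t⁻¹))⁻¹ := by group

/-- The subgroup of central elements of `H` of order dividing `p`. -/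
def omegaCenter {X : Type*} [Group X] (H : Subgroup X) (p : ℕ) : Subgroup X where
  carrier := {z | z ∈ H ∧ (∀ h ∈ H, h * z = z * h) ∧ z ^ p = 1}
  one_mem' := ⟨H.one_mem, fun h _ => by rw [mul_one, one_mul], one_pow p⟩
  mul_mem' := by
    rintro a b ⟨ha, hac, hap⟩ ⟨hb, hbc, hbp⟩
    refine ⟨H.mul_mem ha hb, fun h hh => ?_, ?_⟩
    · calc h * (a * b) = (h * a) * b := (mul_assoc _ _ _).symm
        _ = (a * h) * b := by rw [hac h hh]
        _ = a * (h * b) := mul_assoc _ _ _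
        _ = a * (b * h) := by rw [hbc h hh]
        _ = a * b * h := (mul_assoc _ _ _).symm
    · have hab : Commute a b := hbc a ha
      rw [hab.mul_pow, hap, hbp, mul_one]
  inv_mem' := by
    rintro a ⟨ha, hac, hap⟩
    refine ⟨H.inv_mem ha, fun h hh => ?_, by rw [inv_pow, hap, inv_one]⟩
    exact (show Commute h a from hac h hh).inv_right

theorem mem_omegaCenter {X : Type*} [Group X] {H : Subgroup X} {p : ℕ} {z : X} :
    z ∈ omegaCenter H p ↔ z ∈ H ∧ (∀ h ∈ H, h * z = z * h) ∧ z ^ p = 1 := Iff.rfl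

theorem omegaCenter_normal {X : Type*} [Group X] (H : Subgroup X) [hH : H.Normal] (p : ℕ) :
    (omegaCenter H p).Normal := by
  constructor
  intro z hz g
  obtain ⟨hzH, hzc, hzp⟩ := mem_omegaCenter.mp hz
  refine mem_omegaCenter.mpr ⟨hH.conj_mem z hzH g, fun h hh => ?_, ?_⟩
  · have hmem : g⁻¹ * h * g ∈ H := by
      have := hH.conj_mem h hh g⁻¹
      rwa [inv_inv] at this
    have h1 := hzc (g⁻¹ * h * g) hmem
    calc h * (g * z * g⁻¹) = g * ((g⁻¹ * h * g) * z) * g⁻¹ := by group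
      _ = g * (z * (g⁻¹ * h * g)) * g⁻¹ := by rw [h1]
      _ = g * z * g⁻¹ * h := by group
  · rw [conj_pow, hzp, mul_one, mul_inv_cancel]

theorem omegaCenter_ne_bot {X : Type*} [Group X] [Finite X] (H : Subgroup X)
    [hnil : Group.IsNilpotent H] (p : ℕ) (hp : p.Prime) (hpH : p ∣ Nat.card H) :
    omegaCenter H p ≠ ⊥ := by
  haveI := Fact.mk hp
  obtain ⟨P⟩ : Nonempty (Sylow p H) := inferInstance
  haveI hPn : (P : Subgroup H).Normal := inferInstance
  have hPne : (P : Subgroup H) ≠ ⊥ := P.ne_bot_of_dvd_card hpH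
  obtain ⟨x, hxP, hx1, hxc⟩ :=
    Cfsg.Agent.Helper24.exists_mem_center_of_normal (P : Subgroup H) hPne
  obtain ⟨k, hk⟩ := nmc_order_of_mem P hxP
  have hk0 : k ≠ 0 := by
    rintro rfl
    rw [pow_zero, orderOf_eq_one_iff] at hk
    exact hx1 hk
  obtain ⟨j, rfl⟩ : ∃ j, k = j + 1 := ⟨k - 1, by omega⟩
  have hzp : (x ^ (p ^ j)) ^ p = 1 := by
    rw [← pow_mul, ← pow_succ, ← hk, pow_orderOf_eq_one]
  have hz1 : x ^ (p ^ j) ≠ 1 := by
    intro h
    have h1 := orderOf_dvd_of_pow_eq_one h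
    rw [hk] at h1
    have h2 := Nat.le_of_dvd (pow_pos hp.pos j) h1
    have h3 : p ^ j < p ^ (j + 1) := Nat.pow_lt_pow_right hp.one_lt (Nat.lt_succ_self j)
    omega
  intro hbot
  have hmem : ((x ^ (p ^ j) : H) : X) ∈ omegaCenter H p := by
    refine mem_omegaCenter.mpr ⟨(x ^ (p ^ j)).2, fun h hh => ?_, ?_⟩
    · have hcx : ∀ g : H, g * x = x * g := fun g => Subgroup.mem_center_iff.mp hxc g
      have hc : (⟨h, hh⟩ : H) * x ^ (p ^ j) = x ^ (p ^ j) * ⟨h, hh⟩ :=
        (show Commute (⟨h, hh⟩ : H) x from hcx ⟨h, hh⟩).pow_right (p ^ j)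
      exact congrArg Subtype.val hc
    · have := congrArg Subtype.val hzp
      simpa using this
  rw [hbot, Subgroup.mem_bot] at hmem
  exact hz1 (Subtype.ext hmem)

theorem tf_cross {G : Type*} [Group G] [Finite G] (H K : Subgroup G) [hHn : H.Normal]
    [hKn : K.Normal] (hHK : H ≤ K) [Group.IsNilpotent H] (nb : ℕ)
    (hcardK : Nat.card K = Nat.card H * nb) (hcop : Nat.Coprime (Nat.card H) nb)
    (hnb : nb ≠ 1)
    (nc1 : ∀ y ∈ K, y ∉ H → ∀ x ∈ H, y * x = x * y → x = 1)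
    (nc2 : ∀ y : G, y ∉ K → ∀ x ∈ K, y * x = x * y → x ∈ H)
    (p q : ℕ) (hp : p.Prime) (hq : q.Prime) (hpH : p ∣ Nat.card H)
    (hqK : ¬ q ∣ Nat.card K) (hqG : q ∣ Nat.card G) :
    ∃ g : G, orderOf g = p * q := by
  by_contra hno
  push Not at hno
  haveI := Fact.mk hp
  haveI := Fact.mk hq
  have hpq : p ≠ q := by
    rintro rfl
    exact hqK (dvd_trans hpH (Subgroup.card_dvd_of_le hHK))
  obtain ⟨r, hr, hrb⟩ := Nat.exists_prime_and_dvd hnb
  haveI := Fact.mk hr
  have hrH : ¬ r ∣ Nat.card H := by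
    intro h
    exact hr.one_lt.ne' (Nat.eq_one_of_dvd_coprimes hcop h hrb)
  obtain ⟨R₀⟩ : Nonempty (Sylow r K) := inferInstance
  obtain ⟨R, hR⟩ : ∃ R : Subgroup G, R = (R₀ : Subgroup K).map K.subtype := ⟨_, rfl⟩
  have hRK : R ≤ K := by
    rw [hR]
    rintro _ ⟨x, -, rfl⟩
    exact x.2
  obtain ⟨a, ha⟩ : ∃ a, Nat.card R = r ^ a := by
    have h1 : Nat.card R = Nat.card (R₀ : Subgroup K) := by
      rw [hR]
      exact Nat.card_congr
        ((R₀ : Subgroup K).equivMapOfInjective K.subtype K.subtype_injective).symm.toEquiv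
    obtain ⟨a, ha⟩ := (IsPGroup.iff_card.mp R₀.isPGroup')
    exact ⟨a, h1.trans ha⟩
  have hRne : R ≠ ⊥ := by
    have h0 : (R₀ : Subgroup K) ≠ ⊥ :=
      R₀.ne_bot_of_dvd_card (by rw [hcardK]; exact dvd_mul_of_dvd_right hrb _)
    intro hb
    apply h0
    rw [hR] at hb
    exact (Subgroup.map_eq_bot_iff_of_injective _ K.subtype_injective).mp hb
  have hRH : ∀ u ∈ R, u ∈ H → u = 1 := by
    intro u hu huH
    have h1 : orderOf u ∣ r ^ a := by
      rw [← ha, ← Subgroup.orderOf_mk u hu]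
      exact orderOf_dvd_natCard _
    have h2 : orderOf u ∣ Nat.card H := by
      rw [← Subgroup.orderOf_mk u huH]
      exact orderOf_dvd_natCard _
    have h3 : Nat.Coprime (r ^ a) (Nat.card H) :=
      Nat.Coprime.pow_left a ((Nat.Prime.coprime_iff_not_dvd hr).mpr hrH)
    exact orderOf_eq_one_iff.mp (Nat.eq_one_of_dvd_coprimes h3 h1 h2)
  have hfrat : Subgroup.normalizer (R : Set G) ⊔ K = ⊤ := by
    rw [hR]
    exact Sylow.normalizer_sup_eq_top R₀
  obtain ⟨y, hyN, hyq⟩ : ∃ y ∈ Subgroup.normalizer (R : Set G), orderOf y = q := by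
    let f : Subgroup.normalizer (R : Set G) →* G ⧸ K :=
      (QuotientGroup.mk' K).comp (Subgroup.subtype _)
    have hf : Function.Surjective f := by
      intro z
      obtain ⟨g, rfl⟩ := QuotientGroup.mk'_surjective K z
      have hg : g ∈ Subgroup.normalizer (R : Set G) ⊔ K := by rw [hfrat]; trivial
      have hmem : g ∈ ((Subgroup.normalizer (R : Set G) : Subgroup G) : Set G) * (K : Set G) := by
        rw [← Subgroup.mul_normal]; exact hg
      obtain ⟨n, hn, k, hk, rfl⟩ := Set.mem_mul.1 hmem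
      refine ⟨⟨n, hn⟩, ?_⟩
      show QuotientGroup.mk' K n = QuotientGroup.mk' K (n * k)
      exact (QuotientGroup.mk'_eq_mk' K).mpr ⟨k, hk, rfl⟩
    have hdvd : Nat.card (G ⧸ K) ∣ Nat.card (Subgroup.normalizer (R : Set G)) :=
      Subgroup.card_dvd_of_surjective f hf
    have hG : Nat.card G = Nat.card (G ⧸ K) * Nat.card K :=
      Subgroup.card_eq_card_quotient_mul_card_subgroup K
    have hq1 : q ∣ Nat.card (G ⧸ K) := by
      rw [hG] at hqG
      exact (hq.dvd_mul.mp hqG).resolve_right hqK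
    obtain ⟨y, hy⟩ := exists_prime_orderOf_dvd_card' q (dvd_trans hq1 hdvd)
    exact ⟨y, y.2, by rw [← hy]; exact Subgroup.orderOf_coe y⟩
  have hyK : ∀ j : ℕ, 0 < j → j < q → y ^ j ∉ K := by
    intro j hj0 hjq hmem
    have hcopj : (orderOf y).Coprime j := by
      rw [hyq]
      exact (Nat.Prime.coprime_iff_not_dvd hq).mpr (Nat.not_dvd_of_pos_of_lt hj0 hjq)
    have ho : orderOf (y ^ j) = q := by rw [hcopj.orderOf_pow, hyq]
    apply hqK
    rw [← ho, ← Subgroup.orderOf_mk (y ^ j) hmem]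
    exact orderOf_dvd_natCard _
  haveI := omegaCenter_normal H p
  have hZH : omegaCenter H p ≤ H := fun z hz => (mem_omegaCenter.mp hz).1
  have hZ : omegaCenter H p = ⊥ := by
    refine Cfsg.Agent.S1474.frob_fixed (omegaCenter H p) R ?_ y ?_ ?_ ?_ ?_ ?_
    · intro a ha b hb
      exact (mem_omegaCenter.mp hb).2.1 a (mem_omegaCenter.mp ha).1
    · intro u hu
      exact (Subgroup.mem_normalizer_iff.mp hyN u).mp hu
    · intro j hj0 hjq u hu hcomm
      rw [hyq] at hjq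
      exact hRH u hu (nc2 (y ^ j) (hyK j hj0 hjq) u (hRK hu) hcomm)
    · intro v hv hcomm
      obtain ⟨u, hu, hu1⟩ : ∃ u ∈ R, u ≠ 1 := by
        by_contra hcon
        push Not at hcon
        exact hRne ((Subgroup.eq_bot_iff_forall R).mpr hcon)
      exact nc1 u (hRK hu) (fun huH => hu1 (hRH u hu huH)) v (mem_omegaCenter.mp hv).1
        (hcomm u hu)
    · intro u hu v hv hcomm
      by_contra hv1
      have hvo : orderOf v = p := orderOf_eq_prime (mem_omegaCenter.mp hv).2.2 hv1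
      have hwo : orderOf (u * y * u⁻¹) = q := by
        apply orderOf_eq_prime
        · rw [conj_pow, ← hyq, pow_orderOf_eq_one, mul_one, mul_inv_cancel]
        · intro h
          have hy1 : y = 1 := by
            calc y = u⁻¹ * (u * y * u⁻¹) * u := by group
              _ = u⁻¹ * 1 * u := by rw [h]
              _ = 1 := by group
          rw [hy1, orderOf_one] at hyq
          exact hq.one_lt.ne' hyq.symm
      have hco : (orderOf (u * y * u⁻¹)).Coprime (orderOf v) := by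
        rw [hwo, hvo]
        exact (Nat.coprime_primes hq hp).mpr (Ne.symm hpq)
      have hmul := (show Commute (u * y * u⁻¹) v from hcomm).orderOf_mul_eq_mul_orderOf_of_coprime
        hco
      rw [hwo, hvo, mul_comm] at hmul
      exact hno _ hmul
    · rw [ha]
      exact Nat.Coprime.pow_left a (Nat.Coprime.coprime_dvd_right (Subgroup.card_dvd_of_le hZH)
        ((Nat.Prime.coprime_iff_not_dvd hr).mpr hrH))
  exact omegaCenter_ne_bot H p hp hpH hZ

end Cfsg.Agent.Helper22
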