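import Cfsg.Agent.Helper22.SzGrp
import Cfsg.Agent.Helper22.TwoFrob

set_option autoImplicit false
set_option linter.style.haveILetI false
set_option linter.unusedSectionVars false
set_option linter.unusedSimpArgs false
set_option linter.unusedVariables false
set_option linter.unusedTactic false
set_option maxHeartbeats 1000000

open Cfsg
open Matrix
open scoped Pointwise

namespace Cfsg.Agent.Helper22

section SzZass

variable {F : Type*} [Field F] [Fintype F] {m : ℕ}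

/-- The point at infinity, as a point of the ovoid. -/
def szInfΩ (F : Type*) [Field F] [Fintype F] (m : ℕ) : ↥(Cfsg.suzukiOvoid F m) :=
  ⟨Cfsg.suzukiPointInfinity F, sz_inf_mem⟩

/-- The origin, as a point of the ovoid. -/
def szZeroΩ (hF : Fintype.card F = 2 ^ (2 * m + 1)) : ↥(Cfsg.suzukiOvoid F m) :=
  ⟨Cfsg.suzukiPointZero F, sz_zero_mem hF⟩

/-- The translations, as elements of the Suzuki group. -/
def szTG (hF : Fintype.card F = 2 ^ (2 * m + 1)) (a b : F) : ↥(Cfsg.Sz F m) :=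
  ⟨szT F m a b, szT_mem hF a b⟩

theorem szD_one : szD F m 1 = 1 := by
  have h := szD_mul (F := F) (m := m) 1 1
  rw [one_mul] at h
  have h' : szD F m 1 * szD F m 1 = szD F m 1 * 1 := by rw [mul_one]; exact h.symm
  exact mul_left_cancel h'

theorem szD_fix (hF : Fintype.card F = 2 ^ (2 * m + 1)) {δ : Fˣ} {x y : F}
    (hxy : ¬ (x = 0 ∧ y = 0)) (h : szD F m δ • szPt F m x y = szPt F m x y) : δ = 1 := by
  have hθ := szθ_spec hF
  rw [szD_pt hF] at h
  obtain ⟨h1, h2⟩ := szPt_inj h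
  apply Units.ext
  show (δ : F) = 1
  by_cases hx : x = 0
  · have hy : y ≠ 0 := fun hy => hxy ⟨hx, hy⟩
    have e1 : szθ F m (δ : F) * δ = 1 := by
      have e : (szθ F m (δ : F) * δ - 1) * y = 0 := by linear_combination h2
      rcases mul_eq_zero.mp e with h' | h'
      · linear_combination h'
      · exact absurd h' hy
    have e2 : (δ : F) ^ 2 * szθ F m (δ : F) = 1 := by
      have h3 := congrArg (szθ F m) e1
      rw [hθ.hmul, hθ.hsq, hθ.hone] at h3
      exact h3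
    linear_combination e2 - (δ : F) * e1
  · have e : ((δ : F) - 1) * x = 0 := by linear_combination h1
    rcases mul_eq_zero.mp e with h' | h'
    · linear_combination h'
    · exact absurd h' hx

theorem szT_mul (hF : Fintype.card F = 2 ^ (2 * m + 1)) (a b c d : F) :
    szT F m a b * szT F m c d = szT F m (c + a) (d + b + szθ F m a * c) :=
  Subtype.ext (ovT_mul (szθ_spec hF) a b c d)

theorem szT_one (hF : Fintype.card F = 2 ^ (2 * m + 1)) : szT F m 0 0 = 1 := by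
  have h := szT_mul hF (0 : F) 0 0 0
  simp only [add_zero, mul_zero] at h
  have h' : szT F m 0 0 * szT F m 0 0 = szT F m 0 0 * 1 := by rw [mul_one]; exact h
  exact mul_left_cancel h'

theorem szT_invol (hF : Fintype.card F = 2 ^ (2 * m + 1)) (b : F) :
    szT F m 0 b * szT F m 0 b = 1 := by
  have hθ := szθ_spec hF
  have h := szT_mul hF (0 : F) b 0 b
  simp only [add_zero, mul_zero] at h
  have e : b + b = 0 := by linear_combination b * hθ.h2
  rw [e, szT_one hF] at h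
  exact h

theorem szT_fix (hF : Fintype.card F = 2 ^ (2 * m + 1)) {b : F} (hb : b ≠ 0)
    {p : Projectivization F (Fin 4 → F)} (hp : p ∈ Cfsg.suzukiOvoid F m)
    (h : szT F m 0 b • p = p) : p = Cfsg.suzukiPointInfinity F := by
  have hθ := szθ_spec hF
  rcases sz_mem_ovoid_iff.mp hp with rfl | ⟨x, y, rfl⟩
  · rfl
  · exfalso
    rw [szT_pt hF] at h
    obtain ⟨-, h2⟩ := szPt_inj h
    rw [ov_theta_zero _ hθ.hadd, zero_mul, add_zero] at h2
    apply hb
    linear_combination h2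

theorem sz_norm (hF : Fintype.card F = 2 ^ (2 * m + 1))
    {p q : Projectivization F (Fin 4 → F)} (hp : p ∈ Cfsg.suzukiOvoid F m)
    (hq : q ∈ Cfsg.suzukiOvoid F m) (hpq : p ≠ q) :
    ∃ k : Matrix.SpecialLinearGroup (Fin 4) F, k ∈ Cfsg.Sz F m ∧
      k • p = Cfsg.suzukiPointInfinity F ∧ k • q = Cfsg.suzukiPointZero F := by
  have hp' : p ∈ MulAction.orbit (Cfsg.Sz F m) (Cfsg.suzukiPointInfinity F) := by
    rw [sz_orbit_inf hF]; exact hp
  obtain ⟨⟨k₀, hk₀⟩, hk₀p⟩ := hp'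
  have hk₀p' : k₀ • Cfsg.suzukiPointInfinity F = p := hk₀p
  have hk₁ : k₀⁻¹ ∈ Cfsg.Sz F m := inv_mem hk₀
  have h1 : k₀⁻¹ • p = Cfsg.suzukiPointInfinity F := by rw [← hk₀p', inv_smul_smul]
  have hq' : k₀⁻¹ • q ∈ Cfsg.suzukiOvoid F m := sz_smul_mem hk₁ hq
  rcases sz_mem_ovoid_iff.mp hq' with h | ⟨x, y, h⟩
  · exfalso
    apply hpq
    have e : k₀⁻¹ • p = k₀⁻¹ • q := by rw [h1, h]
    exact MulAction.injective _ e
  · refine ⟨(szT F m x y)⁻¹ * k₀⁻¹, mul_mem (inv_mem (szT_mem hF x y)) hk₁, ?_, ?_⟩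
    · rw [mul_smul, h1, inv_smul_eq_iff, szT_inf]
    · rw [mul_smul, h, inv_smul_eq_iff, szT_zero hF]

theorem sz_normΩ (hF : Fintype.card F = 2 ^ (2 * m + 1)) (a b : ↥(Cfsg.suzukiOvoid F m))
    (hab : a ≠ b) : ∃ k : ↥(Cfsg.Sz F m), k • a = szInfΩ F m ∧ k • b = szZeroΩ hF := by
  obtain ⟨k, hk, h1, h2⟩ := sz_norm hF a.2 b.2 (fun h => hab (Subtype.ext h))
  exact ⟨⟨k, hk⟩, Subtype.ext h1, Subtype.ext h2⟩

theorem sz_inf_ne_zero (hF : Fintype.card F = 2 ^ (2 * m + 1)) : szInfΩ F m ≠ szZeroΩ hF := by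
  intro h
  exact szPt_ne_inf 0 0 ((szPt_zero hF).trans (congrArg Subtype.val h).symm)

theorem sz_zassenhaus (hm : 1 ≤ m) (hF : Fintype.card F = 2 ^ (2 * m + 1)) :
    Cfsg.IsZassenhausGroup (Cfsg.Sz F m) (Cfsg.suzukiOvoid F m) := by
  have hθ := szθ_spec hF
  have hne1 := sz_inf_ne_zero hF
  -- three-point stabilisers
  have h3pt : ∀ g : ↥(Cfsg.Sz F m), ∀ a b c : ↥(Cfsg.suzukiOvoid F m), a ≠ b → b ≠ c → a ≠ c →
      g • a = a → g • b = b → g • c = c → g = 1 := by
    intro g a b c hab hbc hac ha hb hc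
    obtain ⟨k, hka, hkb⟩ := sz_normΩ hF a b hab
    have h1 : (k * g * k⁻¹) • szInfΩ F m = szInfΩ F m := by
      rw [mul_smul, mul_smul, ← hka, inv_smul_smul, ha]
    have h2 : (k * g * k⁻¹) • szZeroΩ hF = szZeroΩ hF := by
      rw [mul_smul, mul_smul, ← hkb, inv_smul_smul, hb]
    have h3 : (k * g * k⁻¹) • (k • c) = k • c := by
      rw [mul_smul, mul_smul, inv_smul_smul, hc]
    obtain ⟨δ, hδ⟩ := sz_two_pt hm hF (k * g * k⁻¹).2 (congrArg Subtype.val h1)
      (congrArg Subtype.val h2)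
    have hc1 : ((k • c : ↥(Cfsg.suzukiOvoid F m)) : Projectivization F (Fin 4 → F)) ≠
        Cfsg.suzukiPointInfinity F := by
      intro h
      apply hac
      have e : k • c = k • a := by rw [hka]; exact Subtype.ext h
      exact (MulAction.injective k e).symm
    have hc0 : ((k • c : ↥(Cfsg.suzukiOvoid F m)) : Projectivization F (Fin 4 → F)) ≠
        Cfsg.suzukiPointZero F := by
      intro h
      apply hbc
      have e : k • c = k • b := by rw [hkb]; exact Subtype.ext h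
      exact (MulAction.injective k e).symm
    rcases sz_mem_ovoid_iff.mp (k • c).2 with h | ⟨x, y, h⟩
    · exact absurd h hc1
    · have hxy : ¬ (x = 0 ∧ y = 0) := by
        rintro ⟨rfl, rfl⟩
        rw [szPt_zero hF] at h
        exact hc0 h
      have h3' : ((k * g * k⁻¹ : ↥(Cfsg.Sz F m)) : Matrix.SpecialLinearGroup (Fin 4) F) •
          szPt F m x y = szPt F m x y := by
        rw [← h]
        exact congrArg Subtype.val h3
      rw [hδ] at h3'
      have hδ1 := szD_fix hF hxy h3'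
      have hone : ((k * g * k⁻¹ : ↥(Cfsg.Sz F m)) : Matrix.SpecialLinearGroup (Fin 4) F) = 1 := by
        rw [hδ, hδ1, szD_one]
      have hone' : k * g * k⁻¹ = 1 := Subtype.ext hone
      calc g = k⁻¹ * (k * g * k⁻¹) * k := by group
        _ = 1 := by rw [hone', mul_one, inv_mul_cancel]
  have hne2 : szZeroΩ hF ≠ (⟨szPt F m 1 0, szPt_mem 1 0⟩ : ↥(Cfsg.suzukiOvoid F m)) := by
    intro h
    have h' : Cfsg.suzukiPointZero F = szPt F m 1 0 := congrArg Subtype.val h
    rw [← szPt_zero hF] at h'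
    exact zero_ne_one (szPt_inj h').1
  have hne3 : szInfΩ F m ≠ (⟨szPt F m 1 0, szPt_mem 1 0⟩ : ↥(Cfsg.suzukiOvoid F m)) := by
    intro h
    have h' : Cfsg.suzukiPointInfinity F = szPt F m 1 0 := congrArg Subtype.val h
    exact szPt_ne_inf 1 0 h'.symm
  have hfaith : FaithfulSMul ↥(Cfsg.Sz F m) ↥(Cfsg.suzukiOvoid F m) := by
    refine ⟨fun {g₁ g₂} h => ?_⟩
    have hfix : ∀ a : ↥(Cfsg.suzukiOvoid F m), (g₂⁻¹ * g₁) • a = a := by
      intro a
      rw [mul_smul, h a, inv_smul_smul]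
    have h1 := h3pt (g₂⁻¹ * g₁) (szInfΩ F m) (szZeroΩ hF) ⟨szPt F m 1 0, szPt_mem 1 0⟩
      hne1 hne2 hne3 (hfix _) (hfix _) (hfix _)
    exact (inv_mul_eq_one.mp h1).symm
  have h2t : MulAction.IsMultiplyPretransitive ↥(Cfsg.Sz F m) ↥(Cfsg.suzukiOvoid F m) 2 := by
    rw [MulAction.is_two_pretransitive_iff]
    intro a b c d hab hcd
    obtain ⟨k, hka, hkb⟩ := sz_normΩ hF a b hab
    obtain ⟨k', hkc, hkd⟩ := sz_normΩ hF c d hcd
    refine ⟨k'⁻¹ * k, ?_, ?_⟩
    · rw [mul_smul, hka, inv_smul_eq_iff, hkc]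
    · rw [mul_smul, hkb, inv_smul_eq_iff, hkd]
  have hex : ∃ g : ↥(Cfsg.Sz F m), g ≠ 1 ∧ ∃ a b : ↥(Cfsg.suzukiOvoid F m),
      a ≠ b ∧ g • a = a ∧ g • b = b := by
    obtain ⟨x, hx0, hx1⟩ := sz_exists_ne hm hF
    refine ⟨⟨szD F m (Units.mk0 x hx0), szD_mem hF _⟩, ?_, szInfΩ F m, szZeroΩ hF, hne1,
      Subtype.ext (szD_inf _), Subtype.ext (szD_zero _)⟩
    intro h
    have h1 : szD F m (Units.mk0 x hx0) = 1 := congrArg Subtype.val h
    have h2 := szD_inj (h1.trans (szD_one (F := F) (m := m)).symm)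
    apply hx1
    exact congrArg Units.val h2
  have hreg : ∀ N : Subgroup ↥(Cfsg.Sz F m), N.Normal →
      MulAction.IsPretransitive N ↥(Cfsg.suzukiOvoid F m) →
      ∃ a : ↥(Cfsg.suzukiOvoid F m), MulAction.stabilizer N a ≠ ⊥ := by
    intro N hN htr
    by_contra hcon
    push_neg at hcon
    haveI := hN
    haveI := htr
    have hfpf : ∀ b : F, b ≠ 0 → ∀ n ∈ N, szTG hF 0 b * n = n * szTG hF 0 b → n = 1 := by
      intro b hb n hn hcomm
      have h1 : szTG hF 0 b • (n • szInfΩ F m) = n • szInfΩ F m := by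
        rw [← mul_smul, hcomm, mul_smul]
        congr 1
        exact Subtype.ext (szT_inf 0 b)
      have h2 : ((n • szInfΩ F m : ↥(Cfsg.suzukiOvoid F m)) : Projectivization F (Fin 4 → F)) =
          Cfsg.suzukiPointInfinity F :=
        szT_fix hF hb (n • szInfΩ F m).2 (congrArg Subtype.val h1)
      have h3 : (⟨n, hn⟩ : N) ∈ MulAction.stabilizer N (szInfΩ F m) := by
        rw [MulAction.mem_stabilizer_iff]
        exact Subtype.ext h2
      rw [hcon (szInfΩ F m), Subgroup.mem_bot] at h3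
      exact congrArg Subtype.val h3
    have hinv : ∀ b : F, b ≠ 0 → ∀ n ∈ N, szTG hF 0 b * n * (szTG hF 0 b)⁻¹ = n⁻¹ :=
      fun b hb => tf_invol_inverts N (szTG hF 0 b) (Subtype.ext (szT_invol hF b)) (hfpf b hb)
    obtain ⟨x, hx0, hx1⟩ := sz_exists_ne hm hF
    have hx2 : x + 1 ≠ 0 := by
      intro h
      apply hx1
      linear_combination h - hθ.h2
    have hprod : szTG hF 0 1 * szTG hF 0 x = szTG hF 0 (x + 1) := Subtype.ext (by
      show szT F m 0 1 * szT F m 0 x = szT F m 0 (x + 1)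
      rw [szT_mul hF]
      simp only [add_zero, mul_zero])
    have hN1 : ∀ n ∈ N, n = 1 := by
      intro n hn
      have e1 := hinv 1 one_ne_zero n hn
      have ex := hinv x hx0 n hn
      have e3 := hinv (x + 1) hx2 n hn
      rw [← hprod] at e3
      have e4 : szTG hF 0 1 * szTG hF 0 x * n * (szTG hF 0 1 * szTG hF 0 x)⁻¹ = n := by
        have e : szTG hF 0 1 * szTG hF 0 x * n * (szTG hF 0 1 * szTG hF 0 x)⁻¹ =
            szTG hF 0 1 * (szTG hF 0 x * n * (szTG hF 0 x)⁻¹) * (szTG hF 0 1)⁻¹ := by group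
        have e5 : szTG hF 0 1 * n⁻¹ * (szTG hF 0 1)⁻¹ =
            (szTG hF 0 1 * n * (szTG hF 0 1)⁻¹)⁻¹ := by group
        rw [e, ex, e5, e1, inv_inv]
      have e6 : n⁻¹ = n := e3.symm.trans e4
      apply hfpf 1 one_ne_zero n hn
      have e7 : szTG hF 0 1 * n * (szTG hF 0 1)⁻¹ = n := e1.trans e6
      calc szTG hF 0 1 * n = (szTG hF 0 1 * n * (szTG hF 0 1)⁻¹) * szTG hF 0 1 := by group
        _ = n * szTG hF 0 1 := by rw [e7]
    obtain ⟨⟨n, hn⟩, hn1⟩ := MulAction.exists_smul_eq N (szInfΩ F m) (szZeroΩ hF)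
    have hn' := hN1 n hn
    subst hn'
    exact hne1 ((one_smul ↥(Cfsg.Sz F m) (szInfΩ F m)).symm.trans hn1)
  exact ⟨hfaith, h2t, h3pt, hex, hreg⟩

theorem sz_ovoid_odd (hF : Fintype.card F = 2 ^ (2 * m + 1)) :
    Odd (Nat.card ↥(Cfsg.suzukiOvoid F m)) := by
  rw [sz_ovoid_card hF]
  exact ⟨2 ^ (2 * m) * 2 ^ (2 * m + 1), by ring⟩

end SzZass

end Cfsg.Agent.Helper22
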