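import Cfsg.Agent.Helper22.SzSubConj
import Cfsg.Agent.Helper22.SzElems
import Cfsg.Agent.S0325

set_option autoImplicit false
set_option linter.style.haveILetI false
set_option linter.unusedSectionVars false
set_option linter.unusedSimpArgs false
set_option linter.unusedVariables false
set_option linter.unusedTactic false
set_option maxHeartbeats 1000000

open Cfsg
open Matrix
open scoped Pointwise

namespace Cfsg.Agent.Helper22

section SzBridgeA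

variable {F : Type*} [Field F]

/-- The Cauchy–Binet computation for one pair of rows. -/
theorem brg_pl_map (h2 : (2 : F) = 0) (A : Matrix (Fin 4) (Fin 4) F) (u v : Fin 4 → F)
    (k l : Fin 4) (t0 t1 t2 t3 s0 s1 s2 s3 : F)
    (h01 : u 0 * v 1 - u 1 * v 0 = t0) (h02 : u 0 * v 2 - u 2 * v 0 = t1)
    (h13 : u 1 * v 3 - u 3 * v 1 = t2) (h23 : u 2 * v 3 - u 3 * v 2 = t3)
    (hB : u 0 * v 3 + u 1 * v 2 + u 2 * v 1 + u 3 * v 0 = 0)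
    (e0 : A k 0 * A l 1 - A l 0 * A k 1 = s0) (e1 : A k 0 * A l 2 - A l 0 * A k 2 = s1)
    (e2 : A k 1 * A l 3 - A l 1 * A k 3 = s2) (e3 : A k 2 * A l 3 - A l 2 * A k 3 = s3)
    (R : A k 0 * A l 3 + A k 1 * A l 2 + A k 2 * A l 1 + A k 3 * A l 0 = 0) :
    (A *ᵥ u) k * (A *ᵥ v) l - (A *ᵥ u) l * (A *ᵥ v) k =
      s0 * t0 + s1 * t1 + s2 * t2 + s3 * t3 := by
  simp only [ov_mv4]
  linear_combination (A k 0 * A l 1 - A l 0 * A k 1) * h01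
    + (A k 0 * A l 2 - A l 0 * A k 2) * h02
    + (A k 1 * A l 3 - A l 1 * A k 3) * h13 + (A k 2 * A l 3 - A l 2 * A k 3) * h23
    + t0 * e0 + t1 * e1 + t2 * e2 + t3 * e3
    + (A k 0 * A l 3 - A l 0 * A k 3) * hB + (u 1 * v 2 - u 2 * v 1) * R
    - ((A k 0 * A l 3 - A l 0 * A k 3) * (u 1 * v 2 - u 2 * v 1)
      + (A k 0 * A l 3 - A l 0 * A k 3) * (u 3 * v 0 + u 2 * v 1)
      + (A l 0 * A k 3 + A l 1 * A k 2) * (u 1 * v 2 - u 2 * v 1)) * h2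

theorem brg_single (i j : Fin 4) :
    bJ (Pi.single i (1 : F)) (Pi.single j (1 : F)) = Cfsg.suzukiForm F i j := by
  revert i j
  refine ov_fin4 ?_ ?_ ?_ ?_ <;> refine ov_fin4 ?_ ?_ ?_ ?_ <;>
    simp [bJ, Cfsg.suzukiForm]

theorem brg_form_of_sp (A : Matrix (Fin 4) (Fin 4) F)
    (hSp : ∀ x y : Fin 4 → F, bJ (A *ᵥ x) (A *ᵥ y) = bJ x y) :
    Aᵀ * Cfsg.suzukiForm F * A = Cfsg.suzukiForm F := by
  ext i j
  rw [ov_gram]
  have h := hSp (Pi.single i 1) (Pi.single j 1)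
  rw [Matrix.mulVec_single_one, Matrix.mulVec_single_one, brg_single] at h
  rw [← h]
  simp only [bJ, ovB, Matrix.col_apply]
  ring

theorem brg_form_row (A : Matrix (Fin 4) (Fin 4) F)
    (hJ : Aᵀ * Cfsg.suzukiForm F * A = Cfsg.suzukiForm F) :
    A * Cfsg.suzukiForm F * Aᵀ = Cfsg.suzukiForm F := by
  have hsq : Cfsg.suzukiForm F * Cfsg.suzukiForm F = 1 := ovW_sq
  have h1 : (Cfsg.suzukiForm F * Aᵀ * Cfsg.suzukiForm F) * A = 1 := by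
    rw [Matrix.mul_assoc, Matrix.mul_assoc, ← Matrix.mul_assoc Aᵀ, hJ, hsq]
  have h2 : A * (Cfsg.suzukiForm F * Aᵀ * Cfsg.suzukiForm F) = 1 := mul_eq_one_comm.mp h1
  calc A * Cfsg.suzukiForm F * Aᵀ
      = A * (Cfsg.suzukiForm F * Aᵀ * Cfsg.suzukiForm F) * Cfsg.suzukiForm F := by
        simp only [Matrix.mul_assoc, hsq, Matrix.mul_one]
    _ = Cfsg.suzukiForm F := by rw [h2, Matrix.one_mul]

theorem brg_sp_of_form (A : Matrix (Fin 4) (Fin 4) F)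
    (hJ : Aᵀ * Cfsg.suzukiForm F * A = Cfsg.suzukiForm F) (u v : Fin 4 → F) :
    bJ (A *ᵥ u) (A *ᵥ v) = bJ u v := by
  have hB : ∀ i j, ovB A i j = Cfsg.suzukiForm F i j := fun i j => by rw [← ov_gram, hJ]
  rw [← ov_bil]
  simp only [dot4, ovEll, hB]
  have j00 : Cfsg.suzukiForm F 0 0 = 0 := rfl
  have j01 : Cfsg.suzukiForm F 0 1 = 0 := rfl
  have j02 : Cfsg.suzukiForm F 0 2 = 0 := rfl
  have j03 : Cfsg.suzukiForm F 0 3 = 1 := rfl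
  have j10 : Cfsg.suzukiForm F 1 0 = 0 := rfl
  have j11 : Cfsg.suzukiForm F 1 1 = 0 := rfl
  have j12 : Cfsg.suzukiForm F 1 2 = 1 := rfl
  have j13 : Cfsg.suzukiForm F 1 3 = 0 := rfl
  have j20 : Cfsg.suzukiForm F 2 0 = 0 := rfl
  have j21 : Cfsg.suzukiForm F 2 1 = 1 := rfl
  have j22 : Cfsg.suzukiForm F 2 2 = 0 := rfl
  have j23 : Cfsg.suzukiForm F 2 3 = 0 := rfl
  have j30 : Cfsg.suzukiForm F 3 0 = 1 := rfl
  have j31 : Cfsg.suzukiForm F 3 1 = 0 := rfl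
  have j32 : Cfsg.suzukiForm F 3 2 = 0 := rfl
  have j33 : Cfsg.suzukiForm F 3 3 = 0 := rfl
  simp only [j00, j01, j02, j03, j10, j11, j12, j13, j20, j21, j22, j23, j30, j31, j32, j33, bJ]
  ring

/-- The point `v` lies on its polar line, witnessed by the second point `u` of that line. -/
def IsAbs (θ : F → F) (u v : Fin 4 → F) : Prop :=
  bJ u v = 0 ∧ u 0 * v 1 - u 1 * v 0 = θ (v 0) ∧ u 0 * v 2 - u 2 * v 0 = θ (v 1) ∧
    u 1 * v 3 - u 3 * v 1 = θ (v 2) ∧ u 2 * v 3 - u 3 * v 2 = θ (v 3)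

theorem brg_abs_of_std {θ : F → F} (hθ : OvTheta θ) {v : Fin 4 → F} (hv : IsStd θ v) :
    ∃ u, IsAbs θ u v := by
  have hθ0 : θ 0 = 0 := ov_theta_zero θ hθ.hadd
  have hθsq : ∀ t, θ (t ^ 2) = θ t ^ 2 := fun t => by rw [pow_two, hθ.hmul, pow_two]
  rcases hv with rfl | ⟨x, y, rfl⟩
  · refine ⟨![0, 1, 0, 0], ?_, ?_, ?_, ?_, ?_⟩
    · show (0 : F) * 0 + 1 * 0 + 0 * 0 + 0 * 1 = 0
      ring
    · show (0 : F) * 0 - 1 * 1 = θ 1
      rw [hθ.hone]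
      linear_combination (-1 : F) * hθ.h2
    · show (0 : F) * 0 - 0 * 1 = θ 0
      rw [hθ0]; ring
    · show (1 : F) * 0 - 0 * 0 = θ 0
      rw [hθ0]; ring
    · show (0 : F) * 0 - 0 * 0 = θ 0
      rw [hθ0]; ring
  · refine ⟨![y + θ x * x, θ x, 1, 0], ?_, ?_, ?_, ?_, ?_⟩
    · show (y + θ x * x) * 1 + θ x * x + 1 * y + 0 * (x * y + θ x * x ^ 2 + θ y) = 0
      linear_combination (y + θ x * x) * hθ.h2
    · show (y + θ x * x) * y - θ x * (x * y + θ x * x ^ 2 + θ y) = θ (x * y + θ x * x ^ 2 + θ y)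
      rw [hθ.hadd, hθ.hadd, hθ.hmul, hθ.hmul, hθ.hsq, hθ.hsq, hθsq]
      linear_combination (-(θ x ^ 2 * x ^ 2 + θ x * θ y)) * hθ.h2
    · show (y + θ x * x) * x - 1 * (x * y + θ x * x ^ 2 + θ y) = θ y
      linear_combination (-(θ y)) * hθ.h2
    · show θ x * 1 - 0 * y = θ x
      ring
    · show (1 : F) * 1 - 0 * x = θ 1
      rw [hθ.hone]; ring

theorem brg_std_of_abs {θ : F → F} (hθ : OvTheta θ) {u v : Fin 4 → F} (hv0 : v ≠ 0)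
    (h : IsAbs θ u v) : ∃ v' : Fin 4 → F, IsStd θ v' ∧ ∃ a : F, a ≠ 0 ∧ v = a • v' := by
  obtain ⟨hB, h01, h02, h13, h23⟩ := h
  unfold bJ at hB
  have hθ0 : θ 0 = 0 := ov_theta_zero θ hθ.hadd
  have hinj0 : ∀ t, θ t = 0 → t = 0 := fun t ht => ov_theta_inj0 θ hθ.hadd hθ.hsq ht
  by_cases h3 : v 3 = 0
  · rw [h3] at h23 h13 hB
    rw [hθ0] at h23
    have hv2 : v 2 = 0 := by
      by_contra hne
      have hu3 : u 3 = 0 := by
        have e : u 3 * v 2 = 0 := by linear_combination -h23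
        rcases mul_eq_zero.mp e with e' | e'
        · exact e'
        · exact absurd e' hne
      have e2 : θ (v 2) = 0 := by rw [← h13, hu3]; ring
      exact hne (hinj0 _ e2)
    rw [hv2] at h02 hB h13
    rw [hθ0] at h13
    have hv1 : v 1 = 0 := by
      by_contra hne
      have hu3 : u 3 = 0 := by
        have e : u 3 * v 1 = 0 := by linear_combination -h13
        rcases mul_eq_zero.mp e with e' | e'
        · exact e'
        · exact absurd e' hne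
      have hu2 : u 2 = 0 := by
        have e : u 2 * v 1 = 0 := by rw [hu3] at hB; linear_combination hB
        rcases mul_eq_zero.mp e with e' | e'
        · exact e'
        · exact absurd e' hne
      have e2 : θ (v 1) = 0 := by rw [← h02, hu2]; ring
      exact hne (hinj0 _ e2)
    have hv00 : v 0 ≠ 0 := by
      intro h0
      apply hv0
      funext i
      revert i
      exact ov_fin4 h0 hv1 hv2 h3
    refine ⟨![1, 0, 0, 0], Or.inl rfl, v 0, hv00, ?_⟩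
    funext i
    revert i
    refine ov_fin4 ?_ ?_ ?_ ?_
    · show v 0 = v 0 * 1
      ring
    · show v 1 = v 0 * 0
      rw [hv1]; ring
    · show v 2 = v 0 * 0
      rw [hv2]; ring
    · show v 3 = v 0 * 0
      rw [h3]; ring
  · have hθa : θ (v 3) ≠ 0 := fun h0 => h3 (hinj0 _ h0)
    have hθdiv : ∀ s, θ (s / v 3) = θ s / θ (v 3) := by
      intro s
      rw [eq_div_iff hθa, ← hθ.hmul, div_mul_cancel₀ s h3]
    have P : v 0 * v 3 * θ (v 3) =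
        v 1 * v 2 * θ (v 3) + θ (v 2) * v 2 ^ 2 + θ (v 1) * v 3 ^ 2 := by
      linear_combination (-(v 0 * v 3 - v 1 * v 2)) * h23 + v 2 ^ 2 * h13 + v 3 ^ 2 * h02
        - v 3 * v 2 * hB + (u 2 * v 0 * v 3 ^ 2 + u 3 * v 1 * v 2 ^ 2) * hθ.h2
    have e : v 3 * (v 2 / v 3 * (v 1 / v 3) + θ (v 2) / θ (v 3) * (v 2 / v 3) ^ 2
        + θ (v 1) / θ (v 3))
        = (v 1 * v 2 * θ (v 3) + θ (v 2) * v 2 ^ 2 + θ (v 1) * v 3 ^ 2) / (v 3 * θ (v 3)) := by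
      field_simp
    refine ⟨![(v 2 / v 3) * (v 1 / v 3) + θ (v 2 / v 3) * (v 2 / v 3) ^ 2 + θ (v 1 / v 3),
      v 1 / v 3, v 2 / v 3, 1], Or.inr ⟨v 2 / v 3, v 1 / v 3, rfl⟩, v 3, h3, ?_⟩
    funext i
    revert i
    refine ov_fin4 ?_ ?_ ?_ ?_
    · show v 0 = v 3 * ((v 2 / v 3) * (v 1 / v 3) + θ (v 2 / v 3) * (v 2 / v 3) ^ 2
        + θ (v 1 / v 3))
      rw [hθdiv, hθdiv, e, ← P]
      field_simp
    · show v 1 = v 3 * (v 1 / v 3)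
      field_simp
    · show v 2 = v 3 * (v 2 / v 3)
      field_simp
    · show v 3 = v 3 * 1
      rw [mul_one]

theorem brg_abs_map {θ : F → F} (hθ : OvTheta θ) (A : Matrix (Fin 4) (Fin 4) F)
    (hSp : ∀ x y : Fin 4 → F, bJ (A *ᵥ x) (A *ᵥ y) = bJ x y)
    (hstar : Cfsg.Lie.star4 A = A.map θ) {u v : Fin 4 → F} (h : IsAbs θ u v) :
    IsAbs θ (A *ᵥ u) (A *ᵥ v) := by
  obtain ⟨hB, h01, h02, h13, h23⟩ := h
  have hJ := brg_form_of_sp A hSp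
  have hrow := brg_form_row A hJ
  have hR : ∀ k l, A k 0 * A l 3 + A k 1 * A l 2 + A k 2 * A l 1 + A k 3 * A l 0 =
      Cfsg.suzukiForm F k l := by
    intro k l
    have e := ov_gram Aᵀ k l
    rw [Matrix.transpose_transpose, hrow] at e
    rw [e]
    simp only [ovB, Matrix.transpose_apply]
    ring
  have hs : ∀ p r, Cfsg.Lie.star4 A p r = θ (A p r) := by
    intro p r
    rw [hstar]; rfl
  have hθv : ∀ p, θ ((A *ᵥ v) p) = θ (A p 0) * θ (v 0) + θ (A p 1) * θ (v 1)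
      + θ (A p 2) * θ (v 2) + θ (A p 3) * θ (v 3) := by
    intro p
    rw [ov_mv4, hθ.hadd, hθ.hadd, hθ.hadd, hθ.hmul, hθ.hmul, hθ.hmul, hθ.hmul]
  have hB2 : u 0 * v 3 + u 1 * v 2 + u 2 * v 1 + u 3 * v 0 = 0 := hB
  have R01 : A 0 0 * A 1 3 + A 0 1 * A 1 2 + A 0 2 * A 1 1 + A 0 3 * A 1 0 = 0 := hR 0 1
  have R02 : A 0 0 * A 2 3 + A 0 1 * A 2 2 + A 0 2 * A 2 1 + A 0 3 * A 2 0 = 0 := hR 0 2
  have R13 : A 1 0 * A 3 3 + A 1 1 * A 3 2 + A 1 2 * A 3 1 + A 1 3 * A 3 0 = 0 := hR 1 3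
  have R23 : A 2 0 * A 3 3 + A 2 1 * A 3 2 + A 2 2 * A 3 1 + A 2 3 * A 3 0 = 0 := hR 2 3
  refine ⟨by rw [hSp]; exact hB, ?_, ?_, ?_, ?_⟩
  · rw [hθv]
    exact brg_pl_map hθ.h2 A u v 0 1 _ _ _ _ _ _ _ _ h01 h02 h13 h23 hB2
      (hs 0 0) (hs 0 1) (hs 0 2) (hs 0 3) R01
  · rw [hθv]
    exact brg_pl_map hθ.h2 A u v 0 2 _ _ _ _ _ _ _ _ h01 h02 h13 h23 hB2
      (hs 1 0) (hs 1 1) (hs 1 2) (hs 1 3) R02
  · rw [hθv]
    exact brg_pl_map hθ.h2 A u v 1 3 _ _ _ _ _ _ _ _ h01 h02 h13 h23 hB2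
      (hs 2 0) (hs 2 1) (hs 2 2) (hs 2 3) R13
  · rw [hθv]
    exact brg_pl_map hθ.h2 A u v 2 3 _ _ _ _ _ _ _ _ h01 h02 h13 h23 hB2
      (hs 3 0) (hs 3 1) (hs 3 2) (hs 3 3) R23

theorem brg_star_T {θ : F → F} (hθ : OvTheta θ) (a b : F) :
    Cfsg.Lie.star4 (ovT θ a b) = (ovT θ a b).map θ := by
  have hθ0 : θ 0 = 0 := ov_theta_zero θ hθ.hadd
  have hθsq : ∀ t, θ (t ^ 2) = θ t ^ 2 := fun t => by rw [pow_two, hθ.hmul, pow_two]
  ext p r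
  revert p r
  refine ov_fin4 ?_ ?_ ?_ ?_ <;> refine ov_fin4 ?_ ?_ ?_ ?_
  · show (1 : F) * 1 - 0 * a = θ 1
    rw [hθ.hone]; ring
  · show (1 : F) * θ a - 0 * (b + a * θ a) = θ a
    ring
  · show a * b - 1 * (a * b + θ a * a ^ 2 + θ b) = θ (b + a * θ a)
    rw [hθ.hadd, hθ.hmul, hθ.hsq]
    linear_combination (-(θ b + θ a * a ^ 2)) * hθ.h2
  · show (b + a * θ a) * b - θ a * (a * b + θ a * a ^ 2 + θ b) =
      θ (a * b + θ a * a ^ 2 + θ b)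
    rw [hθ.hadd, hθ.hadd, hθ.hmul, hθ.hmul, hθ.hsq, hθ.hsq, hθsq]
    linear_combination (-(θ a ^ 2 * a ^ 2 + θ a * θ b)) * hθ.h2
  · show (1 : F) * 0 - 0 * a = θ 0
    rw [hθ0]; ring
  · show (1 : F) * 1 - 0 * (b + a * θ a) = θ 1
    rw [hθ.hone]; ring
  · show a * a - 0 * (a * b + θ a * a ^ 2 + θ b) = θ (θ a)
    rw [hθ.hsq]; ring
  · show (b + a * θ a) * a - 1 * (a * b + θ a * a ^ 2 + θ b) = θ b
    linear_combination (-(θ b)) * hθ.h2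
  · show (0 : F) * 0 - 0 * 1 = θ 0
    rw [hθ0]; ring
  · show (0 : F) * 0 - 0 * θ a = θ 0
    rw [hθ0]; ring
  · show (1 : F) * 1 - 0 * b = θ 1
    rw [hθ.hone]; ring
  · show θ a * 1 - 0 * b = θ a
    ring
  · show (0 : F) * 0 - 0 * 0 = θ 0
    rw [hθ0]; ring
  · show (0 : F) * 0 - 0 * 1 = θ 0
    rw [hθ0]; ring
  · show (0 : F) * 1 - 0 * a = θ 0
    rw [hθ0]; ring
  · show (1 : F) * 1 - 0 * a = θ 1
    rw [hθ.hone]; ring

theorem brg_star_W {θ : F → F} (hθ : OvTheta θ) :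
    Cfsg.Lie.star4 (Cfsg.suzukiForm F) = (Cfsg.suzukiForm F).map θ := by
  have hθ0 : θ 0 = 0 := ov_theta_zero θ hθ.hadd
  have hθ1 : θ 1 = 1 := hθ.hone
  have hn : (0 : F) * 0 - 1 * 1 = 1 := by linear_combination (-1 : F) * hθ.h2
  ext p r
  revert p r
  refine ov_fin4 ?_ ?_ ?_ ?_ <;> refine ov_fin4 ?_ ?_ ?_ ?_
  · show (0 : F) * 0 - 0 * 0 = θ 0
    rw [hθ0]; ring
  · show (0 : F) * 1 - 0 * 0 = θ 0
    rw [hθ0]; ring
  · show (0 : F) * 0 - 0 * 1 = θ 0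
    rw [hθ0]; ring
  · show (0 : F) * 0 - 1 * 1 = θ 1
    rw [hθ1]; exact hn
  · show (0 : F) * 1 - 0 * 0 = θ 0
    rw [hθ0]; ring
  · show (0 : F) * 0 - 0 * 0 = θ 0
    rw [hθ0]; ring
  · show (0 : F) * 0 - 1 * 1 = θ 1
    rw [hθ1]; exact hn
  · show (0 : F) * 0 - 0 * 1 = θ 0
    rw [hθ0]; ring
  · show (0 : F) * 0 - 1 * 0 = θ 0
    rw [hθ0]; ring
  · show (0 : F) * 0 - 1 * 1 = θ 1
    rw [hθ1]; exact hn
  · show (0 : F) * 0 - 0 * 0 = θ 0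
    rw [hθ0]; ring
  · show (1 : F) * 0 - 0 * 0 = θ 0
    rw [hθ0]; ring
  · show (0 : F) * 0 - 1 * 1 = θ 1
    rw [hθ1]; exact hn
  · show (0 : F) * 0 - 1 * 0 = θ 0
    rw [hθ0]; ring
  · show (1 : F) * 0 - 0 * 0 = θ 0
    rw [hθ0]; ring
  · show (0 : F) * 0 - 0 * 0 = θ 0
    rw [hθ0]; ring

end SzBridgeA

section SzBridgeB

variable {F : Type*} [Field F] [Fintype F] {m : ℕ}

theorem brg_star_D (hF : Fintype.card F = 2 ^ (2 * m + 1)) (δ : Fˣ) :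
    Cfsg.Lie.star4 (ovD (δ : F) ((δ : F) ^ 2 ^ m)) =
      (ovD (δ : F) ((δ : F) ^ 2 ^ m)).map (fun x => x ^ 2 ^ (m + 1)) := by
  have hδ : (δ : F) ≠ 0 := δ.ne_zero
  have hκ : (δ : F) ^ 2 ^ m ≠ 0 := pow_ne_zero _ hδ
  have e1 : ((δ : F) ^ 2 ^ m) ^ 2 ^ (m + 1) = δ := by
    rw [← pow_mul, ← pow_add]
    have e : m + (m + 1) = 2 * m + 1 := by ring
    rw [e, ← hF]
    exact FiniteField.pow_card _
  have e2 : (δ : F) ^ 2 ^ (m + 1) = ((δ : F) ^ 2 ^ m) ^ 2 := by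
    rw [← pow_mul, ← pow_succ]
  unfold ovD
  apply star4_diag _ _ (by positivity)
  · show (δ : F) ^ 2 ^ m * δ * (δ : F) ^ 2 ^ m = ((δ : F) ^ 2 ^ m * δ) ^ 2 ^ (m + 1)
    rw [mul_pow, e1, e2]; ring
  · show (δ : F) ^ 2 ^ m * δ * ((δ : F) ^ 2 ^ m)⁻¹ = ((δ : F) ^ 2 ^ m) ^ 2 ^ (m + 1)
    rw [e1]; field_simp
  · show (δ : F) ^ 2 ^ m * ((δ : F) ^ 2 ^ m * δ)⁻¹ = (((δ : F) ^ 2 ^ m)⁻¹) ^ 2 ^ (m + 1)
    rw [inv_pow, e1]; field_simp
  · show ((δ : F) ^ 2 ^ m)⁻¹ * ((δ : F) ^ 2 ^ m * δ)⁻¹ =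
      (((δ : F) ^ 2 ^ m * δ)⁻¹) ^ 2 ^ (m + 1)
    rw [inv_pow, mul_pow, e1, e2]; field_simp

theorem brg_hard (hF : Fintype.card F = 2 ^ (2 * m + 1))
    (g : GL (Fin 4) F) (h1 : g ∈ Cfsg.Lie.Sp4 F)
    (h2 : Cfsg.Lie.star4 (g : Matrix (Fin 4) (Fin 4) F) =
      (g : Matrix (Fin 4) (Fin 4) F).map (fun x => x ^ 2 ^ (m + 1))) :
    ∃ s : Matrix.SpecialLinearGroup (Fin 4) F, s ∈ Cfsg.Sz F m ∧
      Matrix.SpecialLinearGroup.toGL s = g := by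
  have hθ := szθ_spec hF
  have hSp : ∀ x y : Fin 4 → F, bJ ((g : Matrix (Fin 4) (Fin 4) F) *ᵥ x)
      ((g : Matrix (Fin 4) (Fin 4) F) *ᵥ y) = bJ x y :=
    fun x y => (mem_Sp4_iff g).mp h1 x y
  have hJ := brg_form_of_sp _ hSp
  have hdet : (g : Matrix (Fin 4) (Fin 4) F).det = 1 := by
    have e := congrArg Matrix.det hJ
    rw [Matrix.det_mul, Matrix.det_mul, Matrix.det_transpose, ovW_det hθ.h2] at e
    have e2 : ((g : Matrix (Fin 4) (Fin 4) F).det - 1) ^ 2 = 0 := by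
      linear_combination e - (g : Matrix (Fin 4) (Fin 4) F).det * hθ.h2 + hθ.h2
    have e3 : (g : Matrix (Fin 4) (Fin 4) F).det - 1 = 0 :=
      (pow_eq_zero_iff (by norm_num)).mp e2
    linear_combination e3
  have hinjA : ∀ x : Fin 4 → F, (g : Matrix (Fin 4) (Fin 4) F) *ᵥ x = 0 → x = 0 := by
    intro x hx
    have h3 : ((g⁻¹ : GL (Fin 4) F) : Matrix (Fin 4) (Fin 4) F) *
        (g : Matrix (Fin 4) (Fin 4) F) = 1 := Units.inv_mul g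
    have h4 := congrArg (fun z => ((g⁻¹ : GL (Fin 4) F) : Matrix (Fin 4) (Fin 4) F) *ᵥ z) hx
    simp only [Matrix.mulVec_mulVec, h3, Matrix.one_mulVec, Matrix.mulVec_zero] at h4
    exact h4
  refine ⟨⟨(g : Matrix (Fin 4) (Fin 4) F), hdet⟩, ?_, ?_⟩
  · apply sz_mem_of_std
    intro v hv
    obtain ⟨u, hu⟩ := brg_abs_of_std hθ hv
    have hu' := brg_abs_map hθ _ hSp h2 hu
    have hv0 := ov_std_ne_zero hv
    have hAv0 : (g : Matrix (Fin 4) (Fin 4) F) *ᵥ v ≠ 0 := fun h0 => hv0 (hinjA v h0)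
    obtain ⟨v', hv', a, ha, hav⟩ := brg_std_of_abs hθ hAv0 hu'
    exact ⟨v', hv', a, ha, hav⟩
  · apply Units.ext
    rfl

/-- The embedding into the general linear group. -/
def brgι (F : Type*) [Field F] (m : ℕ) : ↥(Cfsg.Sz F m) →* GL (Fin 4) F :=
  Matrix.SpecialLinearGroup.toGL.comp (Cfsg.Sz F m).subtype

omit [Fintype F] in
theorem brgι_inj : Function.Injective (brgι F m) := by
  intro a b h
  apply Subtype.ext
  apply Subtype.ext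
  exact congrArg (fun x : GL (Fin 4) F => (x : Matrix (Fin 4) (Fin 4) F)) h

theorem brg_mem_X (hF : Fintype.card F = 2 ^ (2 * m + 1)) (g : ↥(Cfsg.Sz F m))
    (hstar : Cfsg.Lie.star4 ((g : Matrix.SpecialLinearGroup (Fin 4) F) : Matrix (Fin 4) (Fin 4) F) =
      ((g : Matrix.SpecialLinearGroup (Fin 4) F) : Matrix (Fin 4) (Fin 4) F).map
        (fun x => x ^ 2 ^ (m + 1))) :
    brgι F m g ∈ Cfsg.Lie.Sz F (2 ^ (m + 1)) := by
  apply mem_Sz_of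
  · rw [mem_Sp4_iff]
    intro x y
    exact brg_sp_of_form _ (ov_form hF g.2) x y
  · exact hstar

theorem brg_easy (hm : 1 ≤ m) (hF : Fintype.card F = 2 ^ (2 * m + 1)) (g : ↥(Cfsg.Sz F m)) :
    brgι F m g ∈ Cfsg.Lie.Sz F (2 ^ (m + 1)) := by
  have hθ := szθ_spec hF
  have hT : ∀ a b : F, brgι F m (szTG hF a b) ∈ Cfsg.Lie.Sz F (2 ^ (m + 1)) :=
    fun a b => brg_mem_X hF _ (brg_star_T hθ a b)
  have hW : brgι F m (szWG hF) ∈ Cfsg.Lie.Sz F (2 ^ (m + 1)) :=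
    brg_mem_X hF _ (brg_star_W hθ)
  have hD : ∀ δ : Fˣ, brgι F m (szDG hF δ) ∈ Cfsg.Lie.Sz F (2 ^ (m + 1)) :=
    fun δ => brg_mem_X hF _ (brg_star_D hF δ)
  rcases sz_bruhat hm hF g with ⟨c, d, δ, rfl⟩ | ⟨x, y, c, d, δ, rfl⟩
  · rw [map_mul]
    exact mul_mem (hT c d) (hD δ)
  · rw [map_mul, map_mul, map_mul]
    exact mul_mem (mul_mem (hT x y) hW) (mul_mem (hT c d) (hD δ))

theorem brg_range (hm : 1 ≤ m) (hF : Fintype.card F = 2 ^ (2 * m + 1)) :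
    (brgι F m).range = Cfsg.Lie.Sz F (2 ^ (m + 1)) := by
  apply le_antisymm
  · rintro _ ⟨g, rfl⟩
    exact brg_easy hm hF g
  · unfold Cfsg.Lie.Sz
    rw [Subgroup.closure_le]
    rintro g ⟨h1, h2⟩
    obtain ⟨s, hs, rfl⟩ := brg_hard hF g h1 h2
    exact ⟨⟨s, hs⟩, rfl⟩

/-- The two descriptions of the Suzuki group agree. -/
noncomputable def szBridge (hm : 1 ≤ m) (hF : Fintype.card F = 2 ^ (2 * m + 1)) :
    ↥(Cfsg.Sz F m) ≃* ↥(Cfsg.Lie.Sz F (2 ^ (m + 1))) :=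
  (MonoidHom.ofInjective (brgι_inj (F := F) (m := m))).trans
    (MulEquiv.subgroupCongr (brg_range hm hF))

theorem brg_simple (hm : 1 ≤ m) (hF : Fintype.card F = 2 ^ (2 * m + 1)) :
    IsSimpleGroup ↥(Cfsg.Lie.Sz F (2 ^ (m + 1))) := by
  haveI : IsSimpleGroup ↥(Cfsg.Sz F m) := Cfsg.Agent.S0325.result hm hF
  haveI : Nontrivial ↥(Cfsg.Lie.Sz F (2 ^ (m + 1))) :=
    (szBridge hm hF).symm.toEquiv.nontrivial
  exact IsSimpleGroup.isSimpleGroup_of_surjective (szBridge hm hF).toMonoidHom (szBridge hm hF).surjective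

end SzBridgeB

end Cfsg.Agent.Helper22
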