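import Cfsg.Agent.Helper22.SzHall

set_option autoImplicit false
set_option linter.style.haveILetI false
set_option linter.unusedSectionVars false
set_option linter.unusedSimpArgs false
set_option linter.unusedVariables false
set_option linter.unusedTactic false
set_option maxHeartbeats 1000000

open Cfsg
open Matrix
open scoped Pointwise

namespace Cfsg.Agent.Helper22

section Count22

theorem card_sigma_swap22 {α β : Type*} [Fintype α] [Fintype β] (R : α → β → Prop) :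
    ∑ a : α, Nat.card {b : β // R a b} = ∑ b : β, Nat.card {a : α // R a b} := by
  have h1 : Nat.card (Σ a : α, {b : β // R a b}) = ∑ a : α, Nat.card {b : β // R a b} :=
    Nat.card_sigma
  have h2 : Nat.card (Σ b : β, {a : α // R a b}) = ∑ b : β, Nat.card {a : α // R a b} :=
    Nat.card_sigma
  rw [← h1, ← h2]
  exact Nat.card_congr
    { toFun := fun x => ⟨x.2.1, ⟨x.1, x.2.2⟩⟩
      invFun := fun y => ⟨y.2.1, ⟨y.1, y.2.2⟩⟩
      left_inv := fun x => rfl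
      right_inv := fun y => rfl }

theorem card_offdiag22 (T : Type*) [Finite T] :
    Nat.card {x : T × T // x.1 ≠ x.2} + Nat.card T = Nat.card T * Nat.card T := by
  classical
  haveI := Fintype.ofFinite T
  have h1 : Nat.card {x : T × T // x.1 ≠ x.2} = ((Finset.univ : Finset T).offDiag).card := by
    rw [Nat.card_eq_fintype_card, Fintype.card_subtype]
    congr 1
    ext ⟨a, b⟩
    simp [Finset.mem_offDiag]
  rw [h1, Finset.offDiag_card, Finset.card_univ, Nat.card_eq_fintype_card]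
  exact Nat.sub_add_cancel (Nat.le_mul_self _)

end Count22

section SzCount

variable {F : Type*} [Field F] [Fintype F] {m : ℕ}

theorem sz_stab_pt_card (hm : 1 ≤ m) (hF : Fintype.card F = 2 ^ (2 * m + 1))
    (P : ↥(Cfsg.suzukiOvoid F m)) :
    Nat.card {g : ↥(Cfsg.Sz F m) // g • P = P} =
      (2 ^ (2 * m + 1)) ^ 2 * (2 ^ (2 * m + 1) - 1) := by
  have hP' : (P : Projectivization F (Fin 4 → F)) ∈
      MulAction.orbit (Cfsg.Sz F m) (Cfsg.suzukiPointInfinity F) := by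
    rw [sz_orbit_inf hF]
    exact P.2
  obtain ⟨k, hk⟩ := hP'
  have hk' : k • szInfΩ F m = P := Subtype.ext hk
  rw [← sz_stab_card hm hF]
  apply Nat.card_congr
  exact
    { toFun := fun g => ⟨k⁻¹ * g.1 * k, by
        have h : (k⁻¹ * g.1 * k) • szInfΩ F m = szInfΩ F m := by
          rw [mul_smul, mul_smul, hk', g.2, ← hk', inv_smul_smul]
        exact MulAction.mem_stabilizer_iff.mpr (congrArg Subtype.val h)⟩
      invFun := fun g => ⟨k * g.1 * k⁻¹, by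
        have h : g.1 • szInfΩ F m = szInfΩ F m :=
          Subtype.ext (MulAction.mem_stabilizer_iff.mp g.2)
        rw [mul_smul, mul_smul, ← hk', inv_smul_smul, h]⟩
      left_inv := fun g => Subtype.ext (by
        show k * (k⁻¹ * g.1 * k) * k⁻¹ = g.1
        group)
      right_inv := fun g => Subtype.ext (by
        show k⁻¹ * (k * g.1 * k⁻¹) * k = g.1
        group) }

theorem sz_stab_two_card (hm : 1 ≤ m) (hF : Fintype.card F = 2 ^ (2 * m + 1))
    (P Q : ↥(Cfsg.suzukiOvoid F m)) (hPQ : P ≠ Q) :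
    Nat.card {g : ↥(Cfsg.Sz F m) // g • P = P ∧ g • Q = Q} = 2 ^ (2 * m + 1) - 1 := by
  obtain ⟨k, hka, hkb⟩ := sz_normΩ hF P Q hPQ
  obtain ⟨e⟩ := sz_two_pt_equiv hm hF
  have h1 : Nat.card Fˣ = 2 ^ (2 * m + 1) - 1 := by
    rw [Nat.card_units, Nat.card_eq_fintype_card, hF]
  rw [← h1, ← Nat.card_congr e.toEquiv]
  apply Nat.card_congr
  exact
    { toFun := fun g => ⟨k * g.1 * k⁻¹, by
        have h1 : (k * g.1 * k⁻¹) • szInfΩ F m = szInfΩ F m := by
          rw [mul_smul, mul_smul, ← hka, inv_smul_smul, g.2.1]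
        have h2 : (k * g.1 * k⁻¹) • szZeroΩ hF = szZeroΩ hF := by
          rw [mul_smul, mul_smul, ← hkb, inv_smul_smul, g.2.2]
        exact Subgroup.mem_inf.mpr ⟨MulAction.mem_stabilizer_iff.mpr (congrArg Subtype.val h1),
          MulAction.mem_stabilizer_iff.mpr (congrArg Subtype.val h2)⟩⟩
      invFun := fun z => ⟨k⁻¹ * z.1 * k, by
        have h1 : z.1 • szInfΩ F m = szInfΩ F m :=
          Subtype.ext (MulAction.mem_stabilizer_iff.mp (Subgroup.mem_inf.mp z.2).1)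
        have h2 : z.1 • szZeroΩ hF = szZeroΩ hF :=
          Subtype.ext (MulAction.mem_stabilizer_iff.mp (Subgroup.mem_inf.mp z.2).2)
        constructor
        · rw [mul_smul, mul_smul, hka, h1, ← hka, inv_smul_smul]
        · rw [mul_smul, mul_smul, hkb, h2, ← hkb, inv_smul_smul]⟩
      left_inv := fun g => Subtype.ext (by
        show k⁻¹ * (k * g.1 * k⁻¹) * k = g.1
        group)
      right_inv := fun z => Subtype.ext (by
        show k * (k⁻¹ * z.1 * k) * k⁻¹ = z.1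
        group) }

theorem sz_fpf_count (hm : 1 ≤ m) (hF : Fintype.card F = 2 ^ (2 * m + 1)) (t : ℕ)
    (ht : 2 ^ (2 * m + 1) = t + 1) :
    2 * {g : ↥(Cfsg.Sz F m) | szFpf g}.ncard = (t + 1) ^ 3 * t ^ 2 := by
  classical
  haveI : Fintype ↥(Cfsg.Sz F m) := Fintype.ofFinite _
  haveI : Fintype ↥(Cfsg.suzukiOvoid F m) := Fintype.ofFinite _
  obtain ⟨f, hf⟩ : ∃ f : ↥(Cfsg.Sz F m) → ℕ, ∀ g, f g =
      Nat.card {P : ↥(Cfsg.suzukiOvoid F m) // g • P = P} := ⟨_, fun g => rfl⟩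
  obtain ⟨h, hh⟩ : ∃ h : ↥(Cfsg.Sz F m) → ℕ, ∀ g, h g =
      Nat.card {PQ : {x : ↥(Cfsg.suzukiOvoid F m) × ↥(Cfsg.suzukiOvoid F m) // x.1 ≠ x.2} //
        g • PQ.1.1 = PQ.1.1 ∧ g • PQ.1.2 = PQ.1.2} := ⟨_, fun g => rfl⟩
  have hN : Nat.card ↥(Cfsg.suzukiOvoid F m) = (t + 1) ^ 2 + 1 := by
    rw [sz_ovoid_card hF, ht]
  obtain ⟨B, hB⟩ : ∃ B : ℕ, B = Nat.card
      {x : ↥(Cfsg.suzukiOvoid F m) × ↥(Cfsg.suzukiOvoid F m) // x.1 ≠ x.2} := ⟨_, rfl⟩
  have hBN : B + ((t + 1) ^ 2 + 1) = ((t + 1) ^ 2 + 1) * ((t + 1) ^ 2 + 1) := by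
    rw [hB, ← hN]
    exact card_offdiag22 _
  -- the first double count
  have hA : ∑ g : ↥(Cfsg.Sz F m), f g = ((t + 1) ^ 2 + 1) * ((t + 1) ^ 2 * t) := by
    have h1 := card_sigma_swap22
      (fun (g : ↥(Cfsg.Sz F m)) (P : ↥(Cfsg.suzukiOvoid F m)) => g • P = P)
    have h2 : ∀ P : ↥(Cfsg.suzukiOvoid F m),
        Nat.card {g : ↥(Cfsg.Sz F m) // g • P = P} = (t + 1) ^ 2 * t := by
      intro P
      rw [sz_stab_pt_card hm hF P, ht, Nat.add_sub_cancel]
    calc ∑ g : ↥(Cfsg.Sz F m), f g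
        = ∑ g : ↥(Cfsg.Sz F m), Nat.card {P : ↥(Cfsg.suzukiOvoid F m) // g • P = P} :=
          Finset.sum_congr rfl (fun g _ => hf g)
      _ = ∑ P : ↥(Cfsg.suzukiOvoid F m), Nat.card {g : ↥(Cfsg.Sz F m) // g • P = P} := h1
      _ = ∑ P : ↥(Cfsg.suzukiOvoid F m), (t + 1) ^ 2 * t :=
          Finset.sum_congr rfl (fun P _ => h2 P)
      _ = ((t + 1) ^ 2 + 1) * ((t + 1) ^ 2 * t) := by
          rw [Finset.sum_const, Finset.card_univ, smul_eq_mul, ← Nat.card_eq_fintype_card, hN]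
  -- the second double count
  have hBsum : ∑ g : ↥(Cfsg.Sz F m), h g = B * t := by
    have h1 := card_sigma_swap22
      (fun (g : ↥(Cfsg.Sz F m))
        (PQ : {x : ↥(Cfsg.suzukiOvoid F m) × ↥(Cfsg.suzukiOvoid F m) // x.1 ≠ x.2}) =>
        g • PQ.1.1 = PQ.1.1 ∧ g • PQ.1.2 = PQ.1.2)
    have h2 : ∀ PQ : {x : ↥(Cfsg.suzukiOvoid F m) × ↥(Cfsg.suzukiOvoid F m) // x.1 ≠ x.2},
        Nat.card {g : ↥(Cfsg.Sz F m) // g • PQ.1.1 = PQ.1.1 ∧ g • PQ.1.2 = PQ.1.2} = t := by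
      intro PQ
      rw [sz_stab_two_card hm hF PQ.1.1 PQ.1.2 PQ.2, ht, Nat.add_sub_cancel]
    calc ∑ g : ↥(Cfsg.Sz F m), h g
        = ∑ g : ↥(Cfsg.Sz F m), Nat.card
            {PQ : {x : ↥(Cfsg.suzukiOvoid F m) × ↥(Cfsg.suzukiOvoid F m) // x.1 ≠ x.2} //
              g • PQ.1.1 = PQ.1.1 ∧ g • PQ.1.2 = PQ.1.2} :=
          Finset.sum_congr rfl (fun g _ => hh g)
      _ = ∑ PQ : {x : ↥(Cfsg.suzukiOvoid F m) × ↥(Cfsg.suzukiOvoid F m) // x.1 ≠ x.2},
            Nat.card {g : ↥(Cfsg.Sz F m) // g • PQ.1.1 = PQ.1.1 ∧ g • PQ.1.2 = PQ.1.2} := h1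
      _ = ∑ PQ : {x : ↥(Cfsg.suzukiOvoid F m) × ↥(Cfsg.suzukiOvoid F m) // x.1 ≠ x.2}, t :=
          Finset.sum_congr rfl (fun PQ _ => h2 PQ)
      _ = B * t := by
          rw [Finset.sum_const, Finset.card_univ, smul_eq_mul, ← Nat.card_eq_fintype_card, hB]
  have hf1 : f 1 = (t + 1) ^ 2 + 1 := by
    rw [hf, ← hN]
    exact Nat.card_congr (Equiv.subtypeUnivEquiv (fun P => one_smul _ P))
  have hh1 : h 1 = B := by
    rw [hh, hB]
    exact Nat.card_congr (Equiv.subtypeUnivEquiv (fun PQ => ⟨one_smul _ _, one_smul _ _⟩))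
  have hrel : ∀ g : ↥(Cfsg.Sz F m), h g + f g = f g * f g := by
    intro g
    rw [hh, hf]
    rw [← card_offdiag22 {P : ↥(Cfsg.suzukiOvoid F m) // g • P = P}]
    congr 1
    apply Nat.card_congr
    exact
      { toFun := fun z => ⟨(⟨z.1.1.1, z.2.1⟩, ⟨z.1.1.2, z.2.2⟩),
          fun e => z.1.2 (congrArg Subtype.val e)⟩
        invFun := fun w => ⟨⟨(w.1.1.1, w.1.2.1), fun e => w.2 (Subtype.ext e)⟩,
          w.1.1.2, w.1.2.2⟩
        left_inv := fun z => rfl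
        right_inv := fun w => rfl }
  have hfpf : ∀ g : ↥(Cfsg.Sz F m), szFpf g ↔ f g = 0 := by
    intro g
    rw [hf]
    constructor
    · intro hg
      rw [Nat.card_eq_zero]
      left
      exact ⟨fun P => hg P.1.1 P.1.2 (congrArg Subtype.val P.2)⟩
    · intro h0 p hp hfix
      rw [Nat.card_eq_zero] at h0
      rcases h0 with h0 | h0
      · exact h0.false ⟨⟨p, hp⟩, Subtype.ext hfix⟩
      · exact (not_finite_iff_infinite.mpr h0) inferInstance
  have hle2 : ∀ g : ↥(Cfsg.Sz F m), g ≠ 1 → f g ≤ 2 := by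
    intro g hg1
    rw [hf]
    by_contra hlt
    push_neg at hlt
    haveI : Fintype {P : ↥(Cfsg.suzukiOvoid F m) // g • P = P} := Fintype.ofFinite _
    rw [Nat.card_eq_fintype_card, Fintype.two_lt_card_iff] at hlt
    obtain ⟨a, b, c, hab, hac, hbc⟩ := hlt
    exact hg1 ((sz_zassenhaus hm hF).2.2.1 g a.1 b.1 c.1 (fun e => hab (Subtype.ext e))
      (fun e => hbc (Subtype.ext e)) (fun e => hac (Subtype.ext e)) a.2 b.2 c.2)
  obtain ⟨e, he⟩ : ∃ e : ↥(Cfsg.Sz F m) → ℕ, ∀ g, e g = if szFpf g then 1 else 0 :=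
    ⟨_, fun g => rfl⟩
  have hpt : ∀ g : ↥(Cfsg.Sz F m), g ≠ 1 → 2 * e g + 2 * f g = 2 + h g := by
    intro g hg1
    have h1 := hrel g
    have h2 := hle2 g hg1
    have h3 := hfpf g
    rw [he]
    obtain ⟨fv, hfv⟩ : ∃ fv, fv = f g := ⟨_, rfl⟩
    rw [← hfv] at h1 h2 h3 ⊢
    interval_cases fv
    · rw [if_pos (h3.mpr rfl)]
      omega
    · rw [if_neg (fun hc => by have := h3.mp hc; omega)]
      omega
    · rw [if_neg (fun hc => by have := h3.mp hc; omega)]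
      omega
  have hsumpt : ∑ g ∈ Finset.univ.erase (1 : ↥(Cfsg.Sz F m)), (2 * e g + 2 * f g) =
      ∑ g ∈ Finset.univ.erase (1 : ↥(Cfsg.Sz F m)), (2 + h g) :=
    Finset.sum_congr rfl (fun g hg => hpt g (Finset.ne_of_mem_erase hg))
  rw [Finset.sum_add_distrib, Finset.sum_add_distrib, ← Finset.mul_sum, ← Finset.mul_sum,
    Finset.sum_const, smul_eq_mul] at hsumpt
  have hfs := Finset.add_sum_erase Finset.univ f (Finset.mem_univ (1 : ↥(Cfsg.Sz F m)))
  have hhs := Finset.add_sum_erase Finset.univ h (Finset.mem_univ (1 : ↥(Cfsg.Sz F m)))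
  have hes := Finset.add_sum_erase Finset.univ e (Finset.mem_univ (1 : ↥(Cfsg.Sz F m)))
  have he1 : e 1 = 0 := by
    rw [he, if_neg]
    intro hc
    exact szFpf_ne_one hc rfl
  have hc1 := Finset.card_erase_add_one (Finset.mem_univ (1 : ↥(Cfsg.Sz F m)))
  rw [Finset.card_univ, ← Nat.card_eq_fintype_card, sz_card hm hF, ht, Nat.add_sub_cancel]
    at hc1
  have hE : ∑ g : ↥(Cfsg.Sz F m), e g = {g : ↥(Cfsg.Sz F m) | szFpf g}.ncard := by
    have h1 : {g : ↥(Cfsg.Sz F m) | szFpf g}.ncard =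
        (Finset.univ.filter (fun g : ↥(Cfsg.Sz F m) => szFpf g)).card := by
      rw [Set.ncard_eq_toFinset_card' _]
      congr 1
      ext x
      simp
    rw [h1, Finset.card_filter]
    exact Finset.sum_congr rfl (fun g _ => he g)
  rw [hf1, hA] at hfs
  rw [hh1, hBsum] at hhs
  rw [he1, hE, zero_add] at hes
  rw [← hes]
  generalize (∑ g ∈ Finset.univ.erase (1 : ↥(Cfsg.Sz F m)), e g) = EE at hsumpt ⊢
  generalize (∑ g ∈ Finset.univ.erase (1 : ↥(Cfsg.Sz F m)), f g) = EF at hsumpt hfs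
  generalize (∑ g ∈ Finset.univ.erase (1 : ↥(Cfsg.Sz F m)), h g) = EH at hsumpt hhs
  generalize (Finset.univ.erase (1 : ↥(Cfsg.Sz F m))).card = c₁ at hsumpt hc1
  zify at hsumpt hfs hhs hc1 hBN ⊢
  linear_combination hsumpt - 2 * hfs + 2 * hc1 + hhs + ((t : ℤ) - 1) * hBN

end SzCount

end Cfsg.Agent.Helper22
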