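import Cfsg.Agent.Helper22.SzMore
import Cfsg.Agent.Helper22.LinIrr

set_option autoImplicit false
set_option linter.style.haveILetI false
set_option linter.unusedSectionVars false
set_option linter.unusedSimpArgs false
set_option linter.unusedVariables false
set_option linter.unusedTactic false
set_option maxHeartbeats 1000000

open Cfsg
open Matrix
open scoped Pointwise

namespace Cfsg.Agent.Helper22

section SzCyc

variable {F : Type*} [Field F] [Fintype F] {m : ℕ}

theorem sz_lin_hyp (hF : Fintype.card F = 2 ^ (2 * m + 1)) {p : ℕ} [Fact p.Prime] (hp2 : p ≠ 2)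
    (hdvd : p ∣ (2 ^ (2 * m + 1)) ^ 2 + 1) :
    (p : F) ≠ 0 ∧ ∀ d, 1 ≤ d → d ≤ 3 → ¬ (Fintype.card F ^ d ≡ 1 [MOD p]) := by
  have hθ := szθ_spec hF
  constructor
  · rcases (Fact.out : p.Prime).eq_two_or_odd' with h | h
    · exact absurd h hp2
    · obtain ⟨k, hk⟩ := h
      rw [hk]
      push_cast
      rw [hθ.h2, zero_mul, zero_add]
      exact one_ne_zero
  · rw [hF]
    exact sz_ord4 hp2 hdvd

theorem szDG_one (hF : Fintype.card F = 2 ^ (2 * m + 1)) : szDG hF 1 = 1 :=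
  Subtype.ext szD_one

theorem szDG_mul (hF : Fintype.card F = 2 ^ (2 * m + 1)) (a b : Fˣ) :
    szDG hF a * szDG hF b = szDG hF (a * b) :=
  Subtype.ext (szD_mul a b).symm

theorem szWG_sq (hF : Fintype.card F = 2 ^ (2 * m + 1)) : szWG hF * szWG hF = 1 :=
  Subtype.ext (Subtype.ext ovW_sq)

theorem szW_zero' (hF : Fintype.card F = 2 ^ (2 * m + 1)) :
    szW F (szθ_spec hF).h2 • Cfsg.suzukiPointZero F = Cfsg.suzukiPointInfinity F := by
  have h1 := szW_inf (F := F) (szθ_spec hF).h2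
  have h2 : szW F (szθ_spec hF).h2 * szW F (szθ_spec hF).h2 = 1 := Subtype.ext ovW_sq
  rw [← h1, ← mul_smul, h2, one_smul]

theorem sz_norm_inj (hF : Fintype.card F = 2 ^ (2 * m + 1)) {a b : F}
    (h : szθ F m a * a = szθ F m b * b) : a = b := by
  have hsurj : Function.Surjective (fun c : F => szθ F m c * c) := fun t => sz_norm_surj hF t
  exact (Finite.injective_iff_surjective.mpr hsurj) h

/-- The centraliser property: the centraliser is commutative or of exponent dividing four. -/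
def szCN (g : ↥(Cfsg.Sz F m)) : Prop :=
  (∀ y z : ↥(Cfsg.Sz F m), y * g = g * y → z * g = g * z → y * z = z * y) ∨
    (∀ y : ↥(Cfsg.Sz F m), y * g = g * y → y ^ 4 = 1)

theorem szCN_conj (g k : ↥(Cfsg.Sz F m)) (h : szCN (k * g * k⁻¹)) : szCN g := by
  have hc : ∀ y : ↥(Cfsg.Sz F m), y * g = g * y →
      (k * y * k⁻¹) * (k * g * k⁻¹) = (k * g * k⁻¹) * (k * y * k⁻¹) := by
    intro y hy
    have e1 : (k * y * k⁻¹) * (k * g * k⁻¹) = k * (y * g) * k⁻¹ := by group
    have e2 : (k * g * k⁻¹) * (k * y * k⁻¹) = k * (g * y) * k⁻¹ := by group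
    rw [e1, e2, hy]
  rcases h with h | h
  · left
    intro y z hy hz
    have e := h _ _ (hc y hy) (hc z hz)
    have e1 : (k * y * k⁻¹) * (k * z * k⁻¹) = k * (y * z) * k⁻¹ := by group
    have e2 : (k * z * k⁻¹) * (k * y * k⁻¹) = k * (z * y) * k⁻¹ := by group
    rw [e1, e2] at e
    exact mul_left_cancel (mul_right_cancel e)
  · right
    intro y hy
    have e := h _ (hc y hy)
    rw [conj_pow] at e
    have e' : y ^ 4 = k⁻¹ * (k * y ^ 4 * k⁻¹) * k := by group
    rw [e', e]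
    group

theorem szCN_nilpotent (g : ↥(Cfsg.Sz F m)) (h : szCN g) :
    Group.IsNilpotent ↥(Subgroup.centralizer ({g} : Set ↥(Cfsg.Sz F m))) := by
  have hmem : ∀ y : ↥(Subgroup.centralizer ({g} : Set ↥(Cfsg.Sz F m))),
      (y : ↥(Cfsg.Sz F m)) * g = g * y := by
    intro y
    exact ((Subgroup.mem_centralizer_iff.mp y.2) g (Set.mem_singleton g)).symm
  rcases h with h | h
  · letI : CommGroup ↥(Subgroup.centralizer ({g} : Set ↥(Cfsg.Sz F m))) :=
      { (inferInstance : Group ↥(Subgroup.centralizer ({g} : Set ↥(Cfsg.Sz F m)))) with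
        mul_comm := fun y z => Subtype.ext (h _ _ (hmem y) (hmem z)) }
    exact CommGroup.isNilpotent
  · haveI : Fact (Nat.Prime 2) := ⟨Nat.prime_two⟩
    have hP : IsPGroup 2 ↥(Subgroup.centralizer ({g} : Set ↥(Cfsg.Sz F m))) := by
      intro y
      refine ⟨2, ?_⟩
      apply Subtype.ext
      have h4 := h _ (hmem y)
      have e : (2 : ℕ) ^ 2 = 4 := by norm_num
      rw [e]
      exact h4
    exact hP.isNilpotent

/-- The centraliser of a nonidentity torus element is the torus. -/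
theorem sz_cent_torus (hm : 1 ≤ m) (hF : Fintype.card F = 2 ^ (2 * m + 1)) (δ : Fˣ)
    (hδ : δ ≠ 1) (y : ↥(Cfsg.Sz F m)) (hy : y * szDG hF δ = szDG hF δ * y) :
    ∃ ε : Fˣ, y = szDG hF ε := by
  have hθ := szθ_spec hF
  have hy' : (y : Matrix.SpecialLinearGroup (Fin 4) F) * szD F m δ =
      szD F m δ * (y : Matrix.SpecialLinearGroup (Fin 4) F) := congrArg Subtype.val hy
  have hfixD : ∀ p ∈ Cfsg.suzukiOvoid F m, szD F m δ • p = p →
      p = Cfsg.suzukiPointInfinity F ∨ p = Cfsg.suzukiPointZero F := by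
    intro p hp hfix
    rcases sz_mem_ovoid_iff.mp hp with rfl | ⟨x, y, rfl⟩
    · exact Or.inl rfl
    · right
      by_contra hne
      apply hδ
      apply szD_fix hF (x := x) (y := y) ?_ hfix
      rintro ⟨rfl, rfl⟩
      exact hne (szPt_zero hF)
  have hyinf : szD F m δ • ((y : Matrix.SpecialLinearGroup (Fin 4) F) •
      Cfsg.suzukiPointInfinity F) =
      (y : Matrix.SpecialLinearGroup (Fin 4) F) • Cfsg.suzukiPointInfinity F := by
    rw [← mul_smul, ← hy', mul_smul, szD_inf]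
  have hyzero : szD F m δ • ((y : Matrix.SpecialLinearGroup (Fin 4) F) •
      Cfsg.suzukiPointZero F) =
      (y : Matrix.SpecialLinearGroup (Fin 4) F) • Cfsg.suzukiPointZero F := by
    rw [← mul_smul, ← hy', mul_smul, szD_zero]
  have hne : (y : Matrix.SpecialLinearGroup (Fin 4) F) • Cfsg.suzukiPointInfinity F ≠
      (y : Matrix.SpecialLinearGroup (Fin 4) F) • Cfsg.suzukiPointZero F := by
    intro h
    have h' := MulAction.injective _ h
    exact szPt_ne_inf 0 0 ((szPt_zero hF).trans h'.symm)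
  rcases hfixD _ (sz_smul_mem y.2 sz_inf_mem) hyinf with h1 | h1
  · rcases hfixD _ (sz_smul_mem y.2 (sz_zero_mem hF)) hyzero with h2 | h2
    · exact absurd (h1.trans h2.symm) hne
    · obtain ⟨ε, hε⟩ := sz_two_pt hm hF y.2 h1 h2
      exact ⟨ε, Subtype.ext hε⟩
  · rcases hfixD _ (sz_smul_mem y.2 (sz_zero_mem hF)) hyzero with h2 | h2
    · exfalso
      have hW1 : ((szWG hF * y : ↥(Cfsg.Sz F m)) : Matrix.SpecialLinearGroup (Fin 4) F) •
          Cfsg.suzukiPointInfinity F = Cfsg.suzukiPointInfinity F := by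
        show (szW F (szθ_spec hF).h2 * (y : Matrix.SpecialLinearGroup (Fin 4) F)) • _ = _
        rw [mul_smul, h1]
        exact szW_zero' hF
      have hW2 : ((szWG hF * y : ↥(Cfsg.Sz F m)) : Matrix.SpecialLinearGroup (Fin 4) F) •
          Cfsg.suzukiPointZero F = Cfsg.suzukiPointZero F := by
        show (szW F (szθ_spec hF).h2 * (y : Matrix.SpecialLinearGroup (Fin 4) F)) • _ = _
        rw [mul_smul, h2]
        exact szW_inf _
      obtain ⟨ε, hε⟩ := sz_two_pt hm hF (szWG hF * y).2 hW1 hW2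
      have hWy : szWG hF * y = szDG hF ε := Subtype.ext hε
      have hyW : y = szWG hF * szDG hF ε := by
        rw [← hWy, ← mul_assoc, szWG_sq, one_mul]
      have hWD : ∀ η : Fˣ, szWG hF * szDG hF η = szDG hF η⁻¹ * szWG hF :=
        fun η => Subtype.ext (szW_D (szθ_spec hF).h2 η)
      -- W D(ε) D(δ) = D(δ) W D(ε)
      rw [hyW] at hy
      have e : szWG hF * szDG hF (ε * δ) = szWG hF * szDG hF (δ⁻¹ * ε) := by
        have e1 : szWG hF * szDG hF (ε * δ) = szWG hF * szDG hF ε * szDG hF δ := by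
          rw [← szDG_mul, mul_assoc]
        have e2 : szWG hF * szDG hF (δ⁻¹ * ε) = szDG hF δ * (szWG hF * szDG hF ε) := by
          rw [← szDG_mul, ← mul_assoc, hWD, inv_inv, mul_assoc]
        rw [e1, e2]
        exact hy
      have e' : szD F m (ε * δ) = szD F m (δ⁻¹ * ε) := congrArg Subtype.val (mul_left_cancel e)
      have e3 := szD_inj e'
      have e4 : δ * δ = 1 := by
        have e5 : ε * δ = ε * δ⁻¹ := by rw [e3, mul_comm]
        have e6 : δ = δ⁻¹ := mul_left_cancel e5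
        calc δ * δ = δ⁻¹ * δ := by rw [← e6]
          _ = 1 := inv_mul_cancel δ
      have h4 : (δ : F) * δ = 1 := by rw [← Units.val_mul, e4, Units.val_one]
      have e5 : ((δ : F) - 1) * ((δ : F) - 1) = 0 := by
        linear_combination h4 + (1 - (δ : F)) * hθ.h2
      have e6 := mul_self_eq_zero.mp e5
      apply hδ
      apply Units.ext
      rw [Units.val_one]
      linear_combination e6
    · exact absurd (h1.trans h2.symm) hne

theorem szCN_torus (hm : 1 ≤ m) (hF : Fintype.card F = 2 ^ (2 * m + 1)) (δ : Fˣ)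
    (hδ : δ ≠ 1) : szCN (szDG hF δ) := by
  left
  intro y z hy hz
  obtain ⟨ε, rfl⟩ := sz_cent_torus hm hF δ hδ y hy
  obtain ⟨η, rfl⟩ := sz_cent_torus hm hF δ hδ z hz
  rw [szDG_mul, szDG_mul, mul_comm]

theorem szCN_transl (hm : 1 ≤ m) (hF : Fintype.card F = 2 ^ (2 * m + 1)) (c d : F)
    (hcd : c ≠ 0 ∨ d ≠ 0) : szCN (szTG hF c d) := by
  right
  intro y hy
  have hθ := szθ_spec hF
  have hθ0 := ov_theta_zero _ hθ.hadd
  have hy' : (y : Matrix.SpecialLinearGroup (Fin 4) F) * szT F m c d =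
      szT F m c d * (y : Matrix.SpecialLinearGroup (Fin 4) F) := congrArg Subtype.val hy
  have hyinf : (y : Matrix.SpecialLinearGroup (Fin 4) F) • Cfsg.suzukiPointInfinity F =
      Cfsg.suzukiPointInfinity F := by
    apply szT_fix' hF hcd (sz_smul_mem y.2 sz_inf_mem)
    rw [← mul_smul, ← hy', mul_smul, szT_inf]
  obtain ⟨c', d', ε, hdec, hcd'⟩ := sz_borel_decomp hm hF y hyinf
  have hdec' : (y : Matrix.SpecialLinearGroup (Fin 4) F) = szT F m c' d' * szD F m ε :=
    congrArg Subtype.val hdec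
  have hL : ((y : Matrix.SpecialLinearGroup (Fin 4) F) * szT F m c d) •
      Cfsg.suzukiPointZero F =
      szPt F m (ε * c + c') (szθ F m ε * ε * d + d' + szθ F m c' * (ε * c)) := by
    rw [mul_smul, szT_zero hF, hdec', mul_smul, szD_pt hF, szT_pt hF]
  have hR : (szT F m c d * (y : Matrix.SpecialLinearGroup (Fin 4) F)) •
      Cfsg.suzukiPointZero F = szPt F m (c' + c) (d' + d + szθ F m c * c') := by
    rw [mul_smul, hcd', szT_pt hF]
  rw [hy'] at hL
  rw [hL] at hR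
  obtain ⟨e1, e2⟩ := szPt_inj hR
  have hε1 : (ε : F) = 1 := by
    by_cases hc : c = 0
    · have hd : d ≠ 0 := by
        rcases hcd with h | h
        · exact absurd hc h
        · exact h
      rw [hc, hθ0] at e2
      have e3 : (szθ F m ε * ε - 1) * d = 0 := by linear_combination e2
      have e4 : szθ F m (ε : F) * ε = szθ F m 1 * 1 := by
        rw [hθ.hone]
        rcases mul_eq_zero.mp e3 with h | h
        · linear_combination h
        · exact absurd h hd
      exact sz_norm_inj hF e4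
    · have e : ((ε : F) - 1) * c = 0 := by linear_combination e1
      rcases mul_eq_zero.mp e with h | h
      · linear_combination h
      · exact absurd h hc
  have hε : ε = 1 := Units.ext hε1
  have hy2 : y = szTG hF c' d' := by rw [hdec, hε, szDG_one, mul_one]
  have haa : ∀ t : F, t + t = 0 := fun t => by linear_combination t * hθ.h2
  have hsq : y * y = szTG hF 0 (szθ F m c' * c') := by rw [hy2]; exact szTG_sq hF c' d'
  have h4 : y ^ 4 = (y * y) * (y * y) := by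
    have e := pow_add y 2 2
    rw [pow_two] at e
    exact e
  rw [h4, hsq, szTG_sq, hθ0, zero_mul]
  exact szTG_one hF

theorem szCN_borel (hm : 1 ≤ m) (hF : Fintype.card F = 2 ^ (2 * m + 1))
    (g : ↥(Cfsg.Sz F m)) (hg1 : g ≠ 1)
    (hg : (g : Matrix.SpecialLinearGroup (Fin 4) F) • Cfsg.suzukiPointInfinity F =
      Cfsg.suzukiPointInfinity F) : szCN g := by
  have hθ := szθ_spec hF
  obtain ⟨c, d, δ, hdec, hcd⟩ := sz_borel_decomp hm hF g hg
  by_cases hδ : δ = 1
  · have hg2 : g = szTG hF c d := by rw [hdec, hδ, szDG_one, mul_one]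
    rw [hg2]
    apply szCN_transl hm hF
    by_contra hcon
    push_neg at hcon
    apply hg1
    rw [hg2, hcon.1, hcon.2]
    exact szTG_one hF
  · have hδ1 : (δ : F) ≠ 1 := fun h => hδ (Units.ext h)
    have h1δ : (1 : F) + δ ≠ 0 := by
      intro h
      apply hδ1
      linear_combination h - hθ.h2
    have hN : (1 : F) + szθ F m δ * δ ≠ 0 := by
      intro h
      apply hδ1
      have e : szθ F m (δ : F) * δ = szθ F m 1 * 1 := by
        rw [hθ.hone]
        linear_combination h - hθ.h2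
      exact sz_norm_inj hF e
    obtain ⟨u, hu⟩ : ∃ u : F, (1 + (δ : F)) * u = 1 := ⟨_, mul_inv_cancel₀ h1δ⟩
    obtain ⟨v, hv⟩ : ∃ v : F, (1 + szθ F m δ * δ) * v = 1 := ⟨_, mul_inv_cancel₀ hN⟩
    obtain ⟨x₀, hx₀def⟩ : ∃ x₀ : F, x₀ = c * u := ⟨_, rfl⟩
    obtain ⟨e₀, he₀def⟩ : ∃ e₀ : F, e₀ = d + szθ F m c * (δ * x₀) := ⟨_, rfl⟩
    obtain ⟨y₀, hy₀def⟩ : ∃ y₀ : F, y₀ = e₀ * v := ⟨_, rfl⟩
    have hx₀ : (δ : F) * x₀ + c = x₀ := by
      rw [hx₀def]
      linear_combination c * hu + (c - c * u) * hθ.h2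
    have hy₀ : szθ F m δ * δ * y₀ + d + szθ F m c * (δ * x₀) = y₀ := by
      rw [hy₀def]
      linear_combination e₀ * hv + (e₀ - e₀ * v) * hθ.h2 - he₀def
    have hfix : (g : Matrix.SpecialLinearGroup (Fin 4) F) • szPt F m x₀ y₀ = szPt F m x₀ y₀ := by
      have hdec' : (g : Matrix.SpecialLinearGroup (Fin 4) F) = szT F m c d * szD F m δ :=
        congrArg Subtype.val hdec
      rw [hdec', mul_smul, szD_pt hF, szT_pt hF, hx₀, hy₀]
    obtain ⟨k, hk, hk1, hk2⟩ := sz_norm hF (sz_inf_mem (F := F) (m := m)) (szPt_mem x₀ y₀)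
      (fun h => szPt_ne_inf x₀ y₀ h.symm)
    have h1 : (k * (g : Matrix.SpecialLinearGroup (Fin 4) F) * k⁻¹) •
        Cfsg.suzukiPointInfinity F = Cfsg.suzukiPointInfinity F := by
      rw [mul_smul, mul_smul, ← hk1, inv_smul_smul, hg]
    have h2 : (k * (g : Matrix.SpecialLinearGroup (Fin 4) F) * k⁻¹) •
        Cfsg.suzukiPointZero F = Cfsg.suzukiPointZero F := by
      rw [mul_smul, mul_smul, ← hk2, inv_smul_smul, hfix]
    obtain ⟨δ', hδ'⟩ := sz_two_pt hm hF (mul_mem (mul_mem hk g.2) (inv_mem hk)) h1 h2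
    obtain ⟨K, hK⟩ : ∃ K : ↥(Cfsg.Sz F m), (K : Matrix.SpecialLinearGroup (Fin 4) F) = k :=
      ⟨⟨k, hk⟩, rfl⟩
    have hconj : K * g * K⁻¹ = szDG hF δ' := by
      apply Subtype.ext
      show (K : Matrix.SpecialLinearGroup (Fin 4) F) * (g : Matrix.SpecialLinearGroup (Fin 4) F) *
        (K : Matrix.SpecialLinearGroup (Fin 4) F)⁻¹ = szD F m δ'
      rw [hK]
      exact hδ'
    have hδ'1 : δ' ≠ 1 := by
      intro h
      apply hg1
      have e : g = K⁻¹ * (K * g * K⁻¹) * K := by group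
      rw [e, hconj, h, szDG_one]
      group
    apply szCN_conj g K
    rw [hconj]
    exact szCN_torus hm hF δ' hδ'1

theorem szCN_fix (hm : 1 ≤ m) (hF : Fintype.card F = 2 ^ (2 * m + 1))
    (g : ↥(Cfsg.Sz F m)) (hg1 : g ≠ 1) (p : Projectivization F (Fin 4 → F))
    (hp : p ∈ Cfsg.suzukiOvoid F m)
    (hg : (g : Matrix.SpecialLinearGroup (Fin 4) F) • p = p) : szCN g := by
  have hp' : p ∈ MulAction.orbit (Cfsg.Sz F m) (Cfsg.suzukiPointInfinity F) := by
    rw [sz_orbit_inf hF]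
    exact hp
  obtain ⟨K, hK⟩ := hp'
  have hK' : (K : Matrix.SpecialLinearGroup (Fin 4) F) • Cfsg.suzukiPointInfinity F = p := hK
  apply szCN_conj g K⁻¹
  apply szCN_borel hm hF
  · intro h
    apply hg1
    have e : g = K * (K⁻¹ * g * K⁻¹⁻¹) * K⁻¹ := by group
    rw [e, h]
    group
  · show ((K : Matrix.SpecialLinearGroup (Fin 4) F)⁻¹ *
      (g : Matrix.SpecialLinearGroup (Fin 4) F) *
      (K : Matrix.SpecialLinearGroup (Fin 4) F)⁻¹⁻¹) • _ = _
    rw [inv_inv, mul_smul, mul_smul, hK', hg, ← hK', inv_smul_smul]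

theorem szCN_nofix (hm : 1 ≤ m) (hF : Fintype.card F = 2 ^ (2 * m + 1))
    (g : ↥(Cfsg.Sz F m)) (hg1 : g ≠ 1)
    (hg : ∀ p ∈ Cfsg.suzukiOvoid F m, (g : Matrix.SpecialLinearGroup (Fin 4) F) • p ≠ p) :
    szCN g := by
  left
  -- every nonidentity power of g is fixed point free
  have hpow : ∀ x : ↥(Cfsg.Sz F m), g * x = x * g → x ≠ 1 → ∀ p ∈ Cfsg.suzukiOvoid F m,
      (x : Matrix.SpecialLinearGroup (Fin 4) F) • p ≠ p := by
    intro x hcomm hn p hp hfix
    have hcomm' : (g : Matrix.SpecialLinearGroup (Fin 4) F) *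
        (x : Matrix.SpecialLinearGroup (Fin 4) F) =
        (x : Matrix.SpecialLinearGroup (Fin 4) F) * (g : Matrix.SpecialLinearGroup (Fin 4) F) :=
      congrArg Subtype.val hcomm
    have hgp : (x : Matrix.SpecialLinearGroup (Fin 4) F) •
        ((g : Matrix.SpecialLinearGroup (Fin 4) F) • p) =
        (g : Matrix.SpecialLinearGroup (Fin 4) F) • p := by
      rw [← mul_smul, ← hcomm', mul_smul, hfix]
    obtain ⟨k, hk, hk1, hk2⟩ := sz_norm hF hp (sz_smul_mem g.2 hp) (fun h => hg p hp h.symm)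
    have h1 : (k * (x : Matrix.SpecialLinearGroup (Fin 4) F) * k⁻¹) •
        Cfsg.suzukiPointInfinity F = Cfsg.suzukiPointInfinity F := by
      rw [mul_smul, mul_smul, ← hk1, inv_smul_smul, hfix]
    have h2 : (k * (x : Matrix.SpecialLinearGroup (Fin 4) F) * k⁻¹) •
        Cfsg.suzukiPointZero F = Cfsg.suzukiPointZero F := by
      rw [mul_smul, mul_smul, ← hk2, inv_smul_smul, hgp]
    obtain ⟨δ, hδ⟩ := sz_two_pt hm hF (mul_mem (mul_mem hk x.2) (inv_mem hk)) h1 h2
    obtain ⟨K, hK⟩ : ∃ K : ↥(Cfsg.Sz F m), (K : Matrix.SpecialLinearGroup (Fin 4) F) = k :=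
      ⟨⟨k, hk⟩, rfl⟩
    have hconj : K * x * K⁻¹ = szDG hF δ := by
      apply Subtype.ext
      show (K : Matrix.SpecialLinearGroup (Fin 4) F) * (x : Matrix.SpecialLinearGroup (Fin 4) F) *
        (K : Matrix.SpecialLinearGroup (Fin 4) F)⁻¹ = szD F m δ
      rw [hK]
      exact hδ
    have hδ1 : δ ≠ 1 := by
      intro h
      apply hn
      have e : x = K⁻¹ * (K * x * K⁻¹) * K := by group
      rw [e, hconj, h, szDG_one]
      group
    have hcomm2 : (K * g * K⁻¹) * szDG hF δ = szDG hF δ * (K * g * K⁻¹) := by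
      rw [← hconj]
      have e1 : K * g * K⁻¹ * (K * x * K⁻¹) = K * (g * x) * K⁻¹ := by group
      have e2 : K * x * K⁻¹ * (K * g * K⁻¹) = K * (x * g) * K⁻¹ := by group
      rw [e1, e2, hcomm]
    obtain ⟨ε, hε⟩ := sz_cent_torus hm hF δ hδ1 _ hcomm2
    have h3 : (k * (g : Matrix.SpecialLinearGroup (Fin 4) F) * k⁻¹) •
        Cfsg.suzukiPointInfinity F = Cfsg.suzukiPointZero F := by
      rw [mul_smul, mul_smul, ← hk1, inv_smul_smul, hk2]
    have h4 : (k * (g : Matrix.SpecialLinearGroup (Fin 4) F) * k⁻¹) = szD F m ε := by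
      rw [← hK]
      exact congrArg Subtype.val hε
    rw [h4, szD_inf] at h3
    exact szPt_ne_inf 0 0 ((szPt_zero hF).trans h3.symm)
  -- a power of prime order
  have hord : orderOf g ≠ 1 := fun h => hg1 (orderOf_eq_one_iff.mp h)
  have hpos : 0 < orderOf g := orderOf_pos g
  obtain ⟨p, hp, hpd⟩ := Nat.exists_prime_and_dvd hord
  haveI : Fact p.Prime := ⟨hp⟩
  obtain ⟨x, hx⟩ : ∃ x : ↥(Cfsg.Sz F m), x = g ^ (orderOf g / p) := ⟨_, rfl⟩
  have hxo : orderOf x = p := by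
    rw [hx]
    exact orderOf_pow_orderOf_div hpos.ne' hpd
  have hx1 : x ≠ 1 := by
    intro h
    rw [h, orderOf_one] at hxo
    exact hp.one_lt.ne hxo
  have hxp : x ^ p = 1 := by
    rw [← hxo]
    exact pow_orderOf_eq_one x
  have hgx : g * x = x * g := by rw [hx, ← pow_succ', ← pow_succ]
  have hxfix := hpow x hgx hx1
  have hdvd : p ∣ (2 ^ (2 * m + 1)) ^ 2 + 1 := by
    have hPG : IsPGroup p ↥(Subgroup.zpowers x) :=
      IsPGroup.of_card (n := 1) (by rw [Nat.card_zpowers, hxo, pow_one])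
    have hcong := hPG.card_modEq_card_fixedPoints ↥(Cfsg.suzukiOvoid F m)
    have hempty : IsEmpty ↥(MulAction.fixedPoints ↥(Subgroup.zpowers x)
        ↥(Cfsg.suzukiOvoid F m)) := by
      constructor
      rintro ⟨a, ha⟩
      have h := ha ⟨x, Subgroup.mem_zpowers x⟩
      exact hxfix a.1 a.2 (congrArg Subtype.val h)
    rw [sz_ovoid_card hF, Nat.card_eq_zero.mpr (Or.inl hempty)] at hcong
    exact (Nat.modEq_zero_iff_dvd).mp hcong
  have hp2 : p ≠ 2 := by
    intro h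
    rw [h] at hdvd
    have e : (2 ^ (2 * m + 1)) ^ 2 + 1 = 2 * (2 ^ (2 * m) * 2 ^ (2 * m + 1)) + 1 := by ring
    rw [e] at hdvd
    omega
  obtain ⟨hpF, hord4⟩ := sz_lin_hyp hF hp2 hdvd
  have hX : (((x : Matrix.SpecialLinearGroup (Fin 4) F)) : Matrix (Fin 4) (Fin 4) F) ^ p = 1 := by
    have h := congrArg (fun z : ↥(Cfsg.Sz F m) =>
      ((z : Matrix.SpecialLinearGroup (Fin 4) F) : Matrix (Fin 4) (Fin 4) F)) hxp
    simpa using h
  have hX1 : (((x : Matrix.SpecialLinearGroup (Fin 4) F)) : Matrix (Fin 4) (Fin 4) F) ≠ 1 := by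
    intro h
    exact hx1 (Subtype.ext (Subtype.ext h))
  intro y z hy hz
  have hyx : y * x = x * y := by
    rw [hx]
    exact (Commute.pow_right (show Commute y g from hy) _).eq
  have hzx : z * x = x * z := by
    rw [hx]
    exact (Commute.pow_right (show Commute z g from hz) _).eq
  have hfin := lin_comm hX hX1 hpF hord4
    (y := ((y : Matrix.SpecialLinearGroup (Fin 4) F) : Matrix (Fin 4) (Fin 4) F))
    (z := ((z : Matrix.SpecialLinearGroup (Fin 4) F) : Matrix (Fin 4) (Fin 4) F))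
    (congrArg (fun t : ↥(Cfsg.Sz F m) =>
      ((t : Matrix.SpecialLinearGroup (Fin 4) F) : Matrix (Fin 4) (Fin 4) F)) hyx)
    (congrArg (fun t : ↥(Cfsg.Sz F m) =>
      ((t : Matrix.SpecialLinearGroup (Fin 4) F) : Matrix (Fin 4) (Fin 4) F)) hzx)
  exact Subtype.ext (Subtype.ext hfin)

theorem sz_cn (hm : 1 ≤ m) (hF : Fintype.card F = 2 ^ (2 * m + 1)) :
    Cfsg.IsCNGroup ↥(Cfsg.Sz F m) := by
  intro g hg1
  apply szCN_nilpotent
  by_cases h : ∃ p ∈ Cfsg.suzukiOvoid F m, (g : Matrix.SpecialLinearGroup (Fin 4) F) • p = p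
  · obtain ⟨p, hp, hfix⟩ := h
    exact szCN_fix hm hF g hg1 p hp hfix
  · push_neg at h
    exact szCN_nofix hm hF g hg1 h

/-! The Sylow subgroups for odd primes. -/

theorem sz_cyc_two (hm : 1 ≤ m) (hF : Fintype.card F = 2 ^ (2 * m + 1))
    (P : Subgroup ↥(Cfsg.Sz F m)) (a b : ↥(Cfsg.suzukiOvoid F m)) (hab : a ≠ b)
    (ha : ∀ y ∈ P, y • a = a) (hb : ∀ y ∈ P, y • b = b) : IsCyclic ↥P := by
  obtain ⟨k, hka, hkb⟩ := sz_normΩ hF a b hab
  obtain ⟨e⟩ := sz_two_pt_equiv hm hF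
  have hmem : ∀ y : ↥P, k * (y : ↥(Cfsg.Sz F m)) * k⁻¹ ∈
      MulAction.stabilizer (Cfsg.Sz F m) (Cfsg.suzukiPointInfinity F) ⊓
        MulAction.stabilizer (Cfsg.Sz F m) (Cfsg.suzukiPointZero F) := by
    intro y
    have h1 : (k * (y : ↥(Cfsg.Sz F m)) * k⁻¹) • szInfΩ F m = szInfΩ F m := by
      rw [mul_smul, mul_smul, ← hka, inv_smul_smul, ha y y.2]
    have h2 : (k * (y : ↥(Cfsg.Sz F m)) * k⁻¹) • szZeroΩ hF = szZeroΩ hF := by
      rw [mul_smul, mul_smul, ← hkb, inv_smul_smul, hb y y.2]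
    exact Subgroup.mem_inf.mpr ⟨MulAction.mem_stabilizer_iff.mpr (congrArg Subtype.val h1),
      MulAction.mem_stabilizer_iff.mpr (congrArg Subtype.val h2)⟩
  let ψ : ↥P →* ↥(MulAction.stabilizer (Cfsg.Sz F m) (Cfsg.suzukiPointInfinity F) ⊓
        MulAction.stabilizer (Cfsg.Sz F m) (Cfsg.suzukiPointZero F)) :=
    { toFun := fun y => ⟨k * (y : ↥(Cfsg.Sz F m)) * k⁻¹, hmem y⟩
      map_one' := Subtype.ext (by
        show k * ((1 : ↥P) : ↥(Cfsg.Sz F m)) * k⁻¹ = 1
        rw [Subgroup.coe_one, mul_one, mul_inv_cancel])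
      map_mul' := fun y z => Subtype.ext (by
        show k * ((y * z : ↥P) : ↥(Cfsg.Sz F m)) * k⁻¹ =
          (k * (y : ↥(Cfsg.Sz F m)) * k⁻¹) * (k * (z : ↥(Cfsg.Sz F m)) * k⁻¹)
        rw [Subgroup.coe_mul]
        group) }
  have hψ : Function.Injective ψ := by
    intro y z hyz
    have h' : k * (y : ↥(Cfsg.Sz F m)) * k⁻¹ = k * (z : ↥(Cfsg.Sz F m)) * k⁻¹ :=
      congrArg Subtype.val hyz
    apply Subtype.ext
    exact mul_left_cancel (mul_right_cancel h')
  exact isCyclic_of_injective (e.toMonoidHom.comp ψ) (e.injective.comp hψ)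

theorem sz_cyc_irr (hm : 1 ≤ m) (hF : Fintype.card F = 2 ^ (2 * m + 1)) {p : ℕ}
    [Fact p.Prime] (hp2 : p ≠ 2) (hdvd : p ∣ (2 ^ (2 * m + 1)) ^ 2 + 1)
    (P : Subgroup ↥(Cfsg.Sz F m)) (x : ↥(Cfsg.Sz F m)) (hx : x ^ p = 1) (hx1 : x ≠ 1)
    (hc : ∀ y ∈ P, y * x = x * y) : IsCyclic ↥P := by
  obtain ⟨hpF, hord4⟩ := sz_lin_hyp hF hp2 hdvd
  have hX : (((x : Matrix.SpecialLinearGroup (Fin 4) F)) : Matrix (Fin 4) (Fin 4) F) ^ p = 1 := by
    have h := congrArg (fun z : ↥(Cfsg.Sz F m) =>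
      ((z : Matrix.SpecialLinearGroup (Fin 4) F) : Matrix (Fin 4) (Fin 4) F)) hx
    simpa using h
  have hX1 : (((x : Matrix.SpecialLinearGroup (Fin 4) F)) : Matrix (Fin 4) (Fin 4) F) ≠ 1 := by
    intro h
    exact hx1 (Subtype.ext (Subtype.ext h))
  let φ : ↥P →* Matrix (Fin 4) (Fin 4) F :=
    { toFun := fun y => (((y : ↥(Cfsg.Sz F m)) : Matrix.SpecialLinearGroup (Fin 4) F) :
        Matrix (Fin 4) (Fin 4) F)
      map_one' := rfl
      map_mul' := fun _ _ => rfl }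
  have hφ : Function.Injective φ := by
    intro y z hyz
    exact Subtype.ext (Subtype.ext (Subtype.ext hyz))
  exact lin_cyclic hX hX1 hpF hord4 φ hφ (fun y =>
    congrArg (fun t : ↥(Cfsg.Sz F m) =>
      ((t : Matrix.SpecialLinearGroup (Fin 4) F) : Matrix (Fin 4) (Fin 4) F)) (hc y y.2))

theorem sz_sylow_odd_cyclic (hm : 1 ≤ m) (hF : Fintype.card F = 2 ^ (2 * m + 1)) {p : ℕ}
    [Fact p.Prime] (hp : p ≠ 2) (P : Sylow p ↥(Cfsg.Sz F m)) :
    IsCyclic ↥(P : Subgroup ↥(Cfsg.Sz F m)) := by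
  classical
  have hcong := P.isPGroup'.card_modEq_card_fixedPoints ↥(Cfsg.suzukiOvoid F m)
  rw [sz_ovoid_card hF] at hcong
  by_cases h2 : ∃ a b : ↥(Cfsg.suzukiOvoid F m), a ≠ b ∧
      (∀ y ∈ (P : Subgroup ↥(Cfsg.Sz F m)), y • a = a) ∧
      (∀ y ∈ (P : Subgroup ↥(Cfsg.Sz F m)), y • b = b)
  · obtain ⟨a, b, hab, ha, hb⟩ := h2
    exact sz_cyc_two hm hF _ a b hab ha hb
  · have hsub : Subsingleton ↥(MulAction.fixedPoints ↥(P : Subgroup ↥(Cfsg.Sz F m))
        ↥(Cfsg.suzukiOvoid F m)) := by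
      constructor
      rintro ⟨a, ha⟩ ⟨b, hb⟩
      by_contra hne
      apply h2
      exact ⟨a, b, fun h => hne (Subtype.ext h), fun y hy => ha ⟨y, hy⟩,
        fun y hy => hb ⟨y, hy⟩⟩
    have hle : Nat.card ↥(MulAction.fixedPoints ↥(P : Subgroup ↥(Cfsg.Sz F m))
        ↥(Cfsg.suzukiOvoid F m)) ≤ 1 := Finite.card_le_one_iff_subsingleton.mpr hsub
    have hdvd : p ∣ (2 ^ (2 * m + 1)) ^ 2 + 1 := by
      rcases Nat.lt_or_ge (Nat.card ↥(MulAction.fixedPoints ↥(P : Subgroup ↥(Cfsg.Sz F m))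
        ↥(Cfsg.suzukiOvoid F m))) 1 with h0 | h1
      · have h0' : Nat.card ↥(MulAction.fixedPoints ↥(P : Subgroup ↥(Cfsg.Sz F m))
            ↥(Cfsg.suzukiOvoid F m)) = 0 := by omega
        rw [h0'] at hcong
        exact (Nat.modEq_zero_iff_dvd).mp hcong
      · exfalso
        have h1' : Nat.card ↥(MulAction.fixedPoints ↥(P : Subgroup ↥(Cfsg.Sz F m))
            ↥(Cfsg.suzukiOvoid F m)) = 1 := by omega
        rw [h1'] at hcong
        have hd : p ∣ (2 ^ (2 * m + 1)) ^ 2 := by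
          have hd' := (Nat.modEq_iff_dvd' (Nat.le_add_left 1 _)).mp hcong.symm
          rwa [Nat.add_sub_cancel] at hd'
        have hd2 := (Fact.out : p.Prime).dvd_of_dvd_pow hd
        have hd3 := (Fact.out : p.Prime).dvd_of_dvd_pow hd2
        exact hp ((Nat.prime_dvd_prime_iff_eq Fact.out Nat.prime_two).mp hd3)
    by_cases htriv : ∀ y ∈ (P : Subgroup ↥(Cfsg.Sz F m)), y = 1
    · exfalso
      apply h2
      exact ⟨szInfΩ F m, szZeroΩ hF, sz_inf_ne_zero hF,
        fun y hy => by rw [htriv y hy, one_smul], fun y hy => by rw [htriv y hy, one_smul]⟩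
    · push_neg at htriv
      obtain ⟨y₁, hy₁, hy₁1⟩ := htriv
      haveI : Nontrivial ↥(P : Subgroup ↥(Cfsg.Sz F m)) :=
        ⟨⟨⟨y₁, hy₁⟩, 1, fun h => hy₁1 (congrArg Subtype.val h)⟩⟩
      haveI hZnt : Nontrivial ↥(Subgroup.center ↥(P : Subgroup ↥(Cfsg.Sz F m))) :=
        P.isPGroup'.center_nontrivial
      obtain ⟨n, hn⟩ := IsPGroup.iff_card.mp
        (P.isPGroup'.to_subgroup (Subgroup.center ↥(P : Subgroup ↥(Cfsg.Sz F m))))
      have hn0 : n ≠ 0 := by
        intro h0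
        rw [h0, pow_zero] at hn
        have h1 := Finite.one_lt_card_iff_nontrivial.mpr hZnt
        omega
      have hpZ : p ∣ Nat.card ↥(Subgroup.center ↥(P : Subgroup ↥(Cfsg.Sz F m))) := by
        rw [hn]
        exact dvd_pow_self p hn0
      obtain ⟨z, hz⟩ := exists_prime_orderOf_dvd_card' p hpZ
      have hzp : z ^ p = 1 := by
        have hzz := pow_orderOf_eq_one z
        rwa [hz] at hzz
      have hz1 : z ≠ 1 := by
        intro h
        rw [h, orderOf_one] at hz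
        exact (Fact.out : p.Prime).one_lt.ne hz
      apply sz_cyc_irr hm hF hp hdvd _ ((z : ↥(P : Subgroup ↥(Cfsg.Sz F m))) : ↥(Cfsg.Sz F m))
      · have h := congrArg (fun t : ↥(Subgroup.center ↥(P : Subgroup ↥(Cfsg.Sz F m))) =>
          ((t : ↥(P : Subgroup ↥(Cfsg.Sz F m))) : ↥(Cfsg.Sz F m))) hzp
        simpa using h
      · intro h
        apply hz1
        apply Subtype.ext
        apply Subtype.ext
        exact h
      · intro y hy
        have h := (Subgroup.mem_center_iff.mp z.2) ⟨y, hy⟩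
        exact congrArg Subtype.val h

end SzCyc

end Cfsg.Agent.Helper22
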