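import Cfsg.Agent.Helper22.SzHall

set_option autoImplicit false
set_option linter.style.haveILetI false
set_option linter.unusedSectionVars false
set_option linter.unusedSimpArgs false
set_option linter.unusedVariables false
set_option linter.unusedTactic false
set_option maxHeartbeats 1000000

open Cfsg
open Matrix
open scoped Pointwise

namespace Cfsg.Agent.Helper22

section FxGen

/-- The nonidentity elements of the conjugates of `A` under `H`. -/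
def fxConj {G : Type*} [Group G] (H A : Subgroup G) : Set G :=
  {z : G | ∃ h ∈ H, ∃ y ∈ A, y ≠ 1 ∧ h * y * h⁻¹ = z}

theorem fx_card_ne_one {G : Type*} [Group G] [Finite G] (A : Subgroup G) :
    Nat.card {y : ↥A // y ≠ 1} = Nat.card ↥A - 1 := by
  have e : {y : ↥A | y ≠ 1} = Set.univ \ {1} := by
    ext y
    simp
  have h0 : Nat.card {y : ↥A // y ≠ 1} = ({y : ↥A | y ≠ 1}).ncard := Nat.card_coe_set_eq _
  rw [h0, e, Set.ncard_sdiff_singleton_of_mem (Set.mem_univ _), Set.ncard_univ]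

theorem fx_conj_sec {G : Type*} [Group G] (H A : Subgroup G) :
    ∀ z : G, ∃ r : G, z ∈ fxConj H A → (r ∈ H ∧ r⁻¹ * z * r ∈ A ∧ r⁻¹ * z * r ≠ 1) := by
  intro z
  by_cases hz : z ∈ fxConj H A
  · obtain ⟨h, hh, y, hy, hy1, rfl⟩ := hz
    have e : h⁻¹ * (h * y * h⁻¹) * h = y := by group
    exact ⟨h, fun _ => ⟨hh, by rw [e]; exact hy, by rw [e]; exact hy1⟩⟩
  · exact ⟨1, fun h' => absurd h' hz⟩

theorem fx_ti_lb {G : Type*} [Group G] [Finite G] (H A : Subgroup G)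
    (hA : ∀ h ∈ H, ∀ y ∈ A, y ≠ 1 → h * y * h⁻¹ ∈ A → h ∈ A) :
    Nat.card ↥H * (Nat.card ↥A - 1) ≤ (fxConj H A).ncard * Nat.card ↥A := by
  classical
  choose r hr using fx_conj_sec H A
  have hP : ∀ x : ↥H × {y : ↥A // y ≠ 1},
      (x.1 : G) * ((x.2.1 : ↥A) : G) * (x.1 : G)⁻¹ ∈ fxConj H A :=
    fun x => ⟨x.1.1, x.1.2, x.2.1.1, x.2.1.2, fun h => x.2.2 (Subtype.ext h), rfl⟩
  have hmem : ∀ x : ↥H × {y : ↥A // y ≠ 1},
      (r ((x.1 : G) * ((x.2.1 : ↥A) : G) * (x.1 : G)⁻¹))⁻¹ * (x.1 : G) ∈ A := by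
    intro x
    obtain ⟨h1, h2, h3⟩ := hr _ (hP x)
    apply hA _ (H.mul_mem (H.inv_mem h1) x.1.2) ((x.2.1 : ↥A) : G) x.2.1.2
      (fun h => x.2.2 (Subtype.ext h))
    have e : ∀ ρ a y : G, ρ⁻¹ * a * y * (ρ⁻¹ * a)⁻¹ = ρ⁻¹ * (a * y * a⁻¹) * ρ := by
      intro ρ a y
      group
    rw [e]
    exact h2
  let f : ↥H × {y : ↥A // y ≠ 1} → ↥(fxConj H A) × ↥A :=
    fun x => (⟨(x.1 : G) * ((x.2.1 : ↥A) : G) * (x.1 : G)⁻¹, hP x⟩,
      ⟨(r ((x.1 : G) * ((x.2.1 : ↥A) : G) * (x.1 : G)⁻¹))⁻¹ * (x.1 : G), hmem x⟩)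
  have hf : Function.Injective f := by
    intro x x' h
    have h1 : (x.1 : G) * ((x.2.1 : ↥A) : G) * (x.1 : G)⁻¹ =
        (x'.1 : G) * ((x'.2.1 : ↥A) : G) * (x'.1 : G)⁻¹ :=
      congrArg (fun t : ↥(fxConj H A) × ↥A => (t.1 : G)) h
    have h2 : (r ((x.1 : G) * ((x.2.1 : ↥A) : G) * (x.1 : G)⁻¹))⁻¹ * (x.1 : G) =
        (r ((x'.1 : G) * ((x'.2.1 : ↥A) : G) * (x'.1 : G)⁻¹))⁻¹ * (x'.1 : G) :=
      congrArg (fun t : ↥(fxConj H A) × ↥A => (t.2 : G)) h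
    rw [h1] at h2
    have h3 : (x.1 : G) = (x'.1 : G) := mul_left_cancel h2
    rw [h3] at h1
    have h4 : ((x.2.1 : ↥A) : G) = ((x'.2.1 : ↥A) : G) :=
      mul_left_cancel (mul_right_cancel h1)
    exact Prod.ext (Subtype.ext h3) (Subtype.ext (Subtype.ext h4))
  have h := Nat.card_le_card_of_injective f hf
  rw [Nat.card_prod, Nat.card_prod, fx_card_ne_one, Nat.card_coe_set_eq (fxConj H A)] at h
  exact h

theorem fx_ti_ub {G : Type*} [Group G] [Finite G] (H A : Subgroup G) (hAH : A ≤ H) :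
    (fxConj H A).ncard * Nat.card ↥A ≤ Nat.card ↥H * (Nat.card ↥A - 1) := by
  classical
  choose r hr using fx_conj_sec H A
  have hm1 : ∀ x : ↥(fxConj H A) × ↥A, r (x.1 : G) * (x.2 : G) ∈ H :=
    fun x => H.mul_mem (hr _ x.1.2).1 (hAH x.2.2)
  have hm2 : ∀ x : ↥(fxConj H A) × ↥A,
      (x.2 : G)⁻¹ * ((r (x.1 : G))⁻¹ * (x.1 : G) * r (x.1 : G)) * (x.2 : G) ∈ A :=
    fun x => A.mul_mem (A.mul_mem (A.inv_mem x.2.2) (hr _ x.1.2).2.1) x.2.2
  have hm3 : ∀ x : ↥(fxConj H A) × ↥A,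
      (⟨(x.2 : G)⁻¹ * ((r (x.1 : G))⁻¹ * (x.1 : G) * r (x.1 : G)) * (x.2 : G), hm2 x⟩ : ↥A)
        ≠ 1 := by
    intro x h
    have h' : (x.2 : G)⁻¹ * ((r (x.1 : G))⁻¹ * (x.1 : G) * r (x.1 : G)) * (x.2 : G) = 1 :=
      congrArg Subtype.val h
    apply (hr _ x.1.2).2.2
    have e : ∀ a w : G, w = a * (a⁻¹ * w * a) * a⁻¹ := by
      intro a w
      group
    rw [e (x.2 : G) ((r (x.1 : G))⁻¹ * (x.1 : G) * r (x.1 : G)), h']
    group
  let f : ↥(fxConj H A) × ↥A → ↥H × {y : ↥A // y ≠ 1} :=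
    fun x => (⟨r (x.1 : G) * (x.2 : G), hm1 x⟩, ⟨⟨_, hm2 x⟩, hm3 x⟩)
  have hf : Function.Injective f := by
    intro x x' h
    have h1 : r (x.1 : G) * (x.2 : G) = r (x'.1 : G) * (x'.2 : G) :=
      congrArg (fun t : ↥H × {y : ↥A // y ≠ 1} => (t.1 : G)) h
    have h2 : (x.2 : G)⁻¹ * ((r (x.1 : G))⁻¹ * (x.1 : G) * r (x.1 : G)) * (x.2 : G) =
        (x'.2 : G)⁻¹ * ((r (x'.1 : G))⁻¹ * (x'.1 : G) * r (x'.1 : G)) * (x'.2 : G) :=
      congrArg (fun t : ↥H × {y : ↥A // y ≠ 1} => ((t.2 : ↥A) : G)) h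
    have e : ∀ z ρ a : G, z = (ρ * a) * (a⁻¹ * (ρ⁻¹ * z * ρ) * a) * (ρ * a)⁻¹ := by
      intro z ρ a
      group
    have h3 : (x.1 : G) = (x'.1 : G) := by
      calc (x.1 : G) = (r (x.1 : G) * (x.2 : G)) *
            ((x.2 : G)⁻¹ * ((r (x.1 : G))⁻¹ * (x.1 : G) * r (x.1 : G)) * (x.2 : G)) *
            (r (x.1 : G) * (x.2 : G))⁻¹ := e _ _ _
        _ = (r (x'.1 : G) * (x'.2 : G)) *
            ((x'.2 : G)⁻¹ * ((r (x'.1 : G))⁻¹ * (x'.1 : G) * r (x'.1 : G)) * (x'.2 : G)) *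
            (r (x'.1 : G) * (x'.2 : G))⁻¹ := by rw [h1, h2]
        _ = (x'.1 : G) := (e _ _ _).symm
    rw [h3] at h1
    have h4 : (x.2 : G) = (x'.2 : G) := mul_left_cancel h1
    exact Prod.ext (Subtype.ext h3) (Subtype.ext h4)
  have h := Nat.card_le_card_of_injective f hf
  rw [Nat.card_prod, Nat.card_prod, fx_card_ne_one, Nat.card_coe_set_eq (fxConj H A)] at h
  exact h

theorem fx_conj_sub {G : Type*} [Group G] (H A : Subgroup G) (hAH : A ≤ H) :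
    fxConj H A ⊆ (H : Set G) \ {1} := by
  rintro z ⟨h, hh, y, hy, hy1, rfl⟩
  refine ⟨H.mul_mem (H.mul_mem hh (hAH hy)) (H.inv_mem hh), ?_⟩
  intro h1
  apply hy1
  have h1' : h * y * h⁻¹ = 1 := h1
  have e : y = h⁻¹ * (h * y * h⁻¹) * h := by group
  rw [e, h1']
  group

theorem fx_ti_two {G : Type*} [Group G] [Finite G] (H A B : Subgroup G) (hAH : A ≤ H)
    (hBH : B ≤ H)
    (hA : ∀ h ∈ H, ∀ y ∈ A, y ≠ 1 → h * y * h⁻¹ ∈ A → h ∈ A)
    (hB : ∀ h ∈ H, ∀ y ∈ B, y ≠ 1 → h * y * h⁻¹ ∈ B → h ∈ B)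
    (hdisj : Disjoint (fxConj H A) (fxConj H B))
    (hA3 : 3 ≤ Nat.card ↥A) (hB3 : 3 ≤ Nat.card ↥B) : False := by
  have h1 := fx_ti_lb H A hA
  have h2 := fx_ti_lb H B hB
  have hsub : fxConj H A ∪ fxConj H B ⊆ (H : Set G) \ {1} :=
    Set.union_subset (fx_conj_sub H A hAH) (fx_conj_sub H B hBH)
  have hcard := Set.ncard_le_ncard hsub (Set.toFinite _)
  rw [Set.ncard_union_eq hdisj (Set.toFinite _) (Set.toFinite _),
    Set.ncard_sdiff_singleton_of_mem (show (1 : G) ∈ (H : Set G) from H.one_mem)] at hcard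
  have hH : (H : Set G).ncard = Nat.card ↥H := (Nat.card_coe_set_eq (H : Set G)).symm
  rw [hH] at hcard
  have hpos : 0 < Nat.card ↥H := Nat.card_pos
  have k : ∀ (n a s : ℕ), 3 ≤ a → n * (a - 1) ≤ s * a → 2 * n ≤ 3 * s := by
    intro n a s ha h
    have e1 : 2 * a ≤ 3 * (a - 1) := by omega
    have e2 : (2 * n) * a ≤ (3 * s) * a := by
      calc (2 * n) * a = n * (2 * a) := by ring
        _ ≤ n * (3 * (a - 1)) := Nat.mul_le_mul_left _ e1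
        _ = 3 * (n * (a - 1)) := by ring
        _ ≤ 3 * (s * a) := Nat.mul_le_mul_left _ h
        _ = (3 * s) * a := by ring
    exact Nat.le_of_mul_le_mul_right e2 (by omega)
  have k1 := k _ _ _ hA3 h1
  have k2 := k _ _ _ hB3 h2
  omega

theorem fx_caseA_aux {G : Type*} [Group G] [Finite G] (H A : Subgroup G) (hAH : A ≤ H)
    (hA3 : 3 ≤ Nat.card ↥A)
    (hAc : ∀ y ∈ A, y ≠ 1 → Subgroup.centralizer ({y} : Set G) = A)
    (hNA : ∀ h ∈ H, ∀ y ∈ A, y ≠ 1 → h * y * h⁻¹ ∈ A → h ∈ A)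
    (htor : ∀ x ∈ H, x ≠ 1 → 3 ≤ Nat.card ↥(Subgroup.centralizer ({x} : Set G)) ∧
      Subgroup.centralizer ({x} : Set G) ≤ H ∧
      (∀ y ∈ Subgroup.centralizer ({x} : Set G), y ≠ 1 →
        Subgroup.centralizer ({y} : Set G) = Subgroup.centralizer ({x} : Set G)) ∧
      (∀ h ∈ H, ∀ y ∈ Subgroup.centralizer ({x} : Set G), y ≠ 1 →
        h * y * h⁻¹ ∈ Subgroup.centralizer ({x} : Set G) →
        h ∈ Subgroup.centralizer ({x} : Set G))) :
    H ≤ A := by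
  by_contra hnot
  obtain ⟨x₀, hx₀H, hx₀A⟩ := SetLike.not_le_iff_exists.mp hnot
  have ub := fx_ti_ub H A hAH
  obtain ⟨k, hk⟩ := Subgroup.card_dvd_of_le hAH
  have hk2 : 2 ≤ k := by
    by_contra hk'
    have hle : Nat.card ↥H ≤ Nat.card ↥A := by
      rw [hk]
      have hk1 : k ≤ 1 := by omega
      calc Nat.card ↥A * k ≤ Nat.card ↥A * 1 := Nat.mul_le_mul_left _ hk1
        _ = Nat.card ↥A := mul_one _
    have heq := Subgroup.eq_of_le_of_card_ge hAH hle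
    apply hx₀A
    rw [heq]
    exact hx₀H
  have hlt : (fxConj H A).ncard < ((H : Set G) \ {1}).ncard := by
    rw [Set.ncard_sdiff_singleton_of_mem (show (1 : G) ∈ (H : Set G) from H.one_mem)]
    have hH : (H : Set G).ncard = Nat.card ↥H := (Nat.card_coe_set_eq (H : Set G)).symm
    rw [hH, hk]
    rw [hk] at ub
    have h1' : (fxConj H A).ncard * Nat.card ↥A ≤ (k * (Nat.card ↥A - 1)) * Nat.card ↥A := by
      calc (fxConj H A).ncard * Nat.card ↥A ≤ Nat.card ↥A * k * (Nat.card ↥A - 1) := ub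
        _ = (k * (Nat.card ↥A - 1)) * Nat.card ↥A := by ring
    have h1 := Nat.le_of_mul_le_mul_right h1' (by omega)
    have h2 : k * (Nat.card ↥A - 1) + k = Nat.card ↥A * k := by
      obtain ⟨a', ha'⟩ : ∃ a', Nat.card ↥A = a' + 1 := ⟨Nat.card ↥A - 1, by omega⟩
      rw [ha', Nat.add_sub_cancel]
      ring
    omega
  obtain ⟨x', hx'H, hx'n⟩ := Set.exists_mem_notMem_of_ncard_lt_ncard hlt (Set.toFinite _)
  have hx'1 : x' ≠ 1 := hx'H.2
  obtain ⟨hB3, hBH, hBc, hNB⟩ := htor x' hx'H.1 hx'1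
  have hdisj : Disjoint (fxConj H A) (fxConj H (Subgroup.centralizer ({x'} : Set G))) := by
    rw [Set.disjoint_left]
    rintro z ⟨h, hh, y, hy, hy1, rfl⟩ ⟨h', hh', y', hy', hy1', he⟩
    apply hx'n
    have hy'eq : y' = h'⁻¹ * h * y * (h'⁻¹ * h)⁻¹ := by
      have e : y' = h'⁻¹ * (h' * y' * h'⁻¹) * h' := by group
      rw [e, he]
      group
    have c1 := hBc y' hy' hy1'
    have hx'c : x' ∈ Subgroup.centralizer ({y'} : Set G) := by
      rw [c1]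
      exact mem_cent22.mpr rfl
    have hcomm := mem_cent22.mp hx'c
    have c2 := hAc y hy hy1
    have hmemA : (h'⁻¹ * h)⁻¹ * x' * (h'⁻¹ * h) ∈ A := by
      rw [← c2]
      apply mem_cent22.mpr
      rw [hy'eq] at hcomm
      have e1 : (h'⁻¹ * h)⁻¹ * x' * (h'⁻¹ * h) * y =
          (h'⁻¹ * h)⁻¹ * (x' * (h'⁻¹ * h * y * (h'⁻¹ * h)⁻¹)) * (h'⁻¹ * h) := by group
      have e2 : y * ((h'⁻¹ * h)⁻¹ * x' * (h'⁻¹ * h)) =
          (h'⁻¹ * h)⁻¹ * (h'⁻¹ * h * y * (h'⁻¹ * h)⁻¹ * x') * (h'⁻¹ * h) := by group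
      rw [e1, e2, hcomm]
    refine ⟨h'⁻¹ * h, H.mul_mem (H.inv_mem hh') hh, _, hmemA, ?_, by group⟩
    intro h1
    apply hx'1
    have e : x' = (h'⁻¹ * h) * ((h'⁻¹ * h)⁻¹ * x' * (h'⁻¹ * h)) * (h'⁻¹ * h)⁻¹ := by group
    rw [e, h1]
    group
  exact fx_ti_two H A _ hAH hBH hNA hNB hdisj hA3 hB3

theorem fx_comm_sq {G Ω : Type*} [Group G] [MulAction G Ω]
    (hfix : ∀ g : G, g ≠ 1 → ∀ x y z : Ω, g • x = x → g • y = y → g • z = z →
      x = y ∨ x = z ∨ y = z)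
    {x c : G} {α : Ω} (hx1 : x ≠ 1) (hx : x • α = α) (hc : c * x = x * c) :
    c • α = α ∨ (c * c) • α = α := by
  have h1 : x • (c • α) = c • α := by
    rw [← mul_smul x c α, ← hc, mul_smul c x α, hx]
  have h2 : x • (c • (c • α)) = c • (c • α) := by
    rw [← mul_smul x c (c • α), ← hc, mul_smul c x (c • α), h1]
  rcases hfix x hx1 α (c • α) (c • (c • α)) hx h1 h2 with h | h | h
  · exact Or.inl h.symm
  · right
    rw [mul_smul]
    exact h.symm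
  · left
    exact (smul_left_cancel c h).symm

theorem fx_odd_in {G Ω : Type*} [Group G] [MulAction G Ω]
    (hfix : ∀ g : G, g ≠ 1 → ∀ x y z : Ω, g • x = x → g • y = y → g • z = z →
      x = y ∨ x = z ∨ y = z)
    {x c : G} {α : Ω} (hx1 : x ≠ 1) (hx : x • α = α) (hc : c * x = x * c)
    (hodd : Odd (orderOf c)) : c • α = α := by
  obtain ⟨j, hj⟩ := hodd
  have hk : c ^ (j + 1) * c ^ (j + 1) = c := by
    rw [← pow_add]
    have e : j + 1 + (j + 1) = orderOf c + 1 := by omega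
    rw [e, pow_succ, pow_orderOf_eq_one, one_mul]
  have hck : c ^ (j + 1) * x = x * c ^ (j + 1) :=
    (Commute.pow_left (show Commute c x from hc) (j + 1)).eq
  rcases fx_comm_sq hfix hx1 hx hck with h | h
  · rw [← hk, mul_smul, h, h]
  · rw [← hk]
    exact h

end FxGen

end Cfsg.Agent.Helper22
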