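import Cfsg.Agent.Helper22.SzMore
import Cfsg.Agent.S0325

set_option autoImplicit false
set_option linter.style.haveILetI false
set_option linter.unusedSectionVars false
set_option linter.unusedSimpArgs false
set_option linter.unusedVariables false
set_option linter.unusedTactic false
set_option maxHeartbeats 1000000

open Cfsg
open Matrix
open scoped Pointwise

namespace Cfsg.Agent.Helper22

theorem grp_coatom_transfer {G : Type*} [Group G] (φ : G ≃* G) (U : Subgroup G)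
    (h1 : IsCoatom (Subgroup.normalizer (U : Set G)))
    (h2 : ∀ M : Subgroup G, IsCoatom M → U ≤ M → M = Subgroup.normalizer (U : Set G)) :
    IsCoatom (Subgroup.normalizer ((U.map φ.toMonoidHom : Subgroup G) : Set G)) ∧
      ∀ M : Subgroup G, IsCoatom M → U.map φ.toMonoidHom ≤ M →
        M = Subgroup.normalizer ((U.map φ.toMonoidHom : Subgroup G) : Set G) := by
  have hco : ∀ K : Subgroup G, IsCoatom (K.map φ.toMonoidHom) ↔ IsCoatom K :=
    fun K => φ.mapSubgroup.isCoatom_iff K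
  rw [← Subgroup.map_equiv_normalizer_eq]
  refine ⟨(hco _).mpr h1, fun M hM hUM => ?_⟩
  have hMeq : (M.comap φ.toMonoidHom).map φ.toMonoidHom = M :=
    Subgroup.map_comap_eq_self_of_surjective φ.surjective M
  have h3 : IsCoatom (M.comap φ.toMonoidHom) := by
    rw [← hco, hMeq]; exact hM
  have h4 : U ≤ M.comap φ.toMonoidHom := Subgroup.map_le_iff_le_comap.mp hUM
  rw [← h2 _ h3 h4, hMeq]

section SzMax

variable {F : Type*} [Field F] [Fintype F] {m : ℕ}

theorem szU_le_szH (hF : Fintype.card F = 2 ^ (2 * m + 1)) : szU hF ≤ szH F m := by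
  rintro u ⟨⟨a, b⟩, rfl⟩
  exact szT_inf a b

theorem szU_conj_mem (hm : 1 ≤ m) (hF : Fintype.card F = 2 ^ (2 * m + 1))
    {x : ↥(Cfsg.Sz F m)} (hx : x ∈ szH F m) {u : ↥(Cfsg.Sz F m)} (hu : u ∈ szU hF) :
    x * u * x⁻¹ ∈ szU hF := by
  obtain ⟨c, d, δ, hxdec, -⟩ := sz_borel_decomp hm hF x hx
  obtain ⟨⟨a, b⟩, rfl⟩ := hu
  have hDT : szDG hF δ * szTG hF a b =
      szTG hF (δ * a) (szθ F m δ * δ * b) * szDG hF δ := Subtype.ext (szD_T hF δ a b)
  have e : x * szTG hF a b * x⁻¹ =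
      szTG hF c d * szTG hF (δ * a) (szθ F m δ * δ * b) * (szTG hF c d)⁻¹ := by
    rw [hxdec]
    have e1 : szTG hF c d * szDG hF δ * szTG hF a b * (szTG hF c d * szDG hF δ)⁻¹ =
        szTG hF c d * (szDG hF δ * szTG hF a b) * (szDG hF δ)⁻¹ * (szTG hF c d)⁻¹ := by group
    rw [e1, hDT]
    group
  show x * szTG hF a b * x⁻¹ ∈ szU hF
  rw [e]
  exact (szU hF).mul_mem ((szU hF).mul_mem ⟨(c, d), rfl⟩ ⟨(_, _), rfl⟩)
    ((szU hF).inv_mem ⟨(c, d), rfl⟩)

theorem szU_normalizer (hm : 1 ≤ m) (hF : Fintype.card F = 2 ^ (2 * m + 1)) :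
    Subgroup.normalizer ((szU hF : Subgroup ↥(Cfsg.Sz F m)) : Set ↥(Cfsg.Sz F m)) =
      szH F m := by
  ext x
  constructor
  · intro hx
    have h1 : x * szTG hF 0 1 * x⁻¹ ∈ szU hF :=
      (Subgroup.mem_normalizer_iff.mp hx (szTG hF 0 1)).mp ⟨(0, 1), rfl⟩
    obtain ⟨⟨a, b⟩, hab⟩ := h1
    have hab' : szTG hF a b = x * szTG hF 0 1 * x⁻¹ := hab
    have hne : a ≠ 0 ∨ b ≠ 0 := by
      by_contra hcon
      have ha0 : a = 0 := by
        by_contra h
        exact hcon (Or.inl h)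
      have hb0 : b = 0 := by
        by_contra h
        exact hcon (Or.inr h)
      rw [ha0, hb0, szTG_one] at hab'
      have h2 : szTG hF 0 1 = 1 := by
        calc szTG hF 0 1 = x⁻¹ * (x * szTG hF 0 1 * x⁻¹) * x := by group
          _ = x⁻¹ * 1 * x := by rw [← hab']
          _ = 1 := by group
      rw [← szTG_one hF] at h2
      exact one_ne_zero (szTG_inj hF h2).2
    show (x : Matrix.SpecialLinearGroup (Fin 4) F) • Cfsg.suzukiPointInfinity F =
      Cfsg.suzukiPointInfinity F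
    apply szT_fix' hF hne (sz_smul_mem x.2 sz_inf_mem)
    have h3 : szT F m a b = (x : Matrix.SpecialLinearGroup (Fin 4) F) * szT F m 0 1 *
        (x : Matrix.SpecialLinearGroup (Fin 4) F)⁻¹ := congrArg Subtype.val hab'
    rw [h3, mul_smul, mul_smul, inv_smul_smul, szT_inf]
  · intro hx
    rw [Subgroup.mem_normalizer_iff]
    intro u
    constructor
    · intro hu
      exact szU_conj_mem hm hF hx hu
    · intro hu
      have h1 := szU_conj_mem hm hF ((szH F m).inv_mem hx) hu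
      have e : x⁻¹ * (x * u * x⁻¹) * x⁻¹⁻¹ = u := by group
      rw [e] at h1
      exact h1

theorem szH_ne_top (hF : Fintype.card F = 2 ^ (2 * m + 1)) : szH F m ≠ ⊤ := by
  intro h
  have hW : szWG hF ∈ szH F m := by rw [h]; exact Subgroup.mem_top _
  have hW' : szW F (szθ_spec hF).h2 • Cfsg.suzukiPointInfinity F =
      Cfsg.suzukiPointInfinity F := hW
  rw [szW_inf, ← szPt_zero hF] at hW'
  exact szPt_ne_inf 0 0 hW'

theorem sz_trans_of (hF : Fintype.card F = 2 ^ (2 * m + 1))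
    (M : Subgroup ↥(Cfsg.Sz F m)) (hU : szU hF ≤ M) {g : ↥(Cfsg.Sz F m)} (hg : g ∈ M)
    (hgn : (g : Matrix.SpecialLinearGroup (Fin 4) F) • Cfsg.suzukiPointInfinity F ≠
      Cfsg.suzukiPointInfinity F)
    {p : Projectivization F (Fin 4 → F)} (hp : p ∈ Cfsg.suzukiOvoid F m) :
    ∃ k ∈ M, (k : Matrix.SpecialLinearGroup (Fin 4) F) • Cfsg.suzukiPointInfinity F = p := by
  rcases sz_mem_ovoid_iff.mp hp with rfl | ⟨c, d, rfl⟩
  · exact ⟨1, M.one_mem, one_smul _ _⟩
  · rcases sz_mem_ovoid_iff.mp (sz_smul_mem g.2 (sz_inf_mem (F := F) (m := m))) with h | ⟨c', d', h⟩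
    · exact absurd h hgn
    · refine ⟨szTG hF c d * (szTG hF c' d')⁻¹ * g,
        M.mul_mem (M.mul_mem (hU ⟨(c, d), rfl⟩) (M.inv_mem (hU ⟨(c', d'), rfl⟩))) hg, ?_⟩
      show (szT F m c d * (szT F m c' d')⁻¹ * (g : Matrix.SpecialLinearGroup (Fin 4) F)) •
        Cfsg.suzukiPointInfinity F = szPt F m c d
      rw [mul_smul, mul_smul, h, inv_smul_eq_iff.mpr (szT_zero hF c' d').symm, szT_zero hF]

theorem szH_coatom (hm : 1 ≤ m) (hF : Fintype.card F = 2 ^ (2 * m + 1)) :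
    IsCoatom (szH F m) := by
  refine ⟨szH_ne_top hF, fun M hM => ?_⟩
  obtain ⟨g, hgM, hgB⟩ := SetLike.exists_of_lt hM
  have hU : szU hF ≤ M := fun u hu => hM.le (szU_le_szH hF hu)
  rw [eq_top_iff]
  intro x _
  obtain ⟨k, hkM, hk⟩ := sz_trans_of hF M hU hgM hgB (sz_smul_mem x.2 sz_inf_mem)
  have h1 : k⁻¹ * x ∈ szH F m := by
    show ((k : Matrix.SpecialLinearGroup (Fin 4) F)⁻¹ *
      (x : Matrix.SpecialLinearGroup (Fin 4) F)) • Cfsg.suzukiPointInfinity F =
      Cfsg.suzukiPointInfinity F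
    rw [mul_smul, ← hk, inv_smul_smul]
  have e : x = k * (k⁻¹ * x) := by group
  rw [e]
  exact M.mul_mem hkM (hM.le h1)

theorem szU_max_unique (hm : 1 ≤ m) (hF : Fintype.card F = 2 ^ (2 * m + 1))
    (M : Subgroup ↥(Cfsg.Sz F m)) (hM : IsCoatom M) (hU : szU hF ≤ M) : M = szH F m := by
  haveI : IsSimpleGroup ↥(Cfsg.Sz F m) := Cfsg.Agent.S0325.result hm hF
  have hle : M ≤ szH F m := by
    by_contra hcon
    obtain ⟨g, hgM, hgB⟩ := SetLike.not_le_iff_exists.mp hcon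
    apply hM.1
    have hN : Subgroup.normalClosure ((szU hF : Subgroup ↥(Cfsg.Sz F m)) :
        Set ↥(Cfsg.Sz F m)) ≤ M := by
      refine (Subgroup.closure_le M).mpr ?_
      intro y hy
      obtain ⟨u, hu, huy⟩ := Group.mem_conjugatesOfSet_iff.mp hy
      obtain ⟨x, hx⟩ := isConj_iff.mp huy
      obtain ⟨k, hkM, hk⟩ := sz_trans_of hF M hU hgM hgB (sz_smul_mem x.2 sz_inf_mem)
      have h1 : k⁻¹ * x ∈ szH F m := by
        show ((k : Matrix.SpecialLinearGroup (Fin 4) F)⁻¹ *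
          (x : Matrix.SpecialLinearGroup (Fin 4) F)) • Cfsg.suzukiPointInfinity F =
          Cfsg.suzukiPointInfinity F
        rw [mul_smul, ← hk, inv_smul_smul]
      have h2 := szU_conj_mem hm hF h1 hu
      have e : y = k * ((k⁻¹ * x) * u * (k⁻¹ * x)⁻¹) * k⁻¹ := by
        rw [← hx]
        group
      show y ∈ M
      rw [e]
      exact M.mul_mem (M.mul_mem hkM (hU h2)) (M.inv_mem hkM)
    have hNn : (Subgroup.normalClosure ((szU hF : Subgroup ↥(Cfsg.Sz F m)) :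
        Set ↥(Cfsg.Sz F m))).Normal := Subgroup.normalClosure_normal
    rcases hNn.eq_bot_or_eq_top with h | h
    · exfalso
      have h3 : szTG hF 0 1 ∈ Subgroup.normalClosure ((szU hF : Subgroup ↥(Cfsg.Sz F m)) :
          Set ↥(Cfsg.Sz F m)) := Subgroup.subset_normalClosure ⟨(0, 1), rfl⟩
      rw [h, Subgroup.mem_bot, ← szTG_one hF] at h3
      exact one_ne_zero (szTG_inj hF h3).2
    · rw [h] at hN
      exact top_le_iff.mp hN
  by_contra hne
  have hlt : M < szH F m := lt_of_le_of_ne hle hne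
  exact szH_ne_top hF (hM.2 _ hlt)

theorem sz_sylow_max (hm : 1 ≤ m) (hF : Fintype.card F = 2 ^ (2 * m + 1))
    (P : Sylow 2 ↥(Cfsg.Sz F m)) :
    IsCoatom (Subgroup.normalizer ((P : Subgroup ↥(Cfsg.Sz F m)) : Set ↥(Cfsg.Sz F m))) ∧
    ∀ M : Subgroup ↥(Cfsg.Sz F m), IsCoatom M → (P : Subgroup ↥(Cfsg.Sz F m)) ≤ M →
      M = Subgroup.normalizer ((P : Subgroup ↥(Cfsg.Sz F m)) : Set ↥(Cfsg.Sz F m)) := by
  obtain ⟨Q, hQU, k, hk⟩ := sz_sylow_conj hm hF P
  subst hk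
  have hP : ((k • Q : Sylow 2 ↥(Cfsg.Sz F m)) : Subgroup ↥(Cfsg.Sz F m)) =
      (szU hF).map (MulAut.conj k).toMonoidHom := by
    rw [Sylow.coe_subgroup_smul, hQU]
    rfl
  rw [hP]
  have hN := szU_normalizer hm hF
  exact grp_coatom_transfer (MulAut.conj k) (szU hF) (by rw [hN]; exact szH_coatom hm hF)
    (fun M hM hUM => by rw [hN]; exact szU_max_unique hm hF M hM hUM)

end SzMax

end Cfsg.Agent.Helper22
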