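import Cfsg.Agent.Helper22.SzTori
import Cfsg.Agent.Helper22.SzMax

set_option autoImplicit false
set_option linter.style.haveILetI false
set_option linter.unusedSectionVars false
set_option linter.unusedSimpArgs false
set_option linter.unusedVariables false
set_option linter.unusedTactic false
set_option maxHeartbeats 1000000

open Cfsg
open Matrix
open scoped Pointwise

namespace Cfsg.Agent.Helper22

section PartGeneric

theorem sz_pow4_odd {G : Type*} [Group G] {g : G} (h4 : g ^ 4 = 1) (V : Subgroup G)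
    (hgV : g ∈ V) (hodd : ¬ 2 ∣ Nat.card ↥V) : g = 1 := by
  have h1 : orderOf g ∣ 2 ^ 2 := orderOf_dvd_of_pow_eq_one (by
    have e4 : (2 : ℕ) ^ 2 = 4 := by norm_num
    rw [e4]
    exact h4)
  have h2 : orderOf g ∣ Nat.card ↥V := by
    have h := orderOf_dvd_natCard (⟨g, hgV⟩ : ↥V)
    rw [Subgroup.orderOf_mk] at h
    exact h
  have hcop : Nat.Coprime (2 ^ 2) (Nat.card ↥V) :=
    Nat.Coprime.pow_left 2 ((Nat.Prime.coprime_iff_not_dvd Nat.prime_two).mpr hodd)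
  have h3 := Nat.dvd_gcd h1 h2
  rw [Nat.Coprime.gcd_eq_one hcop] at h3
  exact orderOf_eq_one_iff.mp (Nat.dvd_one.mp h3)

theorem cyc_comm22 {G : Type*} [Group G] (V : Subgroup G) (hV : IsCyclic ↥V) {v w : G}
    (hv : v ∈ V) (hw : w ∈ V) : v * w = w * v := by
  haveI := hV
  obtain ⟨z, hz⟩ := IsCyclic.exists_generator (α := ↥V)
  obtain ⟨i, hi⟩ := Subgroup.mem_zpowers_iff.mp (hz ⟨v, hv⟩)
  obtain ⟨j, hj⟩ := Subgroup.mem_zpowers_iff.mp (hz ⟨w, hw⟩)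
  have h : (⟨v, hv⟩ : ↥V) * ⟨w, hw⟩ = ⟨w, hw⟩ * ⟨v, hv⟩ := by
    rw [← hi, ← hj]
    exact zpow_mul_comm z i j
  exact congrArg Subtype.val h

theorem sz_a_coprime (m : ℕ) {a₂ p : ℕ} (h : a₂ + 2 ^ (m + 1) = 2 ^ (2 * m + 1) + 1)
    (hp : p.Prime) (h1 : p ∣ 2 ^ (2 * m + 1) + 2 ^ (m + 1) + 1) (h2 : p ∣ a₂) : False := by
  have e0 : 2 ^ (m + 2) = 2 * 2 ^ (m + 1) := by ring
  have e : 2 ^ (2 * m + 1) + 2 ^ (m + 1) + 1 = a₂ + 2 ^ (m + 2) := by omega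
  rw [e] at h1
  have h3 : p ∣ 2 ^ (m + 2) := (Nat.dvd_add_right h2).mp h1
  have h4 : p ∣ 2 := hp.dvd_of_dvd_pow h3
  have h5 : p = 2 := (Nat.prime_dvd_prime_iff_eq hp Nat.prime_two).mp h4
  subst h5
  have e1 : 2 ^ (m + 1) = 2 * 2 ^ m := by ring
  have e2 : 2 ^ (2 * m + 1) = 2 * 2 ^ (2 * m) := by ring
  omega

theorem sz_S3_odd {m : ℕ} (hm : 1 ≤ m) {k : ℕ}
    (hk : k ∈ ({2 ^ (2 * m + 1) - 1, 2 ^ (2 * m + 1) + 2 ^ (m + 1) + 1,
      2 ^ (2 * m + 1) - 2 ^ (m + 1) + 1} : Set ℕ)) : ¬ 2 ∣ k := by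
  have hle2 : 2 ^ (m + 1) ≤ 2 ^ (2 * m + 1) := Nat.pow_le_pow_right (by norm_num) (by omega)
  have e1 : 2 ^ (m + 1) = 2 * 2 ^ m := by ring
  have e2 : 2 ^ (2 * m + 1) = 2 * 2 ^ (2 * m) := by ring
  have hpos : 0 < 2 ^ (2 * m) := by positivity
  rw [Set.mem_insert_iff, Set.mem_insert_iff, Set.mem_singleton_iff] at hk
  rcases hk with rfl | rfl | rfl
  · omega
  · omega
  · omega

end PartGeneric

section Part

variable {F : Type*} [Field F] [Fintype F] {m : ℕ}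

theorem sz_N_cop {x : ℕ} (hx1 : x ≠ 1) (h1 : x ∣ (2 ^ (2 * m + 1)) ^ 2 + 1)
    (h2 : x ∣ (2 ^ (2 * m + 1)) ^ 2 * (2 ^ (2 * m + 1) - 1)) : False := by
  obtain ⟨p, hp, hpx⟩ := Nat.exists_prime_and_dvd hx1
  exact sz_N_prime_coprime hp (hpx.trans h1) (hpx.trans h2)

theorem szTG_pow4 (hF : Fintype.card F = 2 ^ (2 * m + 1)) (a b : F) : szTG hF a b ^ 4 = 1 := by
  have e : szTG hF a b ^ 4 = szTG hF a b ^ 2 * szTG hF a b ^ 2 := pow_add (szTG hF a b) 2 2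
  rw [e, pow_two, szTG_sq]
  exact Subtype.ext (szT_invol hF _)

/-- A non-identity element with a fixed point is conjugate to a translation or to a
non-trivial element of the diagonal torus. -/
theorem sz_fix_class (hm : 1 ≤ m) (hF : Fintype.card F = 2 ^ (2 * m + 1))
    (g : ↥(Cfsg.Sz F m)) (hg1 : g ≠ 1) (hnf : ¬ szFpf g) :
    ∃ K : ↥(Cfsg.Sz F m), (∃ c d : F, (c ≠ 0 ∨ d ≠ 0) ∧ K * g * K⁻¹ = szTG hF c d) ∨
      (∃ δ : Fˣ, δ ≠ 1 ∧ K * g * K⁻¹ = szDG hF δ) := by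
  have hθ := szθ_spec hF
  obtain ⟨p, hp, hfix⟩ : ∃ p ∈ Cfsg.suzukiOvoid F m,
      (g : Matrix.SpecialLinearGroup (Fin 4) F) • p = p := by
    by_contra hcon
    apply hnf
    intro p hp hfix
    exact hcon ⟨p, hp, hfix⟩
  have hp' : p ∈ MulAction.orbit (Cfsg.Sz F m) (Cfsg.suzukiPointInfinity F) := by
    rw [sz_orbit_inf hF]
    exact hp
  obtain ⟨K₀, hK₀⟩ := hp'
  have hK₀' : (K₀ : Matrix.SpecialLinearGroup (Fin 4) F) • Cfsg.suzukiPointInfinity F = p := hK₀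
  obtain ⟨g', hg'def⟩ : ∃ g' : ↥(Cfsg.Sz F m), g' = K₀⁻¹ * g * K₀ := ⟨_, rfl⟩
  have hg'1 : g' ≠ 1 := by
    intro h
    apply hg1
    have e : g = K₀ * g' * K₀⁻¹ := by
      rw [hg'def]
      group
    rw [e, h]
    group
  have hg'fix : (g' : Matrix.SpecialLinearGroup (Fin 4) F) • Cfsg.suzukiPointInfinity F =
      Cfsg.suzukiPointInfinity F := by
    rw [hg'def]
    show ((K₀ : Matrix.SpecialLinearGroup (Fin 4) F)⁻¹ *
      (g : Matrix.SpecialLinearGroup (Fin 4) F) *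
      (K₀ : Matrix.SpecialLinearGroup (Fin 4) F)) • _ = _
    rw [mul_smul, mul_smul, hK₀', hfix, ← hK₀', inv_smul_smul]
  obtain ⟨c, d, δ, hdec, hcd⟩ := sz_borel_decomp hm hF g' hg'fix
  by_cases hδ : δ = 1
  · have hg2 : g' = szTG hF c d := by rw [hdec, hδ, szDG_one, mul_one]
    refine ⟨K₀⁻¹, Or.inl ⟨c, d, ?_, ?_⟩⟩
    · by_contra hcon
      push_neg at hcon
      apply hg'1
      rw [hg2, hcon.1, hcon.2]
      exact szTG_one hF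
    · rw [← hg2, hg'def, inv_inv]
  · have hδ1 : (δ : F) ≠ 1 := fun h => hδ (Units.ext h)
    have h1δ : (1 : F) + δ ≠ 0 := by
      intro h
      apply hδ1
      linear_combination h - hθ.h2
    have hN : (1 : F) + szθ F m δ * δ ≠ 0 := by
      intro h
      apply hδ1
      have e : szθ F m (δ : F) * δ = szθ F m 1 * 1 := by
        rw [hθ.hone]
        linear_combination h - hθ.h2
      exact sz_norm_inj hF e
    obtain ⟨u, hu⟩ : ∃ u : F, (1 + (δ : F)) * u = 1 := ⟨_, mul_inv_cancel₀ h1δ⟩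
    obtain ⟨v, hv⟩ : ∃ v : F, (1 + szθ F m δ * δ) * v = 1 := ⟨_, mul_inv_cancel₀ hN⟩
    obtain ⟨x₀, hx₀def⟩ : ∃ x₀ : F, x₀ = c * u := ⟨_, rfl⟩
    obtain ⟨e₀, he₀def⟩ : ∃ e₀ : F, e₀ = d + szθ F m c * (δ * x₀) := ⟨_, rfl⟩
    obtain ⟨y₀, hy₀def⟩ : ∃ y₀ : F, y₀ = e₀ * v := ⟨_, rfl⟩
    have hx₀ : (δ : F) * x₀ + c = x₀ := by
      rw [hx₀def]
      linear_combination c * hu + (c - c * u) * hθ.h2
    have hy₀ : szθ F m δ * δ * y₀ + d + szθ F m c * (δ * x₀) = y₀ := by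
      rw [hy₀def]
      linear_combination e₀ * hv + (e₀ - e₀ * v) * hθ.h2 - he₀def
    have hfix2 : (g' : Matrix.SpecialLinearGroup (Fin 4) F) • szPt F m x₀ y₀ =
        szPt F m x₀ y₀ := by
      have hdec' : (g' : Matrix.SpecialLinearGroup (Fin 4) F) = szT F m c d * szD F m δ :=
        congrArg Subtype.val hdec
      rw [hdec', mul_smul, szD_pt hF, szT_pt hF, hx₀, hy₀]
    obtain ⟨k, hk, hk1, hk2⟩ := sz_norm hF (sz_inf_mem (F := F) (m := m)) (szPt_mem x₀ y₀)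
      (fun h => szPt_ne_inf x₀ y₀ h.symm)
    have h1 : (k * (g' : Matrix.SpecialLinearGroup (Fin 4) F) * k⁻¹) •
        Cfsg.suzukiPointInfinity F = Cfsg.suzukiPointInfinity F := by
      rw [mul_smul, mul_smul, ← hk1, inv_smul_smul, hg'fix]
    have h2 : (k * (g' : Matrix.SpecialLinearGroup (Fin 4) F) * k⁻¹) •
        Cfsg.suzukiPointZero F = Cfsg.suzukiPointZero F := by
      rw [mul_smul, mul_smul, ← hk2, inv_smul_smul, hfix2]
    obtain ⟨δ', hδ'⟩ := sz_two_pt hm hF (mul_mem (mul_mem hk g'.2) (inv_mem hk)) h1 h2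
    obtain ⟨K, hK⟩ : ∃ K : ↥(Cfsg.Sz F m), (K : Matrix.SpecialLinearGroup (Fin 4) F) = k :=
      ⟨⟨k, hk⟩, rfl⟩
    have hconj : K * g' * K⁻¹ = szDG hF δ' := by
      apply Subtype.ext
      show (K : Matrix.SpecialLinearGroup (Fin 4) F) *
        (g' : Matrix.SpecialLinearGroup (Fin 4) F) *
        (K : Matrix.SpecialLinearGroup (Fin 4) F)⁻¹ = szD F m δ'
      rw [hK]
      exact hδ'
    have hδ'1 : δ' ≠ 1 := by
      intro h
      apply hg'1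
      have e : g' = K⁻¹ * (K * g' * K⁻¹) * K := by group
      rw [e, hconj, h, szDG_one]
      group
    refine ⟨K * K₀⁻¹, Or.inr ⟨δ', hδ'1, ?_⟩⟩
    rw [← hconj, hg'def]
    group

theorem sz_sylow_mem (hm : 1 ≤ m) (hF : Fintype.card F = 2 ^ (2 * m + 1))
    (P : Sylow 2 ↥(Cfsg.Sz F m)) :
    ∃ k : ↥(Cfsg.Sz F m), ∀ x : ↥(Cfsg.Sz F m),
      x ∈ (P : Subgroup ↥(Cfsg.Sz F m)) ↔ k⁻¹ * x * k ∈ szU hF := by
  haveI : Fact (Nat.Prime 2) := ⟨Nat.prime_two⟩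
  obtain ⟨Q, hQU, k, hk⟩ := sz_sylow_conj hm hF P
  subst hk
  refine ⟨k, fun x => ?_⟩
  rw [Sylow.coe_subgroup_smul, Subgroup.mem_smul_pointwise_iff_exists, hQU]
  constructor
  · rintro ⟨u, hu, hux⟩
    have hux' : k * u * k⁻¹ = x := hux
    rw [← hux']
    have e : k⁻¹ * (k * u * k⁻¹) * k = u := by group
    rw [e]
    exact hu
  · intro hx
    refine ⟨k⁻¹ * x * k, hx, ?_⟩
    show k * (k⁻¹ * x * k) * k⁻¹ = x
    group

theorem sz_sylow_of_conj (hm : 1 ≤ m) (hF : Fintype.card F = 2 ^ (2 * m + 1))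
    {g K : ↥(Cfsg.Sz F m)} (h : K * g * K⁻¹ ∈ szU hF) :
    ∃ P : Sylow 2 ↥(Cfsg.Sz F m), g ∈ (P : Subgroup ↥(Cfsg.Sz F m)) := by
  haveI : Fact (Nat.Prime 2) := ⟨Nat.prime_two⟩
  obtain ⟨P₀⟩ := (inferInstance : Nonempty (Sylow 2 ↥(Cfsg.Sz F m)))
  obtain ⟨Q, hQU, -, -⟩ := sz_sylow_conj hm hF P₀
  refine ⟨K⁻¹ • Q, ?_⟩
  rw [Sylow.coe_subgroup_smul, Subgroup.mem_smul_pointwise_iff_exists, hQU]
  refine ⟨K * g * K⁻¹, h, ?_⟩
  show K⁻¹ * (K * g * K⁻¹) * K⁻¹⁻¹ = g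
  group

theorem sz_sylow_pow4 (hm : 1 ≤ m) (hF : Fintype.card F = 2 ^ (2 * m + 1))
    (P : Sylow 2 ↥(Cfsg.Sz F m)) {g : ↥(Cfsg.Sz F m)}
    (hg : g ∈ (P : Subgroup ↥(Cfsg.Sz F m))) : g ^ 4 = 1 := by
  obtain ⟨k, hk⟩ := sz_sylow_mem hm hF P
  obtain ⟨⟨a, b⟩, hab⟩ := (hk g).mp hg
  have hab' : szTG hF a b = k⁻¹ * g * k := hab
  have e : g = k * szTG hF a b * k⁻¹ := by
    rw [hab']
    group
  rw [e, conj_pow, szTG_pow4]
  group

theorem sz_sylow_ti (hm : 1 ≤ m) (hF : Fintype.card F = 2 ^ (2 * m + 1))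
    (P P' : Sylow 2 ↥(Cfsg.Sz F m)) {g : ↥(Cfsg.Sz F m)} (hg : g ≠ 1)
    (h : g ∈ (P : Subgroup ↥(Cfsg.Sz F m))) (h' : g ∈ (P' : Subgroup ↥(Cfsg.Sz F m))) :
    (P : Subgroup ↥(Cfsg.Sz F m)) = (P' : Subgroup ↥(Cfsg.Sz F m)) := by
  obtain ⟨k, hk⟩ := sz_sylow_mem hm hF P
  obtain ⟨k', hk'⟩ := sz_sylow_mem hm hF P'
  obtain ⟨⟨a, b⟩, hab⟩ := (hk g).mp h
  obtain ⟨⟨a', b'⟩, hab'⟩ := (hk' g).mp h'
  have e1 : szTG hF a b = k⁻¹ * g * k := hab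
  have e2 : szTG hF a' b' = k'⁻¹ * g * k' := hab'
  have hne' : a' ≠ 0 ∨ b' ≠ 0 := by
    by_contra hcon
    push_neg at hcon
    apply hg
    rw [hcon.1, hcon.2, szTG_one hF] at e2
    have e3 : g = k' * (k'⁻¹ * g * k') * k'⁻¹ := by group
    rw [e3, ← e2]
    group
  obtain ⟨n, hn⟩ : ∃ n : ↥(Cfsg.Sz F m), n = k'⁻¹ * k := ⟨_, rfl⟩
  have hconj : n * szTG hF a b * n⁻¹ = szTG hF a' b' := by
    rw [e1, e2, hn]
    group
  have hconj' : (n : Matrix.SpecialLinearGroup (Fin 4) F) * szT F m a b *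
      (n : Matrix.SpecialLinearGroup (Fin 4) F)⁻¹ = szT F m a' b' :=
    congrArg Subtype.val hconj
  have hfix : szT F m a' b' •
      ((n : Matrix.SpecialLinearGroup (Fin 4) F) • Cfsg.suzukiPointInfinity F) =
      (n : Matrix.SpecialLinearGroup (Fin 4) F) • Cfsg.suzukiPointInfinity F := by
    rw [← hconj', mul_smul, mul_smul, inv_smul_smul, szT_inf]
  have hninf : (n : Matrix.SpecialLinearGroup (Fin 4) F) • Cfsg.suzukiPointInfinity F =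
      Cfsg.suzukiPointInfinity F :=
    szT_fix' hF hne' (sz_smul_mem n.2 sz_inf_mem) hfix
  have hnH : n ∈ szH F m := hninf
  ext x
  rw [hk x, hk' x]
  constructor
  · intro hx
    have h1 := szU_conj_mem hm hF hnH hx
    have e : n * (k⁻¹ * x * k) * n⁻¹ = k'⁻¹ * x * k' := by
      rw [hn]
      group
    rw [e] at h1
    exact h1
  · intro hx
    have h1 := szU_conj_mem hm hF ((szH F m).inv_mem hnH) hx
    have e : n⁻¹ * (k'⁻¹ * x * k') * n⁻¹⁻¹ = k⁻¹ * x * k := by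
      rw [hn]
      group
    rw [e] at h1
    exact h1

theorem sz_torus_cent (hm : 1 ≤ m) (hF : Fintype.card F = 2 ^ (2 * m + 1))
    {g K : ↥(Cfsg.Sz F m)} {δ : Fˣ} (hδ : δ ≠ 1) (hK : K * g * K⁻¹ = szDG hF δ) :
    IsCyclic ↥(Subgroup.centralizer ({g} : Set ↥(Cfsg.Sz F m))) ∧
      Nat.card ↥(Subgroup.centralizer ({g} : Set ↥(Cfsg.Sz F m))) = 2 ^ (2 * m + 1) - 1 := by
  have hg : g = K⁻¹ * szDG hF δ * K := by
    rw [← hK]
    group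
  have hmem : ∀ ε : Fˣ, K⁻¹ * szDG hF ε * K ∈
      Subgroup.centralizer ({g} : Set ↥(Cfsg.Sz F m)) := by
    intro ε
    rw [mem_cent22, hg]
    have e1 : K⁻¹ * szDG hF ε * K * (K⁻¹ * szDG hF δ * K) =
        K⁻¹ * (szDG hF ε * szDG hF δ) * K := by group
    have e2 : K⁻¹ * szDG hF δ * K * (K⁻¹ * szDG hF ε * K) =
        K⁻¹ * (szDG hF δ * szDG hF ε) * K := by group
    rw [e1, e2, szDG_mul, szDG_mul, mul_comm]
  obtain ⟨f, hf⟩ : ∃ f : Fˣ →* ↥(Subgroup.centralizer ({g} : Set ↥(Cfsg.Sz F m))),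
      ∀ ε : Fˣ, ((f ε : ↥(Subgroup.centralizer ({g} : Set ↥(Cfsg.Sz F m)))) :
        ↥(Cfsg.Sz F m)) = K⁻¹ * szDG hF ε * K :=
    ⟨{ toFun := fun ε => ⟨K⁻¹ * szDG hF ε * K, hmem ε⟩
       map_one' := Subtype.ext (by
         show K⁻¹ * szDG hF 1 * K = 1
         rw [szDG_one]
         group)
       map_mul' := fun a b => Subtype.ext (by
         show K⁻¹ * szDG hF (a * b) * K = (K⁻¹ * szDG hF a * K) * (K⁻¹ * szDG hF b * K)
         rw [← szDG_mul]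
         group) }, fun ε => rfl⟩
  have hinj : Function.Injective f := by
    intro a b hab
    have h1 : K⁻¹ * szDG hF a * K = K⁻¹ * szDG hF b * K := by rw [← hf a, ← hf b, hab]
    have h2 : szDG hF a = szDG hF b := mul_left_cancel (mul_right_cancel h1)
    have h3 : szD F m a = szD F m b := congrArg Subtype.val h2
    exact szD_inj h3
  have hsurj : Function.Surjective f := by
    intro y
    have hy := mem_cent22.mp y.2
    have hy' : (K * y.1 * K⁻¹) * szDG hF δ = szDG hF δ * (K * y.1 * K⁻¹) := by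
      rw [← hK]
      have e1 : K * y.1 * K⁻¹ * (K * g * K⁻¹) = K * (y.1 * g) * K⁻¹ := by group
      have e2 : K * g * K⁻¹ * (K * y.1 * K⁻¹) = K * (g * y.1) * K⁻¹ := by group
      rw [e1, e2, hy]
    obtain ⟨ε, hε⟩ := sz_cent_torus hm hF δ hδ _ hy'
    refine ⟨ε, Subtype.ext ?_⟩
    rw [hf ε, ← hε]
    group
  constructor
  · exact isCyclic_of_surjective f hsurj
  · rw [← Nat.card_congr (Equiv.ofBijective (⇑f) ⟨hinj, hsurj⟩), Nat.card_units,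
      Nat.card_eq_fintype_card, hF]

theorem sz_adm_cyc (hm : 1 ≤ m) (hF : Fintype.card F = 2 ^ (2 * m + 1))
    {g : ↥(Cfsg.Sz F m)} (hg : g ≠ 1) {V : Subgroup ↥(Cfsg.Sz F m)} (hVc : IsCyclic ↥V)
    (hVk : Nat.card ↥V ∈ ({2 ^ (2 * m + 1) - 1, 2 ^ (2 * m + 1) + 2 ^ (m + 1) + 1,
      2 ^ (2 * m + 1) - 2 ^ (m + 1) + 1} : Set ℕ)) (hgV : g ∈ V) :
    V = Subgroup.centralizer ({g} : Set ↥(Cfsg.Sz F m)) := by
  obtain ⟨g₁, g₂, hg₁, hg₂, hc₁, -, hc₂, -, hall⟩ := sz_tori_core hm hF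
  have hle2 : 2 ^ (m + 1) ≤ 2 ^ (2 * m + 1) := Nat.pow_le_pow_right (by norm_num) (by omega)
  have hlt2 : 2 ^ (m + 1) < 2 ^ (2 * m + 1) := Nat.pow_lt_pow_right (by norm_num) (by omega)
  have hq8 : 2 ^ 3 ≤ 2 ^ (2 * m + 1) := Nat.pow_le_pow_right (by norm_num) (by omega)
  have hq8' : 8 ≤ 2 ^ (2 * m + 1) := by
    have e8 : (2 : ℕ) ^ 3 = 8 := by norm_num
    rw [e8] at hq8
    exact hq8
  have hd₁ := sz_fpf_cent_card_dvd hm hF hg₁
  have hd₂ := sz_fpf_cent_card_dvd hm hF hg₂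
  have hVodd : ¬ 2 ∣ Nat.card ↥V := sz_S3_odd hm hVk
  obtain ⟨A₁, hA₁⟩ : ∃ A₁, A₁ =
      Nat.card ↥(Subgroup.centralizer ({g₁} : Set ↥(Cfsg.Sz F m))) := ⟨_, rfl⟩
  obtain ⟨A₂, hA₂⟩ : ∃ A₂, A₂ =
      Nat.card ↥(Subgroup.centralizer ({g₂} : Set ↥(Cfsg.Sz F m))) := ⟨_, rfl⟩
  rw [← hA₁] at hc₁ hd₁
  rw [← hA₂] at hc₂ hd₂
  have hVk' : Nat.card ↥V = 2 ^ (2 * m + 1) - 1 ∨ Nat.card ↥V = A₁ ∨ Nat.card ↥V = A₂ := by
    rw [Set.mem_insert_iff, Set.mem_insert_iff, Set.mem_singleton_iff] at hVk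
    rcases hVk with h | h | h
    · exact Or.inl h
    · exact Or.inr (Or.inl (h.trans hc₁.symm))
    · exact Or.inr (Or.inr (by omega))
  have hpm : 0 < 2 ^ (m + 1) := by positivity
  have hA₁1 : A₁ ≠ 1 := by omega
  have hA₂1 : A₂ ≠ 1 := by omega
  have hq1 : 2 ^ (2 * m + 1) - 1 ≠ 1 := by omega
  have hq1dvd : 2 ^ (2 * m + 1) - 1 ∣ (2 ^ (2 * m + 1)) ^ 2 * (2 ^ (2 * m + 1) - 1) :=
    dvd_mul_left _ _
  have hVle : V ≤ Subgroup.centralizer ({g} : Set ↥(Cfsg.Sz F m)) := by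
    intro v hv
    rw [mem_cent22]
    exact cyc_comm22 V hVc hv hgV
  have hdvd := Subgroup.card_dvd_of_le hVle
  by_cases hf : szFpf g
  · rcases hall g hf with hc | hc
    · rw [← hA₁] at hc
      rw [hc] at hdvd
      rcases hVk' with h | h | h
      · exfalso
        rw [h] at hdvd
        exact sz_N_cop hq1 (hdvd.trans hd₁) hq1dvd
      · exact Subgroup.eq_of_le_of_card_ge hVle (le_of_eq (hc.trans h.symm))
      · exfalso
        rw [h] at hdvd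
        obtain ⟨p, hp, hpA⟩ := Nat.exists_prime_and_dvd hA₂1
        exact sz_a_coprime m hc₂ hp (by rw [← hc₁]; exact hpA.trans hdvd) hpA
    · rw [← hA₂] at hc
      rw [hc] at hdvd
      rcases hVk' with h | h | h
      · exfalso
        rw [h] at hdvd
        exact sz_N_cop hq1 (hdvd.trans hd₂) hq1dvd
      · exfalso
        rw [h] at hdvd
        obtain ⟨p, hp, hpA⟩ := Nat.exists_prime_and_dvd hA₁1
        exact sz_a_coprime m hc₂ hp (by rw [← hc₁]; exact hpA) (hpA.trans hdvd)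
      · exact Subgroup.eq_of_le_of_card_ge hVle (le_of_eq (hc.trans h.symm))
  · obtain ⟨K, hK | hK⟩ := sz_fix_class hm hF g hg hf
    · exfalso
      obtain ⟨c, d, -, hKg⟩ := hK
      have h4 : g ^ 4 = 1 := by
        have e : g = K⁻¹ * szTG hF c d * K⁻¹⁻¹ := by
          rw [← hKg]
          group
        rw [e, conj_pow, szTG_pow4]
        group
      exact hg (sz_pow4_odd h4 V hgV hVodd)
    · obtain ⟨δ, hδ, hKg⟩ := hK
      obtain ⟨-, hcard⟩ := sz_torus_cent hm hF hδ hKg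
      rw [hcard] at hdvd
      rcases hVk' with h | h | h
      · exact Subgroup.eq_of_le_of_card_ge hVle (le_of_eq (hcard.trans h.symm))
      · exfalso
        rw [h] at hdvd
        exact sz_N_cop hA₁1 hd₁ (hdvd.trans hq1dvd)
      · exfalso
        rw [h] at hdvd
        exact sz_N_cop hA₂1 hd₂ (hdvd.trans hq1dvd)

theorem sz_part_exists (hm : 1 ≤ m) (hF : Fintype.card F = 2 ^ (2 * m + 1))
    (g : ↥(Cfsg.Sz F m)) (hg : g ≠ 1) :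
    ∃ U : Subgroup ↥(Cfsg.Sz F m),
      ((∃ P : Sylow 2 ↥(Cfsg.Sz F m), U = (P : Subgroup ↥(Cfsg.Sz F m))) ∨
      (IsCyclic ↥U ∧ Nat.card ↥U ∈ ({2 ^ (2 * m + 1) - 1, 2 ^ (2 * m + 1) + 2 ^ (m + 1) + 1,
        2 ^ (2 * m + 1) - 2 ^ (m + 1) + 1} : Set ℕ))) ∧ g ∈ U := by
  obtain ⟨g₁, g₂, hg₁, hg₂, hc₁, -, hc₂, -, hall⟩ := sz_tori_core hm hF
  have hle2 : 2 ^ (m + 1) ≤ 2 ^ (2 * m + 1) := Nat.pow_le_pow_right (by norm_num) (by omega)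
  have hgmem : g ∈ Subgroup.centralizer ({g} : Set ↥(Cfsg.Sz F m)) := mem_cent22.mpr rfl
  by_cases hf : szFpf g
  · refine ⟨Subgroup.centralizer {g}, Or.inr ⟨sz_fpf_cent_cyclic hm hF hf, ?_⟩, hgmem⟩
    rw [Set.mem_insert_iff, Set.mem_insert_iff, Set.mem_singleton_iff]
    rcases hall g hf with hc | hc
    · right
      left
      rw [hc, hc₁]
    · right
      right
      rw [hc]
      omega
  · obtain ⟨K, hK | hK⟩ := sz_fix_class hm hF g hg hf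
    · obtain ⟨c, d, -, hKg⟩ := hK
      obtain ⟨P, hP⟩ := sz_sylow_of_conj hm hF (g := g) (K := K) (by
        rw [hKg]
        exact ⟨(c, d), rfl⟩)
      exact ⟨(P : Subgroup ↥(Cfsg.Sz F m)), Or.inl ⟨P, rfl⟩, hP⟩
    · obtain ⟨δ, hδ, hKg⟩ := hK
      obtain ⟨hcyc, hcard⟩ := sz_torus_cent hm hF hδ hKg
      refine ⟨Subgroup.centralizer {g}, Or.inr ⟨hcyc, ?_⟩, hgmem⟩
      rw [hcard]
      exact Set.mem_insert _ _

theorem sz_part_unique (hm : 1 ≤ m) (hF : Fintype.card F = 2 ^ (2 * m + 1))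
    (g : ↥(Cfsg.Sz F m)) (hg : g ≠ 1) (U V : Subgroup ↥(Cfsg.Sz F m))
    (hU : (∃ P : Sylow 2 ↥(Cfsg.Sz F m), U = (P : Subgroup ↥(Cfsg.Sz F m))) ∨
      (IsCyclic ↥U ∧ Nat.card ↥U ∈ ({2 ^ (2 * m + 1) - 1, 2 ^ (2 * m + 1) + 2 ^ (m + 1) + 1,
        2 ^ (2 * m + 1) - 2 ^ (m + 1) + 1} : Set ℕ))) (hgU : g ∈ U)
    (hV : (∃ P : Sylow 2 ↥(Cfsg.Sz F m), V = (P : Subgroup ↥(Cfsg.Sz F m))) ∨
      (IsCyclic ↥V ∧ Nat.card ↥V ∈ ({2 ^ (2 * m + 1) - 1, 2 ^ (2 * m + 1) + 2 ^ (m + 1) + 1,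
        2 ^ (2 * m + 1) - 2 ^ (m + 1) + 1} : Set ℕ))) (hgV : g ∈ V) : U = V := by
  rcases hU with ⟨P, rfl⟩ | ⟨hUc, hUk⟩
  · rcases hV with ⟨P', rfl⟩ | ⟨hVc, hVk⟩
    · exact sz_sylow_ti hm hF P P' hg hgU hgV
    · exfalso
      exact hg (sz_pow4_odd (sz_sylow_pow4 hm hF P hgU) V hgV (sz_S3_odd hm hVk))
  · rcases hV with ⟨P', rfl⟩ | ⟨hVc, hVk⟩
    · exfalso
      exact hg (sz_pow4_odd (sz_sylow_pow4 hm hF P' hgV) U hgU (sz_S3_odd hm hUk))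
    · exact (sz_adm_cyc hm hF hg hUc hUk hgU).trans (sz_adm_cyc hm hF hg hVc hVk hgV).symm

theorem sz_partition (hm : 1 ≤ m) (hF : Fintype.card F = 2 ^ (2 * m + 1))
    (g : ↥(Cfsg.Sz F m)) (hg : g ≠ 1) :
    ∃! U : Subgroup ↥(Cfsg.Sz F m),
      ((∃ P : Sylow 2 ↥(Cfsg.Sz F m), U = (P : Subgroup ↥(Cfsg.Sz F m))) ∨
      (IsCyclic ↥U ∧ Nat.card ↥U ∈ ({2 ^ (2 * m + 1) - 1, 2 ^ (2 * m + 1) + 2 ^ (m + 1) + 1,
        2 ^ (2 * m + 1) - 2 ^ (m + 1) + 1} : Set ℕ))) ∧ g ∈ U := by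
  obtain ⟨U, hU, hgU⟩ := sz_part_exists hm hF g hg
  exact ⟨U, ⟨hU, hgU⟩, fun V hV => sz_part_unique hm hF g hg V U hV.1 hV.2 hU hgU⟩

end Part

end Cfsg.Agent.Helper22
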