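import Cfsg.Agent.Helper22.SzCount

set_option autoImplicit false
set_option linter.style.haveILetI false
set_option linter.unusedSectionVars false
set_option linter.unusedSimpArgs false
set_option linter.unusedVariables false
set_option linter.unusedTactic false
set_option maxHeartbeats 1000000

open Cfsg
open Matrix
open scoped Pointwise

namespace Cfsg.Agent.Helper22

section ToriArith

theorem sz_card_not3 (m : ℕ) :
    ¬ 3 ∣ (2 ^ (2 * m + 1)) ^ 2 * ((2 ^ (2 * m + 1)) ^ 2 + 1) * (2 ^ (2 * m + 1) - 1) := by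
  have hq : 2 ^ (2 * m + 1) % 3 = 2 := by
    have e : 2 ^ (2 * m + 1) = 4 ^ m * 2 := by
      rw [pow_succ, pow_mul]
      norm_num
    rw [e, Nat.mul_mod, Nat.pow_mod]
    norm_num
  generalize 2 ^ (2 * m + 1) = q at hq ⊢
  obtain ⟨k, rfl⟩ : ∃ k, q = 3 * k + 2 := ⟨q / 3, by omega⟩
  have e : (3 * k + 2) ^ 2 = 3 * (3 * k ^ 2 + 4 * k + 1) + 1 := by ring
  intro h
  rcases (Nat.Prime.dvd_mul Nat.prime_three).mp h with h1 | h1
  · rcases (Nat.Prime.dvd_mul Nat.prime_three).mp h1 with h2 | h2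
    · rw [e] at h2
      omega
    · rw [e] at h2
      omega
  · omega

theorem tori_arith_ge (x ν Gc a : ℕ) (h : x * ν = Gc * (a - 1)) (ha : 5 ≤ a)
    (hν : ν ≤ 4 * a) : Gc ≤ 5 * x := by
  obtain ⟨a', rfl⟩ : ∃ a', a = a' + 5 := ⟨a - 5, by omega⟩
  have e : a' + 5 - 1 = a' + 4 := by omega
  rw [e] at h
  by_contra hcon
  have hcon' : 5 * x + 1 ≤ Gc := by omega
  have h1 : x * ν ≤ x * (4 * (a' + 5)) := Nat.mul_le_mul_left x hν
  have h2 : (5 * x + 1) * (a' + 4) ≤ Gc * (a' + 4) := Nat.mul_le_mul_right _ hcon'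
  have e1 : (5 * x + 1) * (a' + 4) = 5 * (x * a') + 20 * x + a' + 4 := by ring
  have e2 : x * (4 * (a' + 5)) = 4 * (x * a') + 20 * x := by ring
  rw [e1] at h2
  rw [e2] at h1
  omega

theorem tori_arith_one (s N q L d b a x w : ℕ) (hs : 0 < s) (hw : w = 1 ∨ w = 2 ∨ w = 4)
    (h : x * w = s * d) (hsum : 4 * x = s * L) (hdb : d + b = N) (hab : a * b = N)
    (h5 : 5 * b ≤ N) (hL : L + 2 * q + 2 = 2 * N) (hN : N = q ^ 2 + 1) (hq : 8 ≤ q) :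
    False := by
  have hq2 : 8 * q ≤ q ^ 2 := by nlinarith
  rcases hw with rfl | rfl | rfl
  · have e : s * (4 * d) = s * L := by
      calc s * (4 * d) = 4 * (s * d) := by ring
        _ = 4 * (x * 1) := by rw [h]
        _ = 4 * x := by ring
        _ = s * L := hsum
    have e' := Nat.eq_of_mul_eq_mul_left hs e
    omega
  · have e : s * (2 * d) = s * L := by
      calc s * (2 * d) = 2 * (s * d) := by ring
        _ = 2 * (x * 2) := by rw [h]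
        _ = 4 * x := by ring
        _ = s * L := hsum
    have e' := Nat.eq_of_mul_eq_mul_left hs e
    have hb : b = q + 1 := by omega
    subst hb
    rw [hN] at hab
    rcases Nat.lt_or_ge a q with ha | ha
    · have h1 : (a + 1) * (q + 1) ≤ q * (q + 1) := Nat.mul_le_mul_right _ ha
      nlinarith [h1, hab]
    · have h1 : q * (q + 1) ≤ a * (q + 1) := Nat.mul_le_mul_right _ ha
      nlinarith [h1, hab]
  · have e : s * d = s * L := by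
      calc s * d = x * 4 := h.symm
        _ = 4 * x := by ring
        _ = s * L := hsum
    have e' := Nat.eq_of_mul_eq_mul_left hs e
    omega

theorem tori_arith_three (t Gc n₀ x₁ x₂ x₃ : ℕ) (ht : 1 ≤ t)
    (h1 : Gc ≤ 5 * x₁) (h2 : Gc ≤ 5 * x₂) (h3 : Gc ≤ 5 * x₃)
    (hsum : x₁ + x₂ + x₃ ≤ n₀) (hn : 2 * n₀ = (t + 1) ^ 3 * t ^ 2)
    (hG : Gc = (t + 1) ^ 2 * ((t + 1) ^ 2 + 1) * t) : False := by
  have h4 : 6 * Gc ≤ 5 * ((t + 1) ^ 3 * t ^ 2) := by omega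
  rw [hG] at h4
  have e1 : 6 * ((t + 1) ^ 2 * ((t + 1) ^ 2 + 1) * t) =
      ((t + 1) ^ 2 * t) * (6 * ((t + 1) ^ 2 + 1)) := by ring
  have e2 : 5 * ((t + 1) ^ 3 * t ^ 2) = ((t + 1) ^ 2 * t) * (5 * ((t + 1) * t)) := by ring
  rw [e1, e2] at h4
  have hu : 0 < (t + 1) ^ 2 * t := Nat.mul_pos (by positivity) ht
  have h5 := Nat.le_of_mul_le_mul_left h4 hu
  nlinarith [h5]

theorem tori_arith_two (s N q L d₁ d₂ x₁ x₂ w₁ w₂ : ℕ) (hs : 0 < s)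
    (hw₁ : w₁ = 1 ∨ w₁ = 2 ∨ w₁ = 4) (hw₂ : w₂ = 1 ∨ w₂ = 2 ∨ w₂ = 4)
    (h₁ : x₁ * w₁ = s * d₁) (h₂ : x₂ * w₂ = s * d₂) (hsum : 4 * (x₁ + x₂) = s * L)
    (hd₁ : 4 * N ≤ 5 * d₁) (hd₂ : 4 * N ≤ 5 * d₂) (hL : L + 2 * q + 2 = 2 * N) :
    w₁ = 4 ∧ w₂ = 4 ∧ d₁ + d₂ = L := by
  obtain ⟨c₁, hc₁, hc₁'⟩ : ∃ c, c * w₁ = 4 ∧ (c = 1 → w₁ = 4) := by
    rcases hw₁ with rfl | rfl | rfl
    · exact ⟨4, rfl, by omega⟩
    · exact ⟨2, rfl, by omega⟩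
    · exact ⟨1, rfl, fun _ => rfl⟩
  obtain ⟨c₂, hc₂, hc₂'⟩ : ∃ c, c * w₂ = 4 ∧ (c = 1 → w₂ = 4) := by
    rcases hw₂ with rfl | rfl | rfl
    · exact ⟨4, rfl, by omega⟩
    · exact ⟨2, rfl, by omega⟩
    · exact ⟨1, rfl, fun _ => rfl⟩
  have e₁ : 4 * x₁ = s * (c₁ * d₁) := by
    calc 4 * x₁ = (c₁ * w₁) * x₁ := by rw [hc₁]
      _ = c₁ * (x₁ * w₁) := by ring
      _ = c₁ * (s * d₁) := by rw [h₁]
      _ = s * (c₁ * d₁) := by ring
  have e₂ : 4 * x₂ = s * (c₂ * d₂) := by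
    calc 4 * x₂ = (c₂ * w₂) * x₂ := by rw [hc₂]
      _ = c₂ * (x₂ * w₂) := by ring
      _ = c₂ * (s * d₂) := by rw [h₂]
      _ = s * (c₂ * d₂) := by ring
  have e : s * (c₁ * d₁ + c₂ * d₂) = s * L := by
    calc s * (c₁ * d₁ + c₂ * d₂) = s * (c₁ * d₁) + s * (c₂ * d₂) := by ring
      _ = 4 * x₁ + 4 * x₂ := by rw [e₁, e₂]
      _ = 4 * (x₁ + x₂) := by ring
      _ = s * L := hsum
  have e' := Nat.eq_of_mul_eq_mul_left hs e
  have hc₁pos : 1 ≤ c₁ := by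
    rcases Nat.eq_zero_or_pos c₁ with h | h
    · rw [h] at hc₁
      omega
    · exact h
  have hc₂pos : 1 ≤ c₂ := by
    rcases Nat.eq_zero_or_pos c₂ with h | h
    · rw [h] at hc₂
      omega
    · exact h
  have hc₁1 : c₁ = 1 := by
    by_contra hne
    have h2 : 2 ≤ c₁ := by omega
    have h3 : 2 * d₁ ≤ c₁ * d₁ := Nat.mul_le_mul_right _ h2
    have h4 : 1 * d₂ ≤ c₂ * d₂ := Nat.mul_le_mul_right _ hc₂pos
    omega
  have hc₂1 : c₂ = 1 := by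
    by_contra hne
    have h2 : 2 ≤ c₂ := by omega
    have h3 : 2 * d₂ ≤ c₂ * d₂ := Nat.mul_le_mul_right _ h2
    have h4 : 1 * d₁ ≤ c₁ * d₁ := Nat.mul_le_mul_right _ hc₁pos
    omega
  refine ⟨hc₁' hc₁1, hc₂' hc₂1, ?_⟩
  rw [hc₁1, hc₂1] at e'
  omega

theorem tori_arith_fin (a₁ a₂ b₁ b₂ q ρ : ℕ) (h₁ : a₁ * b₁ = q ^ 2 + 1)
    (h₂ : a₂ * b₂ = q ^ 2 + 1) (hcop : Nat.Coprime a₁ a₂) (hb : b₁ + b₂ = 2 * q + 2)
    (hq : q = 2 * ρ ^ 2) (hq2 : 2 ≤ q) :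
    (a₁ = q + 1 + 2 * ρ ∧ a₂ + 2 * ρ = q + 1) ∨ (a₂ = q + 1 + 2 * ρ ∧ a₁ + 2 * ρ = q + 1) := by
  have hdvd : a₁ ∣ a₂ * b₂ := by
    rw [h₂, ← h₁]
    exact dvd_mul_right _ _
  have hdvd' : a₁ ∣ b₂ := Nat.Coprime.dvd_of_dvd_mul_left hcop hdvd
  obtain ⟨e, rfl⟩ := hdvd'
  have ha₁ : 0 < a₁ := by
    rcases Nat.eq_zero_or_pos a₁ with h | h
    · rw [h] at h₁
      simp at h₁
    · exact h
  have hb₁ : b₁ = a₂ * e := by
    apply Nat.eq_of_mul_eq_mul_left ha₁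
    rw [h₁, ← h₂]
    ring
  subst hb₁
  have he : e = 1 := by
    rcases Nat.lt_or_ge e 2 with he | he
    · rcases Nat.eq_zero_or_pos e with h0 | h0
      · rw [h0] at h₁
        simp at h₁
      · omega
    · exfalso
      have hZ1 : ((a₁ : ℤ) + a₂) * e = 2 * q + 2 := by
        have := congrArg (Nat.cast : ℕ → ℤ) hb
        push_cast at this
        linarith
      have hZ2 : (a₁ : ℤ) * a₂ * e = q ^ 2 + 1 := by
        have := congrArg (Nat.cast : ℕ → ℤ) h₁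
        push_cast at this
        linarith
      have heZ : (2 : ℤ) ≤ e := by exact_mod_cast he
      have hqZ : (2 : ℤ) ≤ q := by exact_mod_cast hq2
      have hid : (((a₁ : ℤ) + a₂) * e) ^ 2 - 4 * ((a₁ : ℤ) * a₂ * e) * e =
          (((a₁ : ℤ) - a₂) * e) ^ 2 := by ring
      have hnn := sq_nonneg (((a₁ : ℤ) - a₂) * e)
      rw [← hid, hZ1, hZ2] at hnn
      have h8 : 4 * ((q : ℤ) ^ 2 + 1) * 2 ≤ 4 * ((q : ℤ) ^ 2 + 1) * e :=
        mul_le_mul_of_nonneg_left heZ (by positivity)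
      nlinarith [hnn, h8, sq_nonneg ((q : ℤ) - 2)]
  subst he
  simp only [mul_one] at hb h₁
  have hsZ : (a₁ : ℤ) + a₂ = 2 * q + 2 := by
    have := congrArg (Nat.cast : ℕ → ℤ) hb
    push_cast at this
    linarith
  have hpZ : (a₁ : ℤ) * a₂ = q ^ 2 + 1 := by
    have := congrArg (Nat.cast : ℕ → ℤ) h₁
    push_cast at this
    linarith
  have hqZ : (q : ℤ) = 2 * ρ ^ 2 := by
    have := congrArg (Nat.cast : ℕ → ℤ) hq
    push_cast at this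
    linarith
  have key : ((a₁ : ℤ) - q - 1 - 2 * ρ) * ((a₁ : ℤ) - q - 1 + 2 * ρ) = 0 := by
    linear_combination (a₁ : ℤ) * hsZ - hpZ + 2 * hqZ
  rcases mul_eq_zero.mp key with h | h
  · left
    constructor
    · omega
    · omega
  · right
    constructor
    · omega
    · omega

end ToriArith

section Tori

/-- Fixed point free elements with centraliser of a given order. -/
def szXa (F : Type*) [Field F] [Fintype F] (m a : ℕ) : Set ↥(Cfsg.Sz F m) :=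
  {g' | szFpf g' ∧ Nat.card ↥(Subgroup.centralizer ({g'} : Set ↥(Cfsg.Sz F m))) = a}

variable {F : Type*} [Field F] [Fintype F] {m : ℕ}

theorem szXa_disjoint {a a' : ℕ} (h : a ≠ a') : Disjoint (szXa F m a) (szXa F m a') := by
  rw [Set.disjoint_left]
  intro g h1 h2
  exact h (h1.2.symm.trans h2.2)

theorem sz_class_facts (hm : 1 ≤ m) (hF : Fintype.card F = 2 ^ (2 * m + 1))
    {g : ↥(Cfsg.Sz F m)} (hg : szFpf g) (t : ℕ) (ht : 2 ^ (2 * m + 1) = t + 1) :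
    ∃ a w b d x : ℕ, a = Nat.card ↥(Subgroup.centralizer ({g} : Set ↥(Cfsg.Sz F m))) ∧
      Nat.card ↥(Subgroup.normalizer
        ((Subgroup.centralizer ({g} : Set ↥(Cfsg.Sz F m)) : Subgroup ↥(Cfsg.Sz F m)) :
          Set ↥(Cfsg.Sz F m))) = w * a ∧
      (w = 1 ∨ w = 2 ∨ w = 4) ∧ a * b = (t + 1) ^ 2 + 1 ∧ 5 ≤ a ∧
      5 * b ≤ (t + 1) ^ 2 + 1 ∧ d + b = (t + 1) ^ 2 + 1 ∧ 4 * ((t + 1) ^ 2 + 1) ≤ 5 * d ∧
      x = (szXa F m a).ncard ∧ x * w = ((t + 1) ^ 2 * t) * d ∧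
      (t + 1) ^ 2 * ((t + 1) ^ 2 + 1) * t ≤ 5 * x := by
  have hdvd := sz_fpf_cent_card_dvd hm hF hg
  have hcard := sz_card hm hF
  have hnot3 := sz_card_not3 m
  have hnle := sz_fpf_normalizer_le hm hF hg
  have hcount := sz_fpf_class_count hm hF hg
  have hsubdvd : Nat.card ↥(Subgroup.centralizer ({g} : Set ↥(Cfsg.Sz F m))) ∣
      Nat.card ↥(Subgroup.normalizer
        ((Subgroup.centralizer ({g} : Set ↥(Cfsg.Sz F m)) : Subgroup ↥(Cfsg.Sz F m)) :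
          Set ↥(Cfsg.Sz F m))) := Subgroup.card_dvd_of_le Subgroup.le_normalizer
  have hνdvd : Nat.card ↥(Subgroup.normalizer
        ((Subgroup.centralizer ({g} : Set ↥(Cfsg.Sz F m)) : Subgroup ↥(Cfsg.Sz F m)) :
          Set ↥(Cfsg.Sz F m))) ∣ Nat.card ↥(Cfsg.Sz F m) :=
    Subgroup.card_subgroup_dvd_card _
  have hνpos : 0 < Nat.card ↥(Subgroup.normalizer
        ((Subgroup.centralizer ({g} : Set ↥(Cfsg.Sz F m)) : Subgroup ↥(Cfsg.Sz F m)) :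
          Set ↥(Cfsg.Sz F m))) := Nat.card_pos
  have ha1' : Nat.card ↥(Subgroup.centralizer ({g} : Set ↥(Cfsg.Sz F m))) ≠ 1 := by
    intro h1
    obtain ⟨hsub, -⟩ := Nat.card_eq_one_iff_unique.mp h1
    have hgm : g ∈ Subgroup.centralizer ({g} : Set ↥(Cfsg.Sz F m)) := mem_cent22.mpr rfl
    have := congrArg Subtype.val (@Subsingleton.elim _ hsub ⟨g, hgm⟩ ⟨1, one_mem _⟩)
    exact szFpf_ne_one hg this
  obtain ⟨a, ha⟩ : ∃ a, a = Nat.card ↥(Subgroup.centralizer ({g} : Set ↥(Cfsg.Sz F m))) :=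
    ⟨_, rfl⟩
  obtain ⟨ν, hν⟩ : ∃ ν, ν = Nat.card ↥(Subgroup.normalizer
        ((Subgroup.centralizer ({g} : Set ↥(Cfsg.Sz F m)) : Subgroup ↥(Cfsg.Sz F m)) :
          Set ↥(Cfsg.Sz F m))) := ⟨_, rfl⟩
  rw [← ha] at hdvd hnle hcount hsubdvd ha1'
  rw [← hν] at hnle hcount hsubdvd hνdvd hνpos
  have ha5 : 5 ≤ a := sz_N_dvd_ge hdvd ha1'
  rw [ht] at hdvd hcard hnot3
  have e1 : t + 1 - 1 = t := by omega
  rw [e1] at hcard hnot3
  rw [hcard] at hνdvd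
  obtain ⟨b, hb⟩ := hdvd
  obtain ⟨w, hw⟩ := hsubdvd
  have hapos : 0 < a := by omega
  have hw4 : w ≤ 4 := by
    apply Nat.le_of_mul_le_mul_left _ hapos
    rw [← hw]
    omega
  have hw0 : w ≠ 0 := by
    intro h0
    rw [h0] at hw
    omega
  have hw3 : w ≠ 3 := by
    intro h3
    apply hnot3
    refine Dvd.dvd.trans ?_ hνdvd
    rw [hw, h3]
    exact dvd_mul_left _ _
  have hwc : w = 1 ∨ w = 2 ∨ w = 4 := by omega
  have h5b : 5 * b ≤ (t + 1) ^ 2 + 1 := by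
    rw [hb]
    exact Nat.mul_le_mul_right b ha5
  have hble : b ≤ (t + 1) ^ 2 + 1 := by omega
  have hdb : (t + 1) ^ 2 + 1 - b + b = (t + 1) ^ 2 + 1 := Nat.sub_add_cancel hble
  obtain ⟨d, hd⟩ : ∃ d, d = (t + 1) ^ 2 + 1 - b := ⟨_, rfl⟩
  rw [← hd] at hdb
  have hcount' : (szXa F m a).ncard * ν = Nat.card ↥(Cfsg.Sz F m) * (a - 1) := hcount
  have hd' : d = (a - 1) * b := by
    obtain ⟨a', ha'⟩ : ∃ a', a = a' + 1 := ⟨a - 1, by omega⟩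
    have e2 : a - 1 = a' := by omega
    rw [e2]
    have e3 : d + b = (a' + 1) * b := by rw [hdb, hb, ha']
    have e4 : (a' + 1) * b = a' * b + b := by ring
    omega
  have key : a * ((szXa F m a).ncard * w) = a * (((t + 1) ^ 2 * t) * d) := by
    calc a * ((szXa F m a).ncard * w) = (szXa F m a).ncard * (a * w) := by ring
      _ = (szXa F m a).ncard * ν := by rw [hw]
      _ = Nat.card ↥(Cfsg.Sz F m) * (a - 1) := hcount'
      _ = ((t + 1) ^ 2 * ((t + 1) ^ 2 + 1) * t) * (a - 1) := by rw [hcard]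
      _ = ((t + 1) ^ 2 * (a * b) * t) * (a - 1) := by rw [hb]
      _ = a * (((t + 1) ^ 2 * t) * ((a - 1) * b)) := by ring
      _ = a * (((t + 1) ^ 2 * t) * d) := by rw [hd']
  have key' := Nat.eq_of_mul_eq_mul_left hapos key
  refine ⟨a, w, b, d, (szXa F m a).ncard, ha, ?_, hwc, hb.symm, ha5, h5b, hdb, by omega, rfl,
    key', ?_⟩
  · rw [← hν, hw]
    ring
  · refine tori_arith_ge _ ν _ a ?_ ha5 hnle
    rw [← hcard]
    exact hcount'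

theorem sz_tori_core (hm : 1 ≤ m) (hF : Fintype.card F = 2 ^ (2 * m + 1)) :
    ∃ g₁ g₂ : ↥(Cfsg.Sz F m), szFpf g₁ ∧ szFpf g₂ ∧
      Nat.card ↥(Subgroup.centralizer ({g₁} : Set ↥(Cfsg.Sz F m))) =
        2 ^ (2 * m + 1) + 2 ^ (m + 1) + 1 ∧
      Nat.card ↥(Subgroup.normalizer
        ((Subgroup.centralizer ({g₁} : Set ↥(Cfsg.Sz F m)) : Subgroup ↥(Cfsg.Sz F m)) :
          Set ↥(Cfsg.Sz F m))) =
        4 * Nat.card ↥(Subgroup.centralizer ({g₁} : Set ↥(Cfsg.Sz F m))) ∧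
      Nat.card ↥(Subgroup.centralizer ({g₂} : Set ↥(Cfsg.Sz F m))) + 2 ^ (m + 1) =
        2 ^ (2 * m + 1) + 1 ∧
      Nat.card ↥(Subgroup.normalizer
        ((Subgroup.centralizer ({g₂} : Set ↥(Cfsg.Sz F m)) : Subgroup ↥(Cfsg.Sz F m)) :
          Set ↥(Cfsg.Sz F m))) =
        4 * Nat.card ↥(Subgroup.centralizer ({g₂} : Set ↥(Cfsg.Sz F m))) ∧
      (∀ g : ↥(Cfsg.Sz F m), szFpf g →
        Nat.card ↥(Subgroup.centralizer ({g} : Set ↥(Cfsg.Sz F m))) =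
          Nat.card ↥(Subgroup.centralizer ({g₁} : Set ↥(Cfsg.Sz F m))) ∨
        Nat.card ↥(Subgroup.centralizer ({g} : Set ↥(Cfsg.Sz F m))) =
          Nat.card ↥(Subgroup.centralizer ({g₂} : Set ↥(Cfsg.Sz F m)))) := by
  classical
  obtain ⟨t, ht⟩ : ∃ t, 2 ^ (2 * m + 1) = t + 1 :=
    ⟨2 ^ (2 * m + 1) - 1, by have := Nat.one_le_two_pow (n := 2 * m + 1); omega⟩
  have ht7 : 7 ≤ t := by
    have h8 : 2 ^ 3 ≤ 2 ^ (2 * m + 1) := Nat.pow_le_pow_right (by norm_num) (by omega)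
    rw [ht] at h8
    norm_num at h8
    omega
  have htpos : 0 < (t + 1) ^ 2 * t := Nat.mul_pos (by positivity) (by omega)
  have hcount := sz_fpf_count hm hF t ht
  obtain ⟨n₀, hn₀⟩ : ∃ n₀, n₀ = {g : ↥(Cfsg.Sz F m) | szFpf g}.ncard := ⟨_, rfl⟩
  rw [← hn₀] at hcount
  have h4n : 4 * n₀ = ((t + 1) ^ 2 * t) * (2 * ((t + 1) * t)) := by
    calc 4 * n₀ = 2 * (2 * n₀) := by ring
      _ = 2 * ((t + 1) ^ 3 * t ^ 2) := by rw [hcount]
      _ = ((t + 1) ^ 2 * t) * (2 * ((t + 1) * t)) := by ring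
  have hn₀pos : n₀ ≠ 0 := by
    intro h0
    rw [h0] at hcount
    have : 0 < (t + 1) ^ 3 * t ^ 2 := Nat.mul_pos (by positivity) (pow_pos (by omega) 2)
    omega
  obtain ⟨g₁, hg₁⟩ : ∃ g₁ : ↥(Cfsg.Sz F m), szFpf g₁ := by
    have hne : ({g : ↥(Cfsg.Sz F m) | szFpf g}).Nonempty :=
      Set.nonempty_of_ncard_ne_zero (by rw [← hn₀]; exact hn₀pos)
    exact hne
  obtain ⟨a₁, w₁, b₁, d₁, x₁, ha₁, hν₁, hw₁, hab₁, h5a₁, h5b₁, hdb₁, h4d₁, hx₁, hxw₁, hG₁⟩ :=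
    sz_class_facts hm hF hg₁ t ht
  have hL : 2 * ((t + 1) * t) + 2 * (t + 1) + 2 = 2 * ((t + 1) ^ 2 + 1) := by ring
  have hex₂ : ∃ g₂ : ↥(Cfsg.Sz F m), szFpf g₂ ∧
      Nat.card ↥(Subgroup.centralizer ({g₂} : Set ↥(Cfsg.Sz F m))) ≠ a₁ := by
    by_contra hcon
    have hcon' : ∀ g₂ : ↥(Cfsg.Sz F m), szFpf g₂ →
        Nat.card ↥(Subgroup.centralizer ({g₂} : Set ↥(Cfsg.Sz F m))) = a₁ := by
      intro g₂ hg₂
      by_contra hne
      exact hcon ⟨g₂, hg₂, hne⟩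
    have hall : {g : ↥(Cfsg.Sz F m) | szFpf g} = szXa F m a₁ := by
      ext g
      constructor
      · intro hg
        exact ⟨hg, hcon' g hg⟩
      · intro hg
        exact hg.1
    rw [hall, ← hx₁] at hn₀
    rw [hn₀] at h4n
    exact tori_arith_one ((t + 1) ^ 2 * t) ((t + 1) ^ 2 + 1) (t + 1) (2 * ((t + 1) * t))
      d₁ b₁ a₁ x₁ w₁ htpos hw₁ hxw₁ h4n hdb₁ hab₁ h5b₁ hL rfl (by omega)
  obtain ⟨g₂, hg₂, hne₂⟩ := hex₂
  obtain ⟨a₂, w₂, b₂, d₂, x₂, ha₂, hν₂, hw₂, hab₂, h5a₂, h5b₂, hdb₂, h4d₂, hx₂, hxw₂, hG₂⟩ :=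
    sz_class_facts hm hF hg₂ t ht
  have hne : a₁ ≠ a₂ := by
    rw [ha₂]
    exact fun h => hne₂ h.symm
  have hall : ∀ g : ↥(Cfsg.Sz F m), szFpf g →
      Nat.card ↥(Subgroup.centralizer ({g} : Set ↥(Cfsg.Sz F m))) = a₁ ∨
      Nat.card ↥(Subgroup.centralizer ({g} : Set ↥(Cfsg.Sz F m))) = a₂ := by
    intro g₃ hg₃
    by_contra hcon
    have hcon1 : Nat.card ↥(Subgroup.centralizer ({g₃} : Set ↥(Cfsg.Sz F m))) ≠ a₁ :=
      fun h => hcon (Or.inl h)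
    have hcon2 : Nat.card ↥(Subgroup.centralizer ({g₃} : Set ↥(Cfsg.Sz F m))) ≠ a₂ :=
      fun h => hcon (Or.inr h)
    obtain ⟨a₃, w₃, b₃, d₃, x₃, ha₃, hν₃, hw₃, hab₃, h5a₃, h5b₃, hdb₃, h4d₃, hx₃, hxw₃, hG₃⟩ :=
      sz_class_facts hm hF hg₃ t ht
    have hne13 : a₁ ≠ a₃ := by
      rw [ha₃]
      exact fun h => hcon1 h.symm
    have hne23 : a₂ ≠ a₃ := by
      rw [ha₃]
      exact fun h => hcon2 h.symm
    have hsub : szXa F m a₁ ∪ szXa F m a₂ ∪ szXa F m a₃ ⊆ {g : ↥(Cfsg.Sz F m) | szFpf g} := by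
      intro g hg
      rcases hg with (hg | hg) | hg
      · exact hg.1
      · exact hg.1
      · exact hg.1
    have hle := Set.ncard_le_ncard hsub (Set.toFinite _)
    have hd12 : Disjoint (szXa F m a₁) (szXa F m a₂) := szXa_disjoint hne
    have hd3 : Disjoint (szXa F m a₁ ∪ szXa F m a₂) (szXa F m a₃) := by
      rw [Set.disjoint_union_left]
      exact ⟨szXa_disjoint hne13, szXa_disjoint hne23⟩
    rw [Set.ncard_union_eq hd3 (Set.toFinite _) (Set.toFinite _),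
      Set.ncard_union_eq hd12 (Set.toFinite _) (Set.toFinite _), ← hx₁, ← hx₂, ← hx₃,
      ← hn₀] at hle
    exact tori_arith_three t _ n₀ x₁ x₂ x₃ (by omega) hG₁ hG₂ hG₃ hle hcount rfl
  have hunion : {g : ↥(Cfsg.Sz F m) | szFpf g} = szXa F m a₁ ∪ szXa F m a₂ := by
    ext g
    constructor
    · intro hg
      rcases hall g hg with h | h
      · exact Or.inl ⟨hg, h⟩
      · exact Or.inr ⟨hg, h⟩
    · intro hg
      rcases hg with hg | hg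
      · exact hg.1
      · exact hg.1
  have hsum : n₀ = x₁ + x₂ := by
    rw [hn₀, hunion, Set.ncard_union_eq (szXa_disjoint hne) (Set.toFinite _) (Set.toFinite _),
      ← hx₁, ← hx₂]
  have hcop : Nat.Coprime a₁ a₂ := by
    by_contra hnc
    obtain ⟨r, hr, hrd⟩ := Nat.exists_prime_and_dvd (show Nat.gcd a₁ a₂ ≠ 1 from hnc)
    have hr₁ : r ∣ a₁ := hrd.trans (Nat.gcd_dvd_left _ _)
    have hr₂ : r ∣ a₂ := hrd.trans (Nat.gcd_dvd_right _ _)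
    rw [ha₁] at hr₁
    rw [ha₂] at hr₂
    obtain ⟨h, hh⟩ := sz_fpf_conj_of_prime hm hF hg₁ hg₂ hr hr₁ hr₂
    have hcc := sz_fpf_card_of_conj h hh
    exact hne (ha₁.trans (hcc.symm.trans ha₂.symm))
  have hsum4 : 4 * (x₁ + x₂) = ((t + 1) ^ 2 * t) * (2 * ((t + 1) * t)) := by
    rw [← hsum]
    exact h4n
  obtain ⟨hw₁4, hw₂4, hdd⟩ := tori_arith_two ((t + 1) ^ 2 * t) ((t + 1) ^ 2 + 1) (t + 1)
    (2 * ((t + 1) * t)) d₁ d₂ x₁ x₂ w₁ w₂ htpos hw₁ hw₂ hxw₁ hxw₂ hsum4 h4d₁ h4d₂ hL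
  have hbb : b₁ + b₂ = 2 * (t + 1) + 2 := by omega
  have hρ : t + 1 = 2 * (2 ^ m) ^ 2 := by
    rw [← ht]
    ring
  have e2m : 2 ^ (m + 1) = 2 * 2 ^ m := by ring
  rcases tori_arith_fin a₁ a₂ b₁ b₂ (t + 1) (2 ^ m) hab₁ hab₂ hcop hbb hρ (by omega) with
    ⟨h1, h2⟩ | ⟨h1, h2⟩
  · refine ⟨g₁, g₂, hg₁, hg₂, ?_, ?_, ?_, ?_, ?_⟩
    · rw [← ha₁, h1, ht, e2m]
      ring
    · rw [hν₁, hw₁4, ← ha₁]
    · rw [← ha₂, ht, e2m]
      exact h2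
    · rw [hν₂, hw₂4, ← ha₂]
    · intro g hg
      rw [← ha₁, ← ha₂]
      exact hall g hg
  · refine ⟨g₂, g₁, hg₂, hg₁, ?_, ?_, ?_, ?_, ?_⟩
    · rw [← ha₂, h1, ht, e2m]
      ring
    · rw [hν₂, hw₂4, ← ha₂]
    · rw [← ha₁, ht, e2m]
      exact h2
    · rw [hν₁, hw₁4, ← ha₁]
    · intro g hg
      rw [← ha₁, ← ha₂]
      exact (hall g hg).symm

theorem sz_tori (hm : 1 ≤ m) (hF : Fintype.card F = 2 ^ (2 * m + 1)) :
    ∀ k ∈ ({2 ^ (2 * m + 1) + 2 ^ (m + 1) + 1, 2 ^ (2 * m + 1) - 2 ^ (m + 1) + 1} : Set ℕ),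
      ∃ U : Subgroup (Cfsg.Sz F m), IsCyclic U ∧ Nat.card U = k ∧
        (∀ u ∈ U, u ≠ 1 → Subgroup.centralizer {u} = U) ∧
        Nat.card (Subgroup.normalizer (U : Set (Cfsg.Sz F m))) = 4 * k := by
  obtain ⟨g₁, g₂, hg₁, hg₂, hc₁, hn₁, hc₂, hn₂, -⟩ := sz_tori_core hm hF
  have hle : 2 ^ (m + 1) ≤ 2 ^ (2 * m + 1) := Nat.pow_le_pow_right (by norm_num) (by omega)
  intro k hk
  rw [Set.mem_insert_iff, Set.mem_singleton_iff] at hk
  rcases hk with rfl | rfl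
  · refine ⟨Subgroup.centralizer {g₁}, sz_fpf_cent_cyclic hm hF hg₁, hc₁, ?_, ?_⟩
    · intro u hu hu1
      exact sz_fpf_cent_eq hm hF hg₁ (mem_cent22.mp hu) hu1
    · rw [hn₁, hc₁]
  · have hc₂' : Nat.card ↥(Subgroup.centralizer ({g₂} : Set ↥(Cfsg.Sz F m))) =
        2 ^ (2 * m + 1) - 2 ^ (m + 1) + 1 := by omega
    refine ⟨Subgroup.centralizer {g₂}, sz_fpf_cent_cyclic hm hF hg₂, hc₂', ?_, ?_⟩
    · intro u hu hu1
      exact sz_fpf_cent_eq hm hF hg₂ (mem_cent22.mp hu) hu1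
    · rw [hn₂, hc₂']

end Tori

end Cfsg.Agent.Helper22
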