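import Cfsg.Agent.Helper22.SzFixA
import Cfsg.Agent.Helper22.SzTori
import Cfsg.Agent.Helper22.SzPart
import Cfsg.Agent.Helper22.SzMax
import Cfsg.Agent.Helper22.SzCyc

set_option autoImplicit false
set_option linter.style.haveILetI false
set_option linter.unusedSectionVars false
set_option linter.unusedSimpArgs false
set_option linter.unusedVariables false
set_option linter.unusedTactic false
set_option maxHeartbeats 1000000

open Cfsg
open Matrix
open scoped Pointwise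

namespace Cfsg.Agent.Helper22

section FxSz

variable {F : Type*} [Field F] [Fintype F] {m : ℕ}

theorem fx_fpf5 (hm : 1 ≤ m) (hF : Fintype.card F = 2 ^ (2 * m + 1))
    {g : ↥(Cfsg.Sz F m)} (hg : szFpf g) :
    5 ≤ Nat.card ↥(Subgroup.centralizer ({g} : Set ↥(Cfsg.Sz F m))) := by
  apply sz_N_dvd_ge (sz_fpf_cent_card_dvd hm hF hg)
  intro h1
  have hbot := Subgroup.card_eq_one.mp h1
  have hgm : g ∈ Subgroup.centralizer ({g} : Set ↥(Cfsg.Sz F m)) := mem_cent22.mpr rfl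
  rw [hbot, Subgroup.mem_bot] at hgm
  exact szFpf_ne_one hg hgm

theorem fx_norm4 (hm : 1 ≤ m) (hF : Fintype.card F = 2 ^ (2 * m + 1))
    {g : ↥(Cfsg.Sz F m)} (hg : szFpf g) :
    Nat.card ↥(Subgroup.normalizer
      ((Subgroup.centralizer ({g} : Set ↥(Cfsg.Sz F m)) : Subgroup ↥(Cfsg.Sz F m)) :
        Set ↥(Cfsg.Sz F m))) =
      4 * Nat.card ↥(Subgroup.centralizer ({g} : Set ↥(Cfsg.Sz F m))) := by
  obtain ⟨g₁, g₂, hg₁, hg₂, hc₁, hn₁, hc₂, hn₂, hall⟩ := sz_tori_core hm hF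
  have h5 := fx_fpf5 hm hF hg
  have hG : 0 < Nat.card ↥(Cfsg.Sz F m) := Nat.card_pos
  have hX : ∀ X N : ℕ, X * N = Nat.card ↥(Cfsg.Sz F m) *
      (Nat.card ↥(Subgroup.centralizer ({g} : Set ↥(Cfsg.Sz F m))) - 1) → 0 < X := by
    intro X N h
    rcases Nat.eq_zero_or_pos X with h0 | h0
    · rw [h0, zero_mul] at h
      have hp := Nat.mul_pos hG
        (show 0 < Nat.card ↥(Subgroup.centralizer ({g} : Set ↥(Cfsg.Sz F m))) - 1 by omega)
      omega
    · exact h0
  have key : ∀ g' : ↥(Cfsg.Sz F m), szFpf g' →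
      Nat.card ↥(Subgroup.centralizer ({g} : Set ↥(Cfsg.Sz F m))) =
        Nat.card ↥(Subgroup.centralizer ({g'} : Set ↥(Cfsg.Sz F m))) →
      Nat.card ↥(Subgroup.normalizer
        ((Subgroup.centralizer ({g'} : Set ↥(Cfsg.Sz F m)) : Subgroup ↥(Cfsg.Sz F m)) :
          Set ↥(Cfsg.Sz F m))) =
        4 * Nat.card ↥(Subgroup.centralizer ({g'} : Set ↥(Cfsg.Sz F m))) →
      Nat.card ↥(Subgroup.normalizer
        ((Subgroup.centralizer ({g} : Set ↥(Cfsg.Sz F m)) : Subgroup ↥(Cfsg.Sz F m)) :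
          Set ↥(Cfsg.Sz F m))) =
        4 * Nat.card ↥(Subgroup.centralizer ({g} : Set ↥(Cfsg.Sz F m))) := by
    intro g' hg' hcc hn'
    have e1 := sz_fpf_class_count hm hF hg
    have e2 := sz_fpf_class_count hm hF hg'
    rw [hn', ← hcc] at e2
    exact Nat.eq_of_mul_eq_mul_left (hX _ _ e1) (e1.trans e2.symm)
  rcases hall g hg with h | h
  · exact key g₁ hg₁ h hn₁
  · exact key g₂ hg₂ h hn₂

/-- The properties of a torus used in the fixity argument. -/
structure FxTor (C : Subgroup ↥(Cfsg.Sz F m)) : Prop where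
  odd : Odd (Nat.card ↥C)
  three : 3 ≤ Nat.card ↥C
  cent : ∀ y ∈ C, y ≠ 1 → Subgroup.centralizer ({y} : Set ↥(Cfsg.Sz F m)) = C
  norm : ∀ h : ↥(Cfsg.Sz F m), Odd (orderOf h) →
    h ∈ Subgroup.normalizer (C : Set ↥(Cfsg.Sz F m)) → h ∈ C
  typ : Nat.card ↥C = 2 ^ (2 * m + 1) - 1 ∨
    Nat.card ↥(Subgroup.normalizer (C : Set ↥(Cfsg.Sz F m))) = 4 * Nat.card ↥C

theorem fx_tor_fpf (hm : 1 ≤ m) (hF : Fintype.card F = 2 ^ (2 * m + 1))
    {x : ↥(Cfsg.Sz F m)} (hx : szFpf x) :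
    FxTor (Subgroup.centralizer ({x} : Set ↥(Cfsg.Sz F m))) := by
  have h5 := fx_fpf5 hm hF hx
  have hdvd := sz_fpf_cent_card_dvd hm hF hx
  have hodd : Odd (Nat.card ↥(Subgroup.centralizer ({x} : Set ↥(Cfsg.Sz F m)))) := by
    rw [← Nat.not_even_iff_odd]
    intro hev
    exact sz_N_odd m (dvd_trans hev.two_dvd hdvd)
  have hn4 := fx_norm4 hm hF hx
  refine ⟨hodd, by omega, ?_, ?_, Or.inr hn4⟩
  · intro y hy hy1
    exact sz_fpf_cent_eq hm hF hx (mem_cent22.mp hy) hy1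
  · intro h hho hhN
    have h4 : h ^ 4 ∈ Subgroup.centralizer ({x} : Set ↥(Cfsg.Sz F m)) := by
      haveI : ((Subgroup.centralizer ({x} : Set ↥(Cfsg.Sz F m))).subgroupOf
          (Subgroup.normalizer ((Subgroup.centralizer ({x} : Set ↥(Cfsg.Sz F m)) :
            Subgroup ↥(Cfsg.Sz F m)) : Set ↥(Cfsg.Sz F m)))).Normal :=
        Subgroup.normal_in_normalizer
      have hidx : ((Subgroup.centralizer ({x} : Set ↥(Cfsg.Sz F m))).subgroupOf
          (Subgroup.normalizer ((Subgroup.centralizer ({x} : Set ↥(Cfsg.Sz F m)) :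
            Subgroup ↥(Cfsg.Sz F m)) : Set ↥(Cfsg.Sz F m)))).index = 4 := by
        have e1 := Subgroup.card_mul_index
          ((Subgroup.centralizer ({x} : Set ↥(Cfsg.Sz F m))).subgroupOf
          (Subgroup.normalizer ((Subgroup.centralizer ({x} : Set ↥(Cfsg.Sz F m)) :
            Subgroup ↥(Cfsg.Sz F m)) : Set ↥(Cfsg.Sz F m))))
        have e2 : Nat.card ↥((Subgroup.centralizer ({x} : Set ↥(Cfsg.Sz F m))).subgroupOf
            (Subgroup.normalizer ((Subgroup.centralizer ({x} : Set ↥(Cfsg.Sz F m)) :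
              Subgroup ↥(Cfsg.Sz F m)) : Set ↥(Cfsg.Sz F m)))) =
            Nat.card ↥(Subgroup.centralizer ({x} : Set ↥(Cfsg.Sz F m))) :=
          Nat.card_congr (Subgroup.subgroupOfEquivOfLe Subgroup.le_normalizer).toEquiv
        rw [e2, hn4] at e1
        have hpos : 0 < Nat.card ↥(Subgroup.centralizer ({x} : Set ↥(Cfsg.Sz F m))) := by
          omega
        apply Nat.eq_of_mul_eq_mul_left hpos
        rw [e1]
        ring
      have h1 := Subgroup.pow_index_mem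
        ((Subgroup.centralizer ({x} : Set ↥(Cfsg.Sz F m))).subgroupOf
          (Subgroup.normalizer ((Subgroup.centralizer ({x} : Set ↥(Cfsg.Sz F m)) :
            Subgroup ↥(Cfsg.Sz F m)) : Set ↥(Cfsg.Sz F m))))
        (⟨h, hhN⟩ : ↥(Subgroup.normalizer ((Subgroup.centralizer ({x} : Set ↥(Cfsg.Sz F m)) :
            Subgroup ↥(Cfsg.Sz F m)) : Set ↥(Cfsg.Sz F m))))
      rw [hidx] at h1
      have h2 := Subgroup.mem_subgroupOf.mp h1
      simpa using h2
    obtain ⟨j, hj⟩ := exists_pow_eq_self_of_coprime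
      (show Nat.Coprime 4 (orderOf h) from (Nat.coprime_two_left.mpr hho).pow_left 2)
    rw [← hj]
    exact Subgroup.pow_mem _ h4 j

theorem fx_tor_split (hm : 1 ≤ m) (hF : Fintype.card F = 2 ^ (2 * m + 1))
    {x K : ↥(Cfsg.Sz F m)} {δ : Fˣ} (hδ : δ ≠ 1) (hK : K * x * K⁻¹ = szDG hF δ) :
    FxTor (Subgroup.centralizer ({x} : Set ↥(Cfsg.Sz F m))) := by
  obtain ⟨hcyc, hcard⟩ := sz_torus_cent hm hF hδ hK
  have hq8 : 8 ≤ 2 ^ (2 * m + 1) := by
    calc 8 = 2 ^ 3 := by norm_num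
      _ ≤ 2 ^ (2 * m + 1) := Nat.pow_le_pow_right (by norm_num) (by omega)
  have hne : Cfsg.suzukiPointZero F ≠ Cfsg.suzukiPointInfinity F := by
    rw [← szPt_zero hF]
    exact szPt_ne_inf 0 0
  refine ⟨?_, by omega, ?_, ?_, Or.inl hcard⟩
  · rw [hcard]
    exact Nat.Even.sub_odd Nat.one_le_two_pow (Nat.even_pow.mpr ⟨even_two, by omega⟩) odd_one
  · intro y hy hy1
    exact (sz_adm_cyc hm hF hy1 hcyc (by rw [hcard]; exact Set.mem_insert _ _) hy).symm
  · intro h hho hhN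
    have hxC : x ∈ Subgroup.centralizer ({x} : Set ↥(Cfsg.Sz F m)) := mem_cent22.mpr rfl
    have hcomm : h * x * h⁻¹ * x = x * (h * x * h⁻¹) :=
      mem_cent22.mp ((Subgroup.mem_normalizer_iff.mp hhN x).mp hxC)
    have e1 : K * h * K⁻¹ * szDG hF δ * (K * h * K⁻¹)⁻¹ = K * (h * x * h⁻¹) * K⁻¹ := by
      rw [← hK]
      group
    have hc2 : K * (h * x * h⁻¹) * K⁻¹ * (K * x * K⁻¹) =
        K * x * K⁻¹ * (K * (h * x * h⁻¹) * K⁻¹) := by
      have e : K * (h * x * h⁻¹) * K⁻¹ * (K * x * K⁻¹) = K * (h * x * h⁻¹ * x) * K⁻¹ := by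
        group
      rw [e, hcomm]
      group
    obtain ⟨ε, hε⟩ := sz_cent_torus hm hF δ hδ (K * h * K⁻¹ * szDG hF δ * (K * h * K⁻¹)⁻¹)
      (by rw [e1, ← hK]; exact hc2)
    have hε1 : ε ≠ 1 := by
      rintro rfl
      apply hδ
      rw [szDG_one] at hε
      have h1 : szDG hF δ = 1 := by
        have e : szDG hF δ = (K * h * K⁻¹)⁻¹ *
            (K * h * K⁻¹ * szDG hF δ * (K * h * K⁻¹)⁻¹) * (K * h * K⁻¹) := by group
        rw [e, hε]
        group
      exact szD_inj (congrArg Subtype.val (h1.trans (szDG_one hF).symm))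
    have hpt : ∀ p : Projectivization F (Fin 4 → F), szDG hF δ • p = p →
        szDG hF ε • ((K * h * K⁻¹) • p) = (K * h * K⁻¹) • p := by
      intro p hp
      rw [← hε, ← mul_smul, inv_mul_cancel_right, mul_smul, hp]
    have hcls : ∀ p ∈ Cfsg.suzukiOvoid F m, szDG hF ε • p = p →
        p = Cfsg.suzukiPointInfinity F ∨ p = Cfsg.suzukiPointZero F := by
      intro p hp hfixp
      rcases sz_mem_ovoid_iff.mp hp with rfl | ⟨a, b, rfl⟩
      · exact Or.inl rfl
      · right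
        by_cases hab : a = 0 ∧ b = 0
        · rw [hab.1, hab.2]
          exact szPt_zero hF
        · exact absurd (szD_fix hF hab hfixp) hε1
    have hinfmem : (K * h * K⁻¹) • Cfsg.suzukiPointInfinity F ∈ Cfsg.suzukiOvoid F m :=
      sz_smul_mem (K * h * K⁻¹).2 sz_inf_mem
    have hzmem : (K * h * K⁻¹) • Cfsg.suzukiPointZero F ∈ Cfsg.suzukiOvoid F m :=
      sz_smul_mem (K * h * K⁻¹).2 (sz_zero_mem hF)
    have hDinf : szDG hF δ • Cfsg.suzukiPointInfinity F = Cfsg.suzukiPointInfinity F :=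
      szD_inf δ
    have hDzero : szDG hF δ • Cfsg.suzukiPointZero F = Cfsg.suzukiPointZero F := szD_zero δ
    have hninj : (K * h * K⁻¹) • Cfsg.suzukiPointZero F ≠
        (K * h * K⁻¹) • Cfsg.suzukiPointInfinity F :=
      fun hh => hne (smul_left_cancel _ hh)
    rcases hcls _ hinfmem (hpt _ hDinf) with hInf | hInf
    · have h0 : (K * h * K⁻¹) • Cfsg.suzukiPointZero F = Cfsg.suzukiPointZero F := by
        rcases hcls _ hzmem (hpt _ hDzero) with h0 | h0
        · exact absurd (h0.trans hInf.symm) hninj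
        · exact h0
      obtain ⟨δ', hδ'⟩ := sz_two_pt hm hF (K * h * K⁻¹).2 hInf h0
      have hn : K * h * K⁻¹ = szDG hF δ' := Subtype.ext hδ'
      have hnD : K * h * K⁻¹ * (K * x * K⁻¹) = K * x * K⁻¹ * (K * h * K⁻¹) := by
        rw [hn, hK, szDG_mul, szDG_mul, mul_comm]
      apply mem_cent22.mpr
      have e : h * x = K⁻¹ * (K * h * K⁻¹ * (K * x * K⁻¹)) * K := by group
      rw [e, hnD]
      group
    · exfalso
      have h0 : (K * h * K⁻¹) • Cfsg.suzukiPointZero F = Cfsg.suzukiPointInfinity F := by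
        rcases hcls _ hzmem (hpt _ hDzero) with h0 | h0
        · exact h0
        · exact absurd (h0.trans hInf.symm) hninj
      have hsq : (K * h * K⁻¹ * (K * h * K⁻¹)) ∈
          MulAction.stabilizer ↥(Cfsg.Sz F m) (Cfsg.suzukiPointInfinity F) := by
        rw [MulAction.mem_stabilizer_iff, mul_smul, hInf, h0]
      obtain ⟨j, hj⟩ := hho
      have hpow : (K * h * K⁻¹) ^ (2 * j + 1) = 1 := by
        rw [conj_pow, ← hj, pow_orderOf_eq_one]
        group
      have hnn : (K * h * K⁻¹ * (K * h * K⁻¹)) ^ (j + 1) = K * h * K⁻¹ := by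
        rw [← pow_two, ← pow_mul]
        have e : 2 * (j + 1) = (2 * j + 1) + 1 := by ring
        rw [e, pow_succ, hpow, one_mul]
      have hmem := Subgroup.pow_mem _ hsq (j + 1)
      rw [hnn, MulAction.mem_stabilizer_iff] at hmem
      exact hne (hInf.symm.trans hmem)

end FxSz

end Cfsg.Agent.Helper22
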