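import Cfsg.Agent.Helper22.SzFixB
import Cfsg.Agent.Helper22.SzBridge

set_option autoImplicit false
set_option linter.style.haveILetI false
set_option linter.unusedSectionVars false
set_option linter.unusedSimpArgs false
set_option linter.unusedVariables false
set_option linter.unusedTactic false
set_option maxHeartbeats 1000000

open Cfsg
open Matrix
open scoped Pointwise

namespace Cfsg.Agent.Helper22

section FxSzC

variable {F : Type*} [Field F] [Fintype F] {m : ℕ}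

theorem fx_U_le (hm : 1 ≤ m) (hF : Fintype.card F = 2 ^ (2 * m + 1))
    {Ω : Type*} [MulAction ↥(Cfsg.Sz F m) Ω]
    (hfix : ∀ g : ↥(Cfsg.Sz F m), g ≠ 1 → ∀ x y z : Ω, g • x = x → g • y = y → g • z = z →
      x = y ∨ x = z ∨ y = z)
    (α : Ω) {b₀ : F} (hb₀ : b₀ ≠ 0) (ht : szTG hF 0 b₀ • α = α) :
    ∀ a b : F, szTG hF a b • α = α := by
  classical
  have hθ := szθ_spec hF
  have hθ0 : szθ F m 0 = 0 := ov_theta_zero _ hθ.hadd
  have hq8 : 8 ≤ 2 ^ (2 * m + 1) := by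
    calc 8 = 2 ^ 3 := by norm_num
      _ ≤ 2 ^ (2 * m + 1) := Nat.pow_le_pow_right (by norm_num) (by omega)
  by_contra hcon
  obtain ⟨a₀, hcon⟩ := not_forall.mp hcon
  obtain ⟨c₀, hu₀⟩ := not_forall.mp hcon
  have hcen : ∀ a b x : F, szTG hF a b * szTG hF 0 x = szTG hF 0 x * szTG hF a b := by
    intro a b x
    rw [szTG_mul, szTG_mul, hθ0]
    congr 1 <;> ring
  have hne1 : ∀ x : F, x ≠ 0 → szTG hF 0 x ≠ 1 := by
    intro x hx h
    exact hx (szTG_inj hF (h.trans (szTG_one hF).symm)).2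
  have hDc : ∀ (δ : Fˣ) (a b : F), szDG hF δ * szTG hF a b * (szDG hF δ)⁻¹ =
      szTG hF (δ * a) (szθ F m δ * δ * b) := by
    intro δ a b
    have hDT : szDG hF δ * szTG hF a b = szTG hF (δ * a) (szθ F m δ * δ * b) * szDG hF δ :=
      Subtype.ext (szD_T hF δ a b)
    rw [hDT, mul_inv_cancel_right]
  have hN : ∀ ν : F, ν ≠ 0 → ∃ δ : Fˣ, szθ F m δ * δ = ν := by
    intro ν hν
    obtain ⟨c, hc⟩ := sz_norm_surj hF ν
    have hc0 : c ≠ 0 := by
      rintro rfl
      apply hν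
      rw [← hc, mul_zero]
    exact ⟨Units.mk0 c hc0, by rw [Units.val_mk0]; exact hc⟩
  have hf3 : ∀ x : F, x ≠ 0 → szTG hF 0 x • α = α → ∀ β : Ω, szTG hF 0 x • β = β →
      β = α ∨ β = szTG hF a₀ c₀ • α := by
    intro x hx hxα β hβ
    have h1 : szTG hF 0 x • (szTG hF a₀ c₀ • α) = szTG hF a₀ c₀ • α := by
      rw [← mul_smul, ← hcen, mul_smul, hxα]
    rcases hfix _ (hne1 x hx) α (szTG hF a₀ c₀ • α) β hxα h1 hβ with h | h | h
    · exact absurd h.symm hu₀
    · exact Or.inl h.symm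
    · exact Or.inr h.symm
  have hL : ∀ b b' : F, b ≠ 0 → szTG hF 0 b • α = α → szTG hF 0 b' • α = α → ∀ δ : Fˣ,
      szθ F m δ * δ * b = b' → ∃ a c : F, (szDG hF δ * szTG hF a c) • α = α := by
    intro b b' hb hbα hb'α δ hδ
    have e1 := hDc δ 0 b
    rw [mul_zero, hδ] at e1
    have h1 : szTG hF 0 b • ((szDG hF δ)⁻¹ • α) = (szDG hF δ)⁻¹ • α := by
      have e2 : szTG hF 0 b * (szDG hF δ)⁻¹ = (szDG hF δ)⁻¹ * szTG hF 0 b' := by
        rw [← e1]
        group
      rw [← mul_smul, e2, mul_smul, hb'α]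
    rcases hf3 b hb hbα _ h1 with h | h
    · refine ⟨0, 0, ?_⟩
      rw [szTG_one, mul_one]
      exact (inv_smul_eq_iff.mp h).symm
    · refine ⟨a₀, c₀, ?_⟩
      rw [mul_smul, ← h, smul_inv_smul]
  have hL' : ∀ (δ : Fˣ) (a c : F), (szDG hF δ * szTG hF a c) • α = α → ∀ x : F,
      szTG hF 0 x • α = α → szTG hF 0 (szθ F m δ * δ * x) • α = α := by
    intro δ a c hh x hx
    have e : szTG hF 0 (szθ F m δ * δ * x) =
        (szDG hF δ * szTG hF a c) * szTG hF 0 x * (szDG hF δ * szTG hF a c)⁻¹ := by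
      have e1 := hDc δ 0 x
      rw [mul_zero] at e1
      rw [← e1]
      have e2 := hcen a c x
      have e3 : szDG hF δ * szTG hF a c * szTG hF 0 x * (szDG hF δ * szTG hF a c)⁻¹ =
          szDG hF δ * (szTG hF a c * szTG hF 0 x) * (szTG hF a c)⁻¹ * (szDG hF δ)⁻¹ := by
        group
      rw [e3, e2]
      group
    have hinv : (szDG hF δ * szTG hF a c)⁻¹ • α = α := by
      rw [inv_smul_eq_iff]
      exact hh.symm
    rw [e, mul_smul, mul_smul, hinv, hx, hh]
  have hz0 : szTG hF 0 0 • α = α := by rw [szTG_one, one_smul]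
  have hmul0 : ∀ x y : F, szTG hF 0 (x + y) = szTG hF 0 x * szTG hF 0 y := by
    intro x y
    rw [szTG_mul, hθ0]
    congr 1 <;> ring
  have hadd : ∀ x y : F, szTG hF 0 x • α = α → szTG hF 0 y • α = α →
      szTG hF 0 (x + y) • α = α := by
    intro x y hx hy
    rw [hmul0, mul_smul, hy, hx]
  have hidx : ∀ a b a' b' : F, szTG hF a b • α ≠ α → szTG hF a' b' • α ≠ α →
      szTG hF a b • α = szTG hF a' b' • α := by
    intro a b a' b' h1 h2
    have e1 : szTG hF 0 b₀ • (szTG hF a b • α) = szTG hF a b • α := by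
      rw [← mul_smul, ← hcen, mul_smul, ht]
    have e2 : szTG hF 0 b₀ • (szTG hF a' b' • α) = szTG hF a' b' • α := by
      rw [← mul_smul, ← hcen, mul_smul, ht]
    rcases hfix _ (hne1 b₀ hb₀) α (szTG hF a b • α) (szTG hF a' b' • α) ht e1 e2 with h | h | h
    · exact absurd h.symm h1
    · exact absurd h.symm h2
    · exact h
  have hz2 : ∀ x y : F, szTG hF 0 x • α ≠ α → szTG hF 0 y • α ≠ α →
      szTG hF 0 (x + y) • α = α := by
    intro x y hx hy
    have h1 := hidx 0 x 0 y hx hy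
    rw [hmul0, mul_smul, ← h1, ← mul_smul, szTG_sq, hθ0, zero_mul, szTG_one, one_smul]
  have hex3 : ∀ p q : F, ∃ x : F, x ≠ p ∧ x ≠ q := by
    intro p q
    by_contra hno
    have hsub : (Finset.univ : Finset F) ⊆ {p, q} := by
      intro x _
      by_contra hx
      apply hno
      refine ⟨x, ?_, ?_⟩
      · intro h
        apply hx
        rw [h]
        simp
      · intro h
        apply hx
        rw [h]
        simp
    have h1 := Finset.card_le_card hsub
    have h2 : ({p, q} : Finset F).card ≤ 2 := Finset.card_le_two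
    rw [Finset.card_univ, hF] at h1
    omega
  have hZ : ∀ c : F, szTG hF 0 c • α = α := by
    intro c
    by_contra hc
    obtain ⟨b₁, hb₁, hb₁0, hb₁b⟩ : ∃ b₁ : F, szTG hF 0 b₁ • α = α ∧ b₁ ≠ 0 ∧ b₁ ≠ b₀ := by
      by_contra hno
      have hno' : ∀ b₁ : F, szTG hF 0 b₁ • α = α → b₁ ≠ 0 → b₁ = b₀ := by
        intro b₁ h1 h2
        by_contra h3
        exact hno ⟨b₁, h1, h2, h3⟩
      have hsub : (Finset.univ : Finset F) ⊆ {0, b₀, c, c + b₀} := by
        intro x _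
        simp only [Finset.mem_insert, Finset.mem_singleton]
        by_cases hx : szTG hF 0 x • α = α
        · by_cases hx0 : x = 0
          · exact Or.inl hx0
          · exact Or.inr (Or.inl (hno' x hx hx0))
        · have h5 := hz2 x c hx hc
          by_cases hx0 : x + c = 0
          · right; right; left
            linear_combination hx0 - c * hθ.h2
          · right; right; right
            have h6 := hno' (x + c) h5 hx0
            linear_combination h6 - c * hθ.h2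
      have h1 := Finset.card_le_card hsub
      have h2 : ({0, b₀, c, c + b₀} : Finset F).card ≤ 4 := Finset.card_le_four
      rw [Finset.card_univ, hF] at h1
      omega
    have hb₂0 : b₀ + b₁ ≠ 0 := by
      intro h
      apply hb₁b
      linear_combination h - b₀ * hθ.h2
    have hb₂ : szTG hF 0 (b₀ + b₁) • α = α := hadd _ _ ht hb₁
    obtain ⟨δ₁, hδ₁⟩ := hN (b₀ / b₁) (div_ne_zero hb₀ hb₁0)
    obtain ⟨δ₂, hδ₂⟩ := hN (b₀ / (b₀ + b₁)) (div_ne_zero hb₀ hb₂0)
    obtain ⟨a₁, c₁, h₁⟩ := hL b₁ b₀ hb₁0 hb₁ ht δ₁ (by rw [hδ₁]; field_simp)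
    obtain ⟨a₂, c₂, h₂⟩ := hL (b₀ + b₁) b₀ hb₂0 hb₂ ht δ₂ (by rw [hδ₂]; field_simp)
    have hνc : szTG hF 0 (b₁ / b₀ * c) • α ≠ α := by
      intro h
      apply hc
      have h' := hL' δ₁ a₁ c₁ h₁ _ h
      rw [hδ₁] at h'
      have e : b₀ / b₁ * (b₁ / b₀ * c) = c := by field_simp
      rw [e] at h'
      exact h'
    have h3 := hz2 c (b₁ / b₀ * c) hc hνc
    have h4 := hL' δ₂ a₂ c₂ h₂ _ h3
    rw [hδ₂] at h4
    have e : b₀ / (b₀ + b₁) * (c + b₁ / b₀ * c) = c := by field_simp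
    rw [e] at h4
    exact hc h4
  have hDall : ∀ δ : Fˣ, ∃ a c : F, (szDG hF δ * szTG hF a c) • α = α := by
    intro δ
    exact hL 1 (szθ F m δ * δ * 1) one_ne_zero (hZ 1) (hZ _) δ rfl
  have hconjT : ∀ a c x y : F, ∃ y' : F,
      szTG hF a c * szTG hF x y * (szTG hF a c)⁻¹ = szTG hF x y' := by
    intro a c x y
    refine ⟨c + a * szθ F m a + (y + c + szθ F m a * x) + szθ F m (x + a) * a, ?_⟩
    rw [szTG_inv, szTG_mul, szTG_mul]
    congr 1
    linear_combination a * hθ.h2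
  have hAV : ∀ (δ : Fˣ) (a b : F), szTG hF a b • α = α →
      ∃ b' : F, szTG hF (δ * a) b' • α = α := by
    intro δ a b hab
    obtain ⟨a', c', hh⟩ := hDall δ
    obtain ⟨y', hy'⟩ := hconjT a' c' a b
    have e : szTG hF (δ * a) (szθ F m δ * δ * y') =
        (szDG hF δ * szTG hF a' c') * szTG hF a b * (szDG hF δ * szTG hF a' c')⁻¹ := by
      rw [← hDc δ a y', ← hy']
      group
    have hinv : (szDG hF δ * szTG hF a' c')⁻¹ • α = α := by
      rw [inv_smul_eq_iff]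
      exact hh.symm
    exact ⟨_, by rw [e, mul_smul, mul_smul, hinv, hab, hh]⟩
  obtain ⟨a₁, ha₁0, ha₁a⟩ := hex3 0 a₀
  obtain ⟨as, bs, has0, hasα⟩ : ∃ as bs : F, as ≠ 0 ∧ szTG hF as bs • α = α := by
    by_cases h1 : szTG hF a₁ 0 • α = α
    · exact ⟨a₁, 0, ha₁0, h1⟩
    · have h2 := hidx a₁ 0 a₀ c₀ h1 hu₀
      refine ⟨a₀ + a₁, c₀ + (0 + a₁ * szθ F m a₁) + szθ F m a₁ * a₀, ?_, ?_⟩
      · intro h
        apply ha₁a
        linear_combination h - a₀ * hθ.h2
      · have e : szTG hF (a₀ + a₁) (c₀ + (0 + a₁ * szθ F m a₁) + szθ F m a₁ * a₀) =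
            (szTG hF a₁ 0)⁻¹ * szTG hF a₀ c₀ := by
          rw [szTG_inv, szTG_mul]
        rw [e, mul_smul, ← h2, inv_smul_smul]
  apply hu₀
  by_cases ha0 : a₀ = 0
  · rw [ha0]
    exact hZ c₀
  · obtain ⟨b', hb'⟩ := hAV (Units.mk0 (a₀ / as) (div_ne_zero ha0 has0)) as bs hasα
    rw [Units.val_mk0, div_mul_cancel₀ _ has0] at hb'
    have e : szTG hF a₀ c₀ = szTG hF a₀ b' * szTG hF 0 (c₀ - b') := by
      rw [szTG_mul]
      congr 1 <;> ring
    rw [e, mul_smul, hZ, hb']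

theorem fx_D_le (hm : 1 ≤ m) (hF : Fintype.card F = 2 ^ (2 * m + 1))
    {Ω : Type*} [MulAction ↥(Cfsg.Sz F m) Ω]
    (hfix : ∀ g : ↥(Cfsg.Sz F m), g ≠ 1 → ∀ x y z : Ω, g • x = x → g • y = y → g • z = z →
      x = y ∨ x = z ∨ y = z)
    (α : Ω) (hU : ∀ a b : F, szTG hF a b • α = α) :
    ∀ δ : Fˣ, szDG hF δ • α = α := by
  have hθ := szθ_spec hF
  have hne1 : szTG hF 0 1 ≠ 1 :=
    fun h => one_ne_zero (szTG_inj hF (h.trans (szTG_one hF).symm)).2
  have hfixD : ∀ ε : Fˣ, szTG hF 0 1 • (szDG hF ε • α) = szDG hF ε • α := by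
    intro ε
    have hDT : szDG hF ε * szTG hF 0 (szθ F m ε * ε)⁻¹ =
        szTG hF (ε * 0) (szθ F m ε * ε * (szθ F m ε * ε)⁻¹) * szDG hF ε :=
      Subtype.ext (szD_T hF ε 0 _)
    have hnz : szθ F m (ε : F) * (ε : F) ≠ 0 :=
      mul_ne_zero (show (ε : F) ^ 2 ^ (m + 1) ≠ 0 from pow_ne_zero _ ε.ne_zero) ε.ne_zero
    rw [mul_zero, mul_inv_cancel₀ hnz] at hDT
    rw [← mul_smul, ← hDT, mul_smul, hU]
  have hsq : ∀ ε : Fˣ, ∃ δ : Fˣ, δ * δ = ε := by
    intro ε
    refine ⟨ε ^ 2 ^ (2 * m), ?_⟩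
    rw [← pow_add]
    have e : 2 ^ (2 * m) + 2 ^ (2 * m) = Fintype.card F := by
      rw [hF, pow_succ]
      ring
    rw [e]
    apply Units.ext
    rw [Units.val_pow_eq_pow_val, FiniteField.pow_card]
  have hor : ∀ δ : Fˣ, szDG hF δ • α = α ∨ szDG hF (δ * δ) • α = α := by
    intro δ
    rcases hfix _ hne1 α (szDG hF δ • α) (szDG hF (δ * δ) • α) (hU 0 1) (hfixD δ)
      (hfixD (δ * δ)) with h | h | h
    · exact Or.inl h.symm
    · exact Or.inr h.symm
    · left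
      rw [← szDG_mul, mul_smul] at h
      exact (smul_left_cancel _ h).symm
  intro ε
  obtain ⟨δ, rfl⟩ := hsq ε
  rcases hor δ with h | h
  · rw [← szDG_mul, mul_smul, h, h]
  · exact h

theorem fx_caseA (hm : 1 ≤ m) (hF : Fintype.card F = 2 ^ (2 * m + 1))
    {Ω : Type*} [Finite Ω] [MulAction ↥(Cfsg.Sz F m) Ω]
    (hfix : ∀ g : ↥(Cfsg.Sz F m), g ≠ 1 → ∀ x y z : Ω, g • x = x → g • y = y → g • z = z →
      x = y ∨ x = z ∨ y = z)
    (hfixc : ∀ g : ↥(Cfsg.Sz F m), g ≠ 1 → (MulAction.fixedBy Ω g).ncard ≤ 2)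
    (α : Ω) (hno : ∀ t : ↥(Cfsg.Sz F m), t • α = α → t ≠ 1 → t * t = 1 → False)
    (g₀ : ↥(Cfsg.Sz F m)) (hg₀ : g₀ ≠ 1) (hg₀α : g₀ • α = α) :
    Nat.card ↥(MulAction.stabilizer ↥(Cfsg.Sz F m) α) = 2 ^ (2 * m + 1) - 1 := by
  have htype : ∀ x : ↥(Cfsg.Sz F m), x • α = α → x ≠ 1 →
      FxTor (Subgroup.centralizer ({x} : Set ↥(Cfsg.Sz F m))) := by
    intro x hxα hx1
    by_cases hf : szFpf x
    · exact fx_tor_fpf hm hF hf
    · obtain ⟨K, ⟨c, d, hcd, hK⟩ | ⟨δ, hδ, hK⟩⟩ := sz_fix_class hm hF x hx1 hf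
      · exfalso
        have h4 : x ^ 4 = 1 := by
          have e := szTG_pow4 hF c d
          rw [← hK, conj_pow] at e
          have e' : x ^ 4 = K⁻¹ * (K * x ^ 4 * K⁻¹) * K := by group
          rw [e', e]
          group
        by_cases hx2 : x * x = 1
        · exact hno x hxα hx1 hx2
        · apply hno (x * x) (by rw [mul_smul, hxα, hxα]) hx2
          have e : x * x * (x * x) = x ^ 4 := by simp [pow_succ, mul_assoc]
          rw [e, h4]
      · exact fx_tor_split hm hF hδ hK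
  have hoddH : ∀ h : ↥(Cfsg.Sz F m), h • α = α → Odd (orderOf h) := by
    intro h hh
    by_cases h1 : h = 1
    · rw [h1, orderOf_one]
      exact odd_one
    · exact (htype h hh h1).odd.of_dvd_nat
        (Subgroup.orderOf_dvd_natCard _ (mem_cent22.mpr rfl))
  have hCH : ∀ x : ↥(Cfsg.Sz F m), x • α = α → x ≠ 1 →
      ∀ c ∈ Subgroup.centralizer ({x} : Set ↥(Cfsg.Sz F m)), c • α = α := by
    intro x hxα hx1 c hc
    exact fx_odd_in hfix hx1 hxα (mem_cent22.mp hc)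
      ((htype x hxα hx1).odd.of_dvd_nat (Subgroup.orderOf_dvd_natCard _ hc))
  have hNH : ∀ x : ↥(Cfsg.Sz F m), x • α = α → x ≠ 1 →
      ∀ h ∈ MulAction.stabilizer ↥(Cfsg.Sz F m) α,
      ∀ y ∈ Subgroup.centralizer ({x} : Set ↥(Cfsg.Sz F m)), y ≠ 1 →
      h * y * h⁻¹ ∈ Subgroup.centralizer ({x} : Set ↥(Cfsg.Sz F m)) →
      h ∈ Subgroup.centralizer ({x} : Set ↥(Cfsg.Sz F m)) := by
    intro x hxα hx1 h hh y hy hy1 hyc
    have T := htype x hxα hx1
    have hy1' : h * y * h⁻¹ ≠ 1 := by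
      intro h1
      apply hy1
      have e : y = h⁻¹ * (h * y * h⁻¹) * h := by group
      rw [e, h1]
      group
    have c1 := T.cent y hy hy1
    have c2 := T.cent _ hyc hy1'
    apply T.norm h (hoddH h (MulAction.mem_stabilizer_iff.mp hh))
    rw [Subgroup.mem_normalizer_iff]
    intro z
    constructor
    · intro hz
      rw [← c1] at hz
      rw [← c2]
      have hz' := mem_cent22.mp hz
      apply mem_cent22.mpr
      have e1 : h * z * h⁻¹ * (h * y * h⁻¹) = h * (z * y) * h⁻¹ := by group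
      have e2 : h * y * h⁻¹ * (h * z * h⁻¹) = h * (y * z) * h⁻¹ := by group
      rw [e1, e2, hz']
    · intro hz
      rw [← c2] at hz
      rw [← c1]
      have hz' := mem_cent22.mp hz
      apply mem_cent22.mpr
      have e1 : z * y = h⁻¹ * (h * z * h⁻¹ * (h * y * h⁻¹)) * h := by group
      have e2 : y * z = h⁻¹ * (h * y * h⁻¹ * (h * z * h⁻¹)) * h := by group
      rw [e1, e2, hz']
  have hAH : Subgroup.centralizer ({g₀} : Set ↥(Cfsg.Sz F m)) ≤
      MulAction.stabilizer ↥(Cfsg.Sz F m) α :=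
    fun c hc => MulAction.mem_stabilizer_iff.mpr (hCH g₀ hg₀α hg₀ c hc)
  have TA := htype g₀ hg₀α hg₀
  have hHA := fx_caseA_aux (MulAction.stabilizer ↥(Cfsg.Sz F m) α)
    (Subgroup.centralizer ({g₀} : Set ↥(Cfsg.Sz F m))) hAH TA.three TA.cent
    (hNH g₀ hg₀α hg₀)
    (fun x hx hx1 => ⟨(htype x (MulAction.mem_stabilizer_iff.mp hx) hx1).three,
      fun c hc => MulAction.mem_stabilizer_iff.mpr
        (hCH x (MulAction.mem_stabilizer_iff.mp hx) hx1 c hc),
      (htype x (MulAction.mem_stabilizer_iff.mp hx) hx1).cent,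
      hNH x (MulAction.mem_stabilizer_iff.mp hx) hx1⟩)
  have heq : MulAction.stabilizer ↥(Cfsg.Sz F m) α =
      Subgroup.centralizer ({g₀} : Set ↥(Cfsg.Sz F m)) := le_antisymm hHA hAH
  rw [heq]
  rcases TA.typ with h | h
  · exact h
  · exfalso
    have hcardle := card_le_of_fiber22
      (Subgroup.normalizer ((Subgroup.centralizer ({g₀} : Set ↥(Cfsg.Sz F m)) :
        Subgroup ↥(Cfsg.Sz F m)) : Set ↥(Cfsg.Sz F m)))
      (Subgroup.centralizer ({g₀} : Set ↥(Cfsg.Sz F m)))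
      (fun n : ↥(Cfsg.Sz F m) => n • α) (MulAction.fixedBy Ω g₀) (Set.toFinite _)
      (by
        intro n hn
        show g₀ • (n • α) = n • α
        have h1 : n⁻¹ * g₀ * n ∈ Subgroup.centralizer ({g₀} : Set ↥(Cfsg.Sz F m)) := by
          have h2 := (Subgroup.mem_normalizer_iff.mp (Subgroup.inv_mem _ hn) g₀).mp
            (mem_cent22.mpr rfl)
          rwa [inv_inv] at h2
        have h3 : (n⁻¹ * g₀ * n) • α = α := MulAction.mem_stabilizer_iff.mp (hAH h1)
        have e : g₀ * n = n * (n⁻¹ * g₀ * n) := by group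
        rw [← mul_smul, e, mul_smul, h3])
      (by
        intro n hn n' hn' hnn
        have hnn' : n • α = n' • α := hnn
        apply hHA
        rw [MulAction.mem_stabilizer_iff, mul_smul, ← hnn', inv_smul_smul])
    have h2 := hfixc g₀ hg₀
    rw [h] at hcardle
    have h3 := TA.three
    have h4 : (MulAction.fixedBy Ω g₀).ncard *
        Nat.card ↥(Subgroup.centralizer ({g₀} : Set ↥(Cfsg.Sz F m))) ≤
        2 * Nat.card ↥(Subgroup.centralizer ({g₀} : Set ↥(Cfsg.Sz F m))) :=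
      Nat.mul_le_mul_right _ h2
    omega

end FxSzC

end Cfsg.Agent.Helper22
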