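import Cfsg.Agent.Helper22.SzFixC

set_option autoImplicit false
set_option linter.style.haveILetI false
set_option linter.unusedSectionVars false
set_option linter.unusedSimpArgs false
set_option linter.unusedVariables false
set_option linter.unusedTactic false
set_option maxHeartbeats 1000000

open Cfsg
open Matrix
open scoped Pointwise

namespace Cfsg.Agent.Helper22

section FxSzD

variable {F : Type*} [Field F] [Fintype F] {m : ℕ}

theorem fx_core (hm : 1 ≤ m) (hF : Fintype.card F = 2 ^ (2 * m + 1))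
    {Ω : Type*} [Finite Ω] [MulAction ↥(Cfsg.Sz F m) Ω]
    (htr : ∀ x y : Ω, ∃ g : ↥(Cfsg.Sz F m), g • x = y)
    (hfixc : ∀ g : ↥(Cfsg.Sz F m), g ≠ 1 → (MulAction.fixedBy Ω g).ncard ≤ 2)
    (hex : ∃ g : ↥(Cfsg.Sz F m), g ≠ 1 ∧ (MulAction.fixedBy Ω g).ncard = 2) :
    (Nat.card Ω = (2 ^ (2 * m + 1)) ^ 2 + 1 ∧
      ∀ a b c d : Ω, a ≠ b → c ≠ d → ∃ g : ↥(Cfsg.Sz F m), g • a = c ∧ g • b = d) ∨
    (Nat.card Ω = (2 ^ (2 * m + 1)) ^ 2 * ((2 ^ (2 * m + 1)) ^ 2 + 1) ∧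
      ∀ α : Ω, Nat.card ↥(MulAction.stabilizer ↥(Cfsg.Sz F m) α) = 2 ^ (2 * m + 1) - 1) := by
  haveI : MulAction.IsPretransitive ↥(Cfsg.Sz F m) Ω := ⟨htr⟩
  have hq8 : 8 ≤ 2 ^ (2 * m + 1) := by
    calc 8 = 2 ^ 3 := by norm_num
      _ ≤ 2 ^ (2 * m + 1) := Nat.pow_le_pow_right (by norm_num) (by omega)
  have hfix : ∀ g : ↥(Cfsg.Sz F m), g ≠ 1 → ∀ x y z : Ω, g • x = x → g • y = y → g • z = z →
      x = y ∨ x = z ∨ y = z := by
    intro g hg x y z hx hy hz
    by_contra hcon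
    have hc1 : x ≠ y := fun h => hcon (Or.inl h)
    have hc2 : x ≠ z := fun h => hcon (Or.inr (Or.inl h))
    have hc3 : y ≠ z := fun h => hcon (Or.inr (Or.inr h))
    have h2 := hfixc g hg
    have h3 : 2 < (MulAction.fixedBy Ω g).ncard :=
      (Set.two_lt_ncard_iff (Set.toFinite _)).mpr ⟨x, y, z, hx, hy, hz, hc1, hc2, hc3⟩
    omega
  obtain ⟨g₀, hg₀, hc₀⟩ := hex
  obtain ⟨α, β, hαβ, hset⟩ := Set.ncard_eq_two.mp hc₀
  have hg₀α : g₀ • α = α := by
    have h1 : α ∈ MulAction.fixedBy Ω g₀ := by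
      rw [hset]
      exact Set.mem_insert _ _
    exact h1
  haveI : Nonempty Ω := ⟨α⟩
  have hmove : ∀ ω : Ω, ∃ g : ↥(Cfsg.Sz F m), g • ω ≠ ω := by
    intro ω
    by_cases h : ω = α
    · obtain ⟨g, hg⟩ := htr ω β
      exact ⟨g, by rw [hg, h]; exact hαβ.symm⟩
    · obtain ⟨g, hg⟩ := htr ω α
      exact ⟨g, by rw [hg]; exact fun h' => h h'.symm⟩
  have hGcard := sz_card hm hF
  have hidx : ∀ ω : Ω, Nat.card ↥(MulAction.stabilizer ↥(Cfsg.Sz F m) ω) * Nat.card Ω =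
      Nat.card ↥(Cfsg.Sz F m) := by
    intro ω
    rw [← MulAction.index_stabilizer_of_transitive ↥(Cfsg.Sz F m) ω]
    exact Subgroup.card_mul_index _
  by_cases hinv : ∃ t : ↥(Cfsg.Sz F m), t • α = α ∧ t ≠ 1 ∧ t * t = 1
  · left
    obtain ⟨t, htα, ht1, ht2⟩ := hinv
    haveI : Fact (Nat.Prime 2) := ⟨Nat.prime_two⟩
    have hp : IsPGroup 2 ↥(Subgroup.zpowers t) := by
      apply IsPGroup.of_card (n := 1)
      rw [Nat.card_zpowers, pow_one]
      exact orderOf_eq_prime (by rw [pow_two]; exact ht2) ht1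
    obtain ⟨P, hP⟩ := hp.exists_le_sylow
    obtain ⟨k, hk⟩ := sz_sylow_mem hm hF P
    obtain ⟨⟨a, b⟩, hab⟩ := (hk t).mp (hP (Subgroup.mem_zpowers t))
    have hab' : szTG hF a b = k⁻¹ * t * k := hab
    have hθ := szθ_spec hF
    have hθ0 : szθ F m 0 = 0 := ov_theta_zero _ hθ.hadd
    have ha0 : a = 0 := by
      have h1 : szTG hF a b * szTG hF a b = 1 := by
        rw [hab']
        have e : k⁻¹ * t * k * (k⁻¹ * t * k) = k⁻¹ * (t * t) * k := by group
        rw [e, ht2]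
        group
      rw [szTG_sq, ← szTG_one hF] at h1
      have h2 := (szTG_inj hF h1).2
      apply sz_norm_inj hF
      rw [h2, hθ0, zero_mul]
    subst ha0
    have hb0 : b ≠ 0 := by
      rintro rfl
      apply ht1
      rw [szTG_one] at hab'
      have e : t = k * (k⁻¹ * t * k) * k⁻¹ := by group
      rw [e, ← hab']
      group
    have hα' : szTG hF 0 b • (k⁻¹ • α) = k⁻¹ • α := by
      rw [hab', ← mul_smul, mul_inv_cancel_right, mul_smul, htα]
    have hU := fx_U_le hm hF hfix (k⁻¹ • α) hb0 hα'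
    have hD := fx_D_le hm hF hfix (k⁻¹ • α) hU
    have hstab : MulAction.stabilizer ↥(Cfsg.Sz F m) (k⁻¹ • α) = szH F m := by
      have hle : szH F m ≤ MulAction.stabilizer ↥(Cfsg.Sz F m) (k⁻¹ • α) := by
        intro h hh
        obtain ⟨c, d, δ, hdec, -⟩ := sz_borel_decomp hm hF h (MulAction.mem_stabilizer_iff.mp hh)
        rw [MulAction.mem_stabilizer_iff, hdec, mul_smul, hD, hU]
      have hne : MulAction.stabilizer ↥(Cfsg.Sz F m) (k⁻¹ • α) ≠ ⊤ := by
        intro htop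
        obtain ⟨g, hg⟩ := hmove (k⁻¹ • α)
        apply hg
        have h1 : g ∈ MulAction.stabilizer ↥(Cfsg.Sz F m) (k⁻¹ • α) := by
          rw [htop]
          exact Subgroup.mem_top g
        exact MulAction.mem_stabilizer_iff.mp h1
      exact ((szH_coatom hm hF).le_iff_eq hne).mp hle
    have hsc : Nat.card ↥(szH F m) = (2 ^ (2 * m + 1)) ^ 2 * (2 ^ (2 * m + 1) - 1) :=
      sz_stab_card hm hF
    have hΩ : Nat.card Ω = (2 ^ (2 * m + 1)) ^ 2 + 1 := by
      have h1 := hidx (k⁻¹ • α)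
      rw [hstab, hsc, hGcard] at h1
      have hpos : 0 < (2 ^ (2 * m + 1)) ^ 2 * (2 ^ (2 * m + 1) - 1) :=
        Nat.mul_pos (by positivity) (by omega)
      apply Nat.eq_of_mul_eq_mul_left hpos
      rw [h1]
      ring
    refine ⟨hΩ, ?_⟩
    have hpt : ∀ ω : Ω, ω ≠ k⁻¹ • α →
        ∃ a b : F, ω = (szTG hF a b * szWG hF) • (k⁻¹ • α) := by
      intro ω hω
      obtain ⟨g, hg⟩ := htr (k⁻¹ • α) ω
      have hgH : g ∉ szH F m := by
        intro hgH
        rw [← hstab] at hgH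
        exact hω (hg.symm.trans (MulAction.mem_stabilizer_iff.mp hgH))
      have hmem : g • Cfsg.suzukiPointInfinity F ∈ Cfsg.suzukiOvoid F m :=
        sz_smul_mem g.2 sz_inf_mem
      rcases sz_mem_ovoid_iff.mp hmem with h | ⟨a, b, h⟩
      · exact absurd (MulAction.mem_stabilizer_iff.mpr h) hgH
      · refine ⟨a, b, ?_⟩
        have h2 : (szTG hF a b * szWG hF) • Cfsg.suzukiPointInfinity F = szPt F m a b := by
          rw [mul_smul]
          have e1 : szWG hF • Cfsg.suzukiPointInfinity F = Cfsg.suzukiPointZero F :=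
            szW_inf hθ.h2
          rw [e1]
          exact szT_zero hF a b
        have h3 : (szTG hF a b * szWG hF)⁻¹ * g ∈ szH F m := by
          show ((szTG hF a b * szWG hF)⁻¹ * g) • Cfsg.suzukiPointInfinity F =
            Cfsg.suzukiPointInfinity F
          rw [mul_smul, h, ← h2, inv_smul_smul]
        rw [← hstab, MulAction.mem_stabilizer_iff, mul_smul, hg] at h3
        exact inv_smul_eq_iff.mp h3
    have htrans : ∀ ω ω' : Ω, ω ≠ k⁻¹ • α → ω' ≠ k⁻¹ • α →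
        ∃ u : ↥(Cfsg.Sz F m), u • (k⁻¹ • α) = k⁻¹ • α ∧ u • ω = ω' := by
      intro ω ω' hω hω'
      obtain ⟨a, b, rfl⟩ := hpt ω hω
      obtain ⟨a', b', rfl⟩ := hpt ω' hω'
      refine ⟨szTG hF a' b' * (szTG hF a b)⁻¹, ?_, ?_⟩
      · rw [mul_smul, szTG_inv, hU, hU]
      · rw [← mul_smul]
        congr 1
        group
    intro a b c d hab hcd
    obtain ⟨g₁, hg₁⟩ := htr a (k⁻¹ • α)
    obtain ⟨g₂, hg₂⟩ := htr c (k⁻¹ • α)
    have h1 : g₁ • b ≠ k⁻¹ • α := by
      intro h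
      exact hab (smul_left_cancel g₁ (hg₁.trans h.symm))
    have h2 : g₂ • d ≠ k⁻¹ • α := by
      intro h
      exact hcd (smul_left_cancel g₂ (hg₂.trans h.symm))
    obtain ⟨u, hu1, hu2⟩ := htrans _ _ h1 h2
    refine ⟨g₂⁻¹ * u * g₁, ?_, ?_⟩
    · rw [mul_smul, mul_smul, hg₁, hu1, ← hg₂, inv_smul_smul]
    · rw [mul_smul, mul_smul, hu2, inv_smul_smul]
  · right
    have hno : ∀ t : ↥(Cfsg.Sz F m), t • α = α → t ≠ 1 → t * t = 1 → False :=
      fun t h1 h2 h3 => hinv ⟨t, h1, h2, h3⟩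
    have hst := fx_caseA hm hF hfix hfixc α hno g₀ hg₀ hg₀α
    have hΩ : Nat.card Ω = (2 ^ (2 * m + 1)) ^ 2 * ((2 ^ (2 * m + 1)) ^ 2 + 1) := by
      have h1 := hidx α
      rw [hst, hGcard] at h1
      have hpos : 0 < 2 ^ (2 * m + 1) - 1 := by omega
      apply Nat.eq_of_mul_eq_mul_left hpos
      rw [h1]
      ring
    refine ⟨hΩ, fun ω => ?_⟩
    have h1 := hidx ω
    have h2 := hidx α
    rw [hst] at h2
    have hpos : 0 < Nat.card Ω := Nat.card_pos
    exact Nat.eq_of_mul_eq_mul_right hpos (h1.trans h2.symm)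

end FxSzD

theorem fx_main {G : Type*} [Group G] [Finite G] (F : Type) [Field F] [Fintype F] (m : ℕ)
    (hm : 1 ≤ m) (hF : Fintype.card F = 2 ^ (2 * m + 1))
    (e : G ≃* ↥(Cfsg.Lie.Sz F (2 ^ (m + 1)))) {Ω : Type*} [Fintype Ω] [MulAction G Ω]
    (htr : MulAction.IsPretransitive G Ω)
    (hfix : ∀ g : G, g ≠ 1 → Nat.card (MulAction.fixedBy Ω g) ≤ 2)
    (hex : ∃ g : G, g ≠ 1 ∧ Nat.card (MulAction.fixedBy Ω g) = 2) :
    (Fintype.card Ω = Fintype.card F ^ 2 + 1 ∧ MulAction.IsMultiplyPretransitive G Ω 2) ∨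
    (Fintype.card Ω = Fintype.card F ^ 2 * (Fintype.card F ^ 2 + 1) ∧
      ∀ α : Ω, Nat.card (MulAction.stabilizer G α) = Fintype.card F - 1) := by
  haveI := htr
  let e' : G ≃* ↥(Cfsg.Sz F m) := e.trans (szBridge hm hF).symm
  letI inst : MulAction ↥(Cfsg.Sz F m) Ω := MulAction.compHom Ω (e'.symm.toMonoidHom)
  have hsm : ∀ (g : ↥(Cfsg.Sz F m)) (x : Ω), g • x = e'.symm g • x := fun g x => rfl
  have hsm' : ∀ (g : G) (x : Ω), e' g • x = g • x := by
    intro g x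
    rw [hsm, e'.symm_apply_apply]
  have hfb : ∀ g : ↥(Cfsg.Sz F m),
      MulAction.fixedBy Ω g = MulAction.fixedBy Ω (e'.symm g) := by
    intro g
    ext x
    exact Iff.rfl
  have core := fx_core hm hF (Ω := Ω)
    (fun x y => by
      obtain ⟨g, hg⟩ := MulAction.exists_smul_eq G x y
      exact ⟨e' g, by rw [hsm']; exact hg⟩)
    (fun g hg => by
      rw [hfb, ← Nat.card_coe_set_eq]
      exact hfix _ ((map_ne_one_iff e'.symm e'.symm.injective).mpr hg))
    (by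
      obtain ⟨g, hg1, hc⟩ := hex
      refine ⟨e' g, (map_ne_one_iff e' e'.injective).mpr hg1, ?_⟩
      rw [hfb, e'.symm_apply_apply, ← Nat.card_coe_set_eq]
      exact hc)
  rcases core with ⟨hcard, h2⟩ | ⟨hcard, hst⟩
  · left
    refine ⟨by rw [← Nat.card_eq_fintype_card, hcard, hF], ?_⟩
    rw [MulAction.is_two_pretransitive_iff]
    intro a b c d hab hcd
    obtain ⟨g, h1, h2'⟩ := h2 a b c d hab hcd
    exact ⟨e'.symm g, h1, h2'⟩
  · right
    refine ⟨by rw [← Nat.card_eq_fintype_card, hcard, hF], fun α => ?_⟩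
    rw [hF, ← hst α]
    apply Nat.card_congr
    exact
      { toFun := fun x => ⟨e' x.1, by
          rw [MulAction.mem_stabilizer_iff, hsm']
          exact MulAction.mem_stabilizer_iff.mp x.2⟩
        invFun := fun y => ⟨e'.symm y.1, by
          rw [MulAction.mem_stabilizer_iff, ← hsm]
          exact MulAction.mem_stabilizer_iff.mp y.2⟩
        left_inv := fun x => Subtype.ext (e'.symm_apply_apply x.1)
        right_inv := fun y => Subtype.ext (e'.apply_symm_apply y.1) }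

end Cfsg.Agent.Helper22
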