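import Cfsg.Agent.Helper22.SzOv

set_option autoImplicit false
set_option linter.style.haveILetI false
set_option linter.unusedSectionVars false
set_option linter.unusedSimpArgs false
set_option linter.unusedVariables false
set_option linter.unusedTactic false
set_option maxHeartbeats 1000000

open Cfsg
open Matrix
open scoped Pointwise

namespace Cfsg.Agent.Helper22

/-- The Tits endomorphism. -/
def szθ (F : Type*) [Field F] (m : ℕ) : F → F := fun t => t ^ 2 ^ (m + 1)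

/-- The translations, as elements of the special linear group. -/
def szT (F : Type*) [Field F] (m : ℕ) (a b : F) : Matrix.SpecialLinearGroup (Fin 4) F :=
  ⟨ovT (szθ F m) a b, ovT_det _ a b⟩

/-- The antidiagonal element. -/
def szW (F : Type*) [Field F] (h2 : (2 : F) = 0) : Matrix.SpecialLinearGroup (Fin 4) F :=
  ⟨Cfsg.suzukiForm F, ovW_det h2⟩

/-- The torus elements. -/
def szD (F : Type*) [Field F] (m : ℕ) (δ : Fˣ) : Matrix.SpecialLinearGroup (Fin 4) F :=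
  ⟨ovD (δ : F) ((δ : F) ^ 2 ^ m), ovD_det δ.ne_zero (pow_ne_zero _ δ.ne_zero)⟩

/-- The affine points of the ovoid. -/
def szPt (F : Type*) [Field F] (m : ℕ) (x y : F) : Projectivization F (Fin 4 → F) :=
  Projectivization.mk F (ovV (szθ F m) x y) (ov_std_ne_zero (ovV_std _ x y))

/-- The stabiliser of the point at infinity. -/
abbrev szH (F : Type*) [Field F] (m : ℕ) : Subgroup (Cfsg.Sz F m) :=
  MulAction.stabilizer (Cfsg.Sz F m) (Cfsg.suzukiPointInfinity F)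

theorem sz_smul_mk {F : Type*} [Field F] (g : Matrix.SpecialLinearGroup (Fin 4) F)
    {v w : Fin 4 → F} (hv : v ≠ 0) (hw : w ≠ 0) {a : F} (ha : a ≠ 0)
    (h : (g : Matrix (Fin 4) (Fin 4) F) *ᵥ v = a • w) :
    g • Projectivization.mk F v hv = Projectivization.mk F w hw := by
  rw [Projectivization.smul_mk, Projectivization.mk_eq_mk_iff]
  exact ⟨Units.mk0 a ha, h.symm⟩

theorem sz_smul_mk_iff {F : Type*} [Field F] (g : Matrix.SpecialLinearGroup (Fin 4) F)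
    {v w : Fin 4 → F} (hv : v ≠ 0) (hw : w ≠ 0)
    (h : g • Projectivization.mk F v hv = Projectivization.mk F w hw) :
    ∃ a : F, a ≠ 0 ∧ (g : Matrix (Fin 4) (Fin 4) F) *ᵥ v = a • w := by
  rw [Projectivization.smul_mk, Projectivization.mk_eq_mk_iff] at h
  obtain ⟨a, ha⟩ := h
  exact ⟨(a : F), a.ne_zero, ha.symm⟩

section SzGrp

variable {F : Type*} [Field F] [Fintype F] {m : ℕ}

theorem szθ_spec (hF : Fintype.card F = 2 ^ (2 * m + 1)) : OvTheta (szθ F m) := by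
  obtain ⟨θ, hθm, hθ⟩ := ov_theta_exists hF
  have e : θ = szθ F m := funext hθm
  rw [← e]
  exact hθ

theorem sz_exists_ne (hm : 1 ≤ m) (hF : Fintype.card F = 2 ^ (2 * m + 1)) :
    ∃ x : F, x ≠ 0 ∧ x ≠ 1 := by
  have h2 : 2 < Fintype.card F := by
    rw [hF]
    calc 2 < 2 ^ 2 := by norm_num
      _ ≤ 2 ^ (2 * m + 1) := Nat.pow_le_pow_right (by norm_num) (by omega)
  obtain ⟨a, b, c, hab, hac, hbc⟩ := Fintype.two_lt_card_iff.mp h2
  by_contra hcon
  have key : ∀ x : F, x = 0 ∨ x = 1 := fun x => by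
    by_cases hx : x = 0
    · exact Or.inl hx
    · right
      by_contra hx1
      exact hcon ⟨x, hx, hx1⟩
  rcases key a with ha | ha <;> rcases key b with hb | hb <;> rcases key c with hc | hc <;>
    first
    | exact hab (ha.trans hb.symm)
    | exact hac (ha.trans hc.symm)
    | exact hbc (hb.trans hc.symm)

theorem szθ_ns (hm : 1 ≤ m) (hF : Fintype.card F = 2 ^ (2 * m + 1)) :
    ∃ x : F, szθ F m x ≠ x ^ 2 := by
  have hθ := szθ_spec hF
  obtain ⟨x, hx0, hx1⟩ := sz_exists_ne hm hF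
  refine ⟨x, fun h => ?_⟩
  have h1 := hθ.hsq x
  rw [h] at h1
  have h2 : szθ F m (x ^ 2) = (x ^ 2) ^ 2 := by
    rw [pow_two x, hθ.hmul, h]
    ring
  rw [h2] at h1
  have h3 : (x * (x - 1)) ^ 2 = 0 := by
    linear_combination h1 + (x ^ 2 - x ^ 3) * hθ.h2
  have h4 : x * (x - 1) = 0 := (pow_eq_zero_iff (by norm_num)).mp h3
  rcases mul_eq_zero.mp h4 with h5 | h5
  · exact hx0 h5
  · exact hx1 (sub_eq_zero.mp h5)

theorem szD_aux (δ : F) : (δ ^ 2 ^ m) ^ 2 = szθ F m δ := by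
  show (δ ^ 2 ^ m) ^ 2 = δ ^ 2 ^ (m + 1)
  rw [← pow_mul, ← pow_succ]

/-! Membership in the Suzuki group. -/

theorem sz_mem_of_std (g : Matrix.SpecialLinearGroup (Fin 4) F)
    (h : ∀ v, IsStd (szθ F m) v → ∃ v' : Fin 4 → F, IsStd (szθ F m) v' ∧ ∃ a : F, a ≠ 0 ∧
      (g : Matrix (Fin 4) (Fin 4) F) *ᵥ v = a • v') : g ∈ Cfsg.Sz F m := by
  have hfin : (Cfsg.suzukiOvoid F m).Finite := Set.toFinite _
  refine (MulAction.mem_stabilizer_set_iff_smul_set_subset hfin).mpr ?_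
  rintro _ ⟨p, ⟨v, hv0, rfl, hv⟩, rfl⟩
  obtain ⟨v', hv', a, ha, hav⟩ := h v ((ov_std_def (θ := szθ F m) (fun t => rfl) v).mpr hv)
  have hv'0 := ov_std_ne_zero hv'
  refine ⟨v', hv'0, ?_, (ov_std_def (θ := szθ F m) (fun t => rfl) v').mp hv'⟩
  exact sz_smul_mk g hv0 hv'0 ha hav

theorem szT_mem (hF : Fintype.card F = 2 ^ (2 * m + 1)) (a b : F) :
    szT F m a b ∈ Cfsg.Sz F m :=
  sz_mem_of_std _ (fun v hv => ovT_std (szθ_spec hF) a b hv)

theorem szW_mem (hF : Fintype.card F = 2 ^ (2 * m + 1)) :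
    szW F (szθ_spec hF).h2 ∈ Cfsg.Sz F m :=
  sz_mem_of_std _ (fun v hv => ovW_std (szθ_spec hF) hv)

theorem szD_mem (hF : Fintype.card F = 2 ^ (2 * m + 1)) (δ : Fˣ) :
    szD F m δ ∈ Cfsg.Sz F m :=
  sz_mem_of_std _ (fun v hv => ovD_std (szθ_spec hF) δ.ne_zero (pow_ne_zero _ δ.ne_zero)
    (szD_aux _) hv)

theorem sz_smul_mem {g : Matrix.SpecialLinearGroup (Fin 4) F} (hg : g ∈ Cfsg.Sz F m)
    {p : Projectivization F (Fin 4 → F)} (hp : p ∈ Cfsg.suzukiOvoid F m) :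
    g • p ∈ Cfsg.suzukiOvoid F m := by
  have h1 : g • Cfsg.suzukiOvoid F m = Cfsg.suzukiOvoid F m := MulAction.mem_stabilizer_iff.mp hg
  have h2 : g • p ∈ g • Cfsg.suzukiOvoid F m := Set.smul_mem_smul_set hp
  rwa [h1] at h2

/-! The points. -/

theorem szPt_zero (hF : Fintype.card F = 2 ^ (2 * m + 1)) :
    szPt F m 0 0 = Cfsg.suzukiPointZero F :=
  ov_mk_congr (ovV_zero (szθ_spec hF)) _ _

theorem szPt_inj {x y x' y' : F} (h : szPt F m x y = szPt F m x' y') : x = x' ∧ y = y' := by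
  unfold szPt at h
  rw [Projectivization.mk_eq_mk_iff] at h
  obtain ⟨a, ha⟩ := h
  exact ovV_inj (t := (a : F)) ha.symm

theorem szPt_injective : Function.Injective (fun ab : F × F => szPt F m ab.1 ab.2) := by
  rintro ⟨x, y⟩ ⟨x', y'⟩ h
  obtain ⟨h1, h2⟩ := szPt_inj h
  exact Prod.ext h1 h2

theorem szPt_ne_inf (x y : F) : szPt F m x y ≠ Cfsg.suzukiPointInfinity F := by
  intro h
  unfold szPt Cfsg.suzukiPointInfinity at h
  rw [Projectivization.mk_eq_mk_iff] at h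
  obtain ⟨a, ha⟩ := h
  have h3 : (a : F) * 0 = 1 := congrFun ha 3
  rw [mul_zero] at h3
  exact zero_ne_one h3

theorem szPt_mem (x y : F) : szPt F m x y ∈ Cfsg.suzukiOvoid F m :=
  ov_std_mem (θ := szθ F m) (fun t => rfl) (ovV_std _ x y) _

theorem sz_inf_mem : Cfsg.suzukiPointInfinity F ∈ Cfsg.suzukiOvoid F m :=
  ov_std_mem (θ := szθ F m) (fun t => rfl) (Or.inl rfl) _

theorem sz_mem_ovoid_iff {p : Projectivization F (Fin 4 → F)} :
    p ∈ Cfsg.suzukiOvoid F m ↔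
      p = Cfsg.suzukiPointInfinity F ∨ ∃ x y : F, p = szPt F m x y := by
  constructor
  · rintro ⟨v, hv0, rfl, hv⟩
    rcases (ov_std_def (θ := szθ F m) (fun t => rfl) v).mpr hv with h | ⟨x, y, h⟩
    · exact Or.inl (ov_mk_congr h _ _)
    · exact Or.inr ⟨x, y, ov_mk_congr h _ _⟩
  · rintro (rfl | ⟨x, y, rfl⟩)
    · exact sz_inf_mem
    · exact szPt_mem x y

/-! The action of the special elements on the points. -/

theorem szT_inf (a b : F) :
    szT F m a b • Cfsg.suzukiPointInfinity F = Cfsg.suzukiPointInfinity F :=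
  sz_smul_mk _ _ _ one_ne_zero (by rw [one_smul]; exact ovT_e0 _ a b)

theorem szT_pt (hF : Fintype.card F = 2 ^ (2 * m + 1)) (a b x y : F) :
    szT F m a b • szPt F m x y = szPt F m (x + a) (y + b + szθ F m a * x) :=
  sz_smul_mk _ _ _ one_ne_zero (by rw [one_smul]; exact ovT_mulVec (szθ_spec hF) a b x y)

theorem szT_zero (hF : Fintype.card F = 2 ^ (2 * m + 1)) (a b : F) :
    szT F m a b • Cfsg.suzukiPointZero F = szPt F m a b := by
  rw [← szPt_zero hF, szT_pt hF, zero_add, zero_add, mul_zero, add_zero]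

theorem szD_inf (δ : Fˣ) :
    szD F m δ • Cfsg.suzukiPointInfinity F = Cfsg.suzukiPointInfinity F :=
  sz_smul_mk _ _ _ (mul_ne_zero (pow_ne_zero _ δ.ne_zero) δ.ne_zero) (ovD_e0 _ _)

theorem szD_zero (δ : Fˣ) :
    szD F m δ • Cfsg.suzukiPointZero F = Cfsg.suzukiPointZero F :=
  sz_smul_mk _ _ _ (inv_ne_zero (mul_ne_zero (pow_ne_zero _ δ.ne_zero) δ.ne_zero)) (ovD_e3 _ _)

theorem szD_pt (hF : Fintype.card F = 2 ^ (2 * m + 1)) (δ : Fˣ) (x y : F) :
    szD F m δ • szPt F m x y = szPt F m (δ * x) (szθ F m δ * δ * y) :=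
  sz_smul_mk _ _ _ (inv_ne_zero (mul_ne_zero (pow_ne_zero _ δ.ne_zero) δ.ne_zero))
    (ovD_V (szθ_spec hF) δ.ne_zero (pow_ne_zero _ δ.ne_zero) (szD_aux _) x y)

theorem szW_inf (h2 : (2 : F) = 0) :
    szW F h2 • Cfsg.suzukiPointInfinity F = Cfsg.suzukiPointZero F :=
  sz_smul_mk _ _ _ one_ne_zero (by
    rw [one_smul]
    show Cfsg.suzukiForm F *ᵥ ![1, 0, 0, 0] = ![0, 0, 0, 1]
    rw [ovW_mulVec]
    rfl)

/-! The torus as a group. -/

theorem szD_mul (δ ε : Fˣ) : szD F m (δ * ε) = szD F m δ * szD F m ε := by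
  apply Subtype.ext
  show ovD ((δ * ε : Fˣ) : F) (((δ * ε : Fˣ) : F) ^ 2 ^ m) =
    ovD (δ : F) ((δ : F) ^ 2 ^ m) * ovD (ε : F) ((ε : F) ^ 2 ^ m)
  rw [Units.val_mul, mul_pow, ovD_mul]

theorem szD_inj {δ ε : Fˣ} (h : szD F m δ = szD F m ε) : δ = ε := by
  have hmat : ovD (δ : F) ((δ : F) ^ 2 ^ m) = ovD (ε : F) ((ε : F) ^ 2 ^ m) :=
    congrArg Subtype.val h
  have h00 := congrFun (congrFun hmat 0) 0
  have h11 := congrFun (congrFun hmat 1) 1
  simp only [ovD, Matrix.diagonal_apply_eq] at h00 h11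
  have h00' : (δ : F) ^ 2 ^ m * δ = (ε : F) ^ 2 ^ m * ε := h00
  have h11' : (δ : F) ^ 2 ^ m = (ε : F) ^ 2 ^ m := h11
  rw [h11'] at h00'
  exact Units.ext (mul_left_cancel₀ (pow_ne_zero _ ε.ne_zero) h00')

/-! The two-point stabiliser. -/

theorem sz_two_pt (hm : 1 ≤ m) (hF : Fintype.card F = 2 ^ (2 * m + 1))
    {g : Matrix.SpecialLinearGroup (Fin 4) F} (hg : g ∈ Cfsg.Sz F m)
    (h0 : g • Cfsg.suzukiPointInfinity F = Cfsg.suzukiPointInfinity F)
    (h3 : g • Cfsg.suzukiPointZero F = Cfsg.suzukiPointZero F) :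
    ∃ δ : Fˣ, g = szD F m δ := by
  have hθ := szθ_spec hF
  obtain ⟨l0, hl0, e0⟩ := sz_smul_mk_iff g _ _ h0
  obtain ⟨l3, hl3, e3⟩ := sz_smul_mk_iff g _ _ h3
  obtain ⟨δ, κ, hδ, hκ, hκ2, hA⟩ := ov_two_pt hθ (szθ_ns hm hF)
    (g : Matrix (Fin 4) (Fin 4) F) (ov_form hF hg)
    (fun v hv => ov_stab_std (θ := szθ F m) (fun t => rfl) hg hv) e0 e3
  have hκ' : κ = δ ^ 2 ^ m := by
    have e : szθ F m δ = (δ ^ 2 ^ m) ^ 2 := (szD_aux δ).symm
    rw [e] at hκ2
    have h5 : (κ - δ ^ 2 ^ m) ^ 2 = 0 := by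
      linear_combination hκ2 + (δ ^ 2 ^ m * δ ^ 2 ^ m - κ * δ ^ 2 ^ m) * hθ.h2
    have h6 : κ - δ ^ 2 ^ m = 0 := (pow_eq_zero_iff (by norm_num)).mp h5
    linear_combination h6
  refine ⟨Units.mk0 δ hδ, ?_⟩
  apply Subtype.ext
  show (g : Matrix (Fin 4) (Fin 4) F) = ovD δ (δ ^ 2 ^ m)
  rw [hA, hκ']

theorem sz_two_pt_equiv (hm : 1 ≤ m) (hF : Fintype.card F = 2 ^ (2 * m + 1)) :
    Nonempty (↥(MulAction.stabilizer (Cfsg.Sz F m) (Cfsg.suzukiPointInfinity F) ⊓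
        MulAction.stabilizer (Cfsg.Sz F m) (Cfsg.suzukiPointZero F)) ≃* Fˣ) := by
  let f : Fˣ →ₙ* ↥(MulAction.stabilizer (Cfsg.Sz F m) (Cfsg.suzukiPointInfinity F) ⊓
        MulAction.stabilizer (Cfsg.Sz F m) (Cfsg.suzukiPointZero F)) :=
    { toFun := fun δ => ⟨⟨szD F m δ, szD_mem hF δ⟩, Subgroup.mem_inf.mpr ⟨szD_inf δ, szD_zero δ⟩⟩
      map_mul' := fun δ ε => Subtype.ext (Subtype.ext (szD_mul δ ε)) }
  have hinj : Function.Injective f := by
    intro δ ε h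
    have h1 := congrArg Subtype.val (congrArg Subtype.val h)
    exact szD_inj h1
  have hsurj : Function.Surjective f := by
    rintro ⟨⟨g, hg⟩, hy⟩
    obtain ⟨δ, hδ⟩ := sz_two_pt hm hF hg (Subgroup.mem_inf.mp hy).1 (Subgroup.mem_inf.mp hy).2
    exact ⟨δ, Subtype.ext (Subtype.ext hδ.symm)⟩
  exact ⟨(MulEquiv.ofBijective f ⟨hinj, hsurj⟩).symm⟩

/-! Orbits and orders. -/

theorem sz_zero_mem (hF : Fintype.card F = 2 ^ (2 * m + 1)) :
    Cfsg.suzukiPointZero F ∈ Cfsg.suzukiOvoid F m := by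
  rw [← szPt_zero hF]
  exact szPt_mem 0 0

theorem sz_stab_orbit (hF : Fintype.card F = 2 ^ (2 * m + 1)) :
    MulAction.orbit (szH F m) (Cfsg.suzukiPointZero F) =
      Set.range (fun ab : F × F => szPt F m ab.1 ab.2) := by
  ext p
  constructor
  · rintro ⟨⟨⟨g, hg⟩, hh⟩, rfl⟩
    have hh' : g • Cfsg.suzukiPointInfinity F = Cfsg.suzukiPointInfinity F := hh
    have hmem : g • Cfsg.suzukiPointZero F ∈ Cfsg.suzukiOvoid F m :=
      sz_smul_mem hg (sz_zero_mem hF)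
    rcases sz_mem_ovoid_iff.mp hmem with h | ⟨x, y, h⟩
    · exfalso
      have e : g • Cfsg.suzukiPointZero F = g • Cfsg.suzukiPointInfinity F := by rw [h, hh']
      have h' := MulAction.injective g e
      rw [← szPt_zero hF] at h'
      exact szPt_ne_inf 0 0 h'
    · exact ⟨(x, y), h.symm⟩
  · rintro ⟨⟨a, b⟩, rfl⟩
    exact ⟨⟨⟨szT F m a b, szT_mem hF a b⟩, szT_inf a b⟩, szT_zero hF a b⟩

theorem sz_stab_card (hm : 1 ≤ m) (hF : Fintype.card F = 2 ^ (2 * m + 1)) :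
    Nat.card (MulAction.stabilizer (Cfsg.Sz F m) (Cfsg.suzukiPointInfinity F)) =
      (2 ^ (2 * m + 1)) ^ 2 * (2 ^ (2 * m + 1) - 1) := by
  obtain ⟨e⟩ := sz_two_pt_equiv hm hF
  have h1 := Subgroup.card_eq_card_quotient_mul_card_subgroup
    (MulAction.stabilizer (szH F m) (Cfsg.suzukiPointZero F))
  have h2 : Nat.card (↥(szH F m) ⧸ MulAction.stabilizer (szH F m) (Cfsg.suzukiPointZero F)) =
      Nat.card (MulAction.orbit (szH F m) (Cfsg.suzukiPointZero F)) :=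
    (Nat.card_congr (MulAction.orbitEquivQuotientStabilizer (szH F m)
      (Cfsg.suzukiPointZero F))).symm
  have h3 : Nat.card (MulAction.orbit (szH F m) (Cfsg.suzukiPointZero F)) =
      (2 ^ (2 * m + 1)) ^ 2 := by
    rw [sz_stab_orbit hF, Nat.card_range_of_injective szPt_injective, Nat.card_prod,
      Nat.card_eq_fintype_card, hF]
    ring
  have h4 : Nat.card (MulAction.stabilizer (szH F m) (Cfsg.suzukiPointZero F)) =
      2 ^ (2 * m + 1) - 1 := by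
    let e2 : ↥(MulAction.stabilizer (szH F m) (Cfsg.suzukiPointZero F)) ≃
        ↥(MulAction.stabilizer (Cfsg.Sz F m) (Cfsg.suzukiPointInfinity F) ⊓
          MulAction.stabilizer (Cfsg.Sz F m) (Cfsg.suzukiPointZero F)) :=
      { toFun := fun x => ⟨x.1.1, Subgroup.mem_inf.mpr ⟨x.1.2, x.2⟩⟩
        invFun := fun y => ⟨⟨y.1, (Subgroup.mem_inf.mp y.2).1⟩, (Subgroup.mem_inf.mp y.2).2⟩
        left_inv := fun x => rfl
        right_inv := fun y => rfl }
    rw [Nat.card_congr e2, Nat.card_congr e.toEquiv, Nat.card_units, Nat.card_eq_fintype_card,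
      hF]
  rw [h1, h2, h3, h4]

theorem sz_orbit_inf (hF : Fintype.card F = 2 ^ (2 * m + 1)) :
    MulAction.orbit (Cfsg.Sz F m) (Cfsg.suzukiPointInfinity F) = Cfsg.suzukiOvoid F m := by
  have hθ := szθ_spec hF
  ext p
  constructor
  · rintro ⟨⟨g, hg⟩, rfl⟩
    exact sz_smul_mem hg sz_inf_mem
  · intro hp
    rcases sz_mem_ovoid_iff.mp hp with rfl | ⟨x, y, rfl⟩
    · exact ⟨1, one_smul _ _⟩
    · refine ⟨⟨szT F m x y * szW F hθ.h2, mul_mem (szT_mem hF x y) (szW_mem hF)⟩, ?_⟩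
      show (szT F m x y * szW F hθ.h2) • Cfsg.suzukiPointInfinity F = szPt F m x y
      rw [mul_smul, szW_inf, szT_zero hF]

theorem sz_ovoid_card (hF : Fintype.card F = 2 ^ (2 * m + 1)) :
    Nat.card ↥(Cfsg.suzukiOvoid F m) = (2 ^ (2 * m + 1)) ^ 2 + 1 := by
  have hset : Cfsg.suzukiOvoid F m = insert (Cfsg.suzukiPointInfinity F)
      (Set.range (fun ab : F × F => szPt F m ab.1 ab.2)) := by
    ext p
    rw [sz_mem_ovoid_iff, Set.mem_insert_iff, Set.mem_range]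
    constructor
    · rintro (h | ⟨x, y, h⟩)
      · exact Or.inl h
      · exact Or.inr ⟨(x, y), h.symm⟩
    · rintro (h | ⟨⟨x, y⟩, h⟩)
      · exact Or.inl h
      · exact Or.inr ⟨x, y, h.symm⟩
  have hnot : Cfsg.suzukiPointInfinity F ∉
      Set.range (fun ab : F × F => szPt F m ab.1 ab.2) := by
    rintro ⟨⟨x, y⟩, h⟩
    exact szPt_ne_inf x y h
  rw [Nat.card_coe_set_eq, hset, Set.ncard_insert_of_notMem hnot, ← Nat.card_coe_set_eq,
    Nat.card_range_of_injective szPt_injective, Nat.card_prod, Nat.card_eq_fintype_card, hF]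
  ring

theorem sz_card (hm : 1 ≤ m) (hF : Fintype.card F = 2 ^ (2 * m + 1)) :
    Nat.card (Cfsg.Sz F m) =
      (2 ^ (2 * m + 1)) ^ 2 * ((2 ^ (2 * m + 1)) ^ 2 + 1) * (2 ^ (2 * m + 1) - 1) := by
  have h1 := Subgroup.card_eq_card_quotient_mul_card_subgroup
    (MulAction.stabilizer (Cfsg.Sz F m) (Cfsg.suzukiPointInfinity F))
  have h2 : Nat.card (↥(Cfsg.Sz F m) ⧸
      MulAction.stabilizer (Cfsg.Sz F m) (Cfsg.suzukiPointInfinity F)) =
      Nat.card (MulAction.orbit (Cfsg.Sz F m) (Cfsg.suzukiPointInfinity F)) :=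
    (Nat.card_congr (MulAction.orbitEquivQuotientStabilizer (Cfsg.Sz F m)
      (Cfsg.suzukiPointInfinity F))).symm
  rw [h1, h2, sz_orbit_inf hF, sz_ovoid_card hF, sz_stab_card hm hF]
  ring

end SzGrp

end Cfsg.Agent.Helper22
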