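import Cfsg.Agent.Helper22.SzCyc

set_option autoImplicit false
set_option linter.style.haveILetI false
set_option linter.unusedSectionVars false
set_option linter.unusedSimpArgs false
set_option linter.unusedVariables false
set_option linter.unusedTactic false
set_option maxHeartbeats 1000000

open Cfsg
open Matrix
open scoped Pointwise

namespace Cfsg.Agent.Helper22

section Generic22

/-- Counting a set through the fibres of a map, all of the same size. -/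
theorem ncard_fibers22 {X Y : Type*} [Finite X] [Finite Y] (T : Set X) (f : X → Y)
    (good : Y → Prop) (k : ℕ) (hf : ∀ x ∈ T, good (f x))
    (hfib : ∀ y, good y → {x | x ∈ T ∧ f x = y}.ncard = k) :
    T.ncard = Nat.card {y // good y} * k := by
  classical
  have : Fintype X := Fintype.ofFinite X
  have : Fintype Y := Fintype.ofFinite Y
  have h1 : ∀ S : Set X, S.ncard = (Finset.univ.filter (fun x => x ∈ S)).card := by
    intro S
    rw [Set.ncard_eq_toFinset_card' S]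
    congr 1
    ext x
    simp
  have h2 : Nat.card {y // good y} = (Finset.univ.filter good).card := by
    rw [Nat.card_eq_fintype_card, Fintype.card_subtype]
  rw [h1, h2, Finset.card_eq_sum_card_fiberwise (f := f) (t := Finset.univ.filter good)
    (fun x hx => by simp at hx ⊢; exact hf x hx)]
  apply Finset.sum_const_nat
  intro y hy
  simp only [Finset.mem_filter, Finset.mem_univ, true_and] at hy
  rw [← hfib y hy, h1]
  congr 1
  ext x
  simp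

theorem card_le_of_fiber22 {G T : Type*} [Group G] [Finite G] (N A : Subgroup G) (c : G → T)
    (S : Set T) (hS : S.Finite) (hc : ∀ n ∈ N, c n ∈ S)
    (hfib : ∀ n ∈ N, ∀ n' ∈ N, c n = c n' → n⁻¹ * n' ∈ A) :
    Nat.card ↥N ≤ S.ncard * Nat.card ↥A := by
  classical
  haveI : Finite ↥S := hS.to_subtype
  have hsec : ∀ t : T, ∃ r : G, (∃ n ∈ N, c n = t) → (r ∈ N ∧ c r = t) := by
    intro t
    by_cases h : ∃ n ∈ N, c n = t
    · obtain ⟨n, hn, hcn⟩ := h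
      exact ⟨n, fun _ => ⟨hn, hcn⟩⟩
    · exact ⟨1, fun h' => absurd h' h⟩
  choose r hr using hsec
  have hr' : ∀ n ∈ N, r (c n) ∈ N ∧ c (r (c n)) = c n := fun n hn => hr (c n) ⟨n, hn, rfl⟩
  let f : ↥N → ↥S × ↥A := fun n =>
    (⟨c n.1, hc n.1 n.2⟩, ⟨(r (c n.1))⁻¹ * n.1,
      hfib _ (hr' n.1 n.2).1 _ n.2 (hr' n.1 n.2).2⟩)
  have hf : Function.Injective f := by
    intro n n' h
    have h1 : c n.1 = c n'.1 := congrArg (fun x : ↥S × ↥A => (x.1 : T)) h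
    have h2 : (r (c n.1))⁻¹ * n.1 = (r (c n'.1))⁻¹ * n'.1 :=
      congrArg (fun x : ↥S × ↥A => (x.2 : G)) h
    rw [h1] at h2
    exact Subtype.ext (mul_left_cancel h2)
  have h := Nat.card_le_card_of_injective f hf
  rw [Nat.card_prod, Nat.card_coe_set_eq] at h
  exact h

theorem poly_roots_bound22 {K R' : Type*} [Field K] [CommRing R'] [IsDomain R'] (ι : K →+* R')
    (χ : Polynomial K) (hχ : χ ≠ 0) (S : Set R')
    (hS : ∀ y ∈ S, Polynomial.eval₂ ι y χ = 0) : S.ncard ≤ χ.natDegree := by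
  classical
  have hsub : S ⊆ ((χ.map ι).roots.toFinset : Set R') := by
    intro y hy
    rw [Finset.mem_coe, Multiset.mem_toFinset, Polynomial.mem_roots (Polynomial.map_ne_zero hχ),
      Polynomial.IsRoot.def, Polynomial.eval_map]
    exact hS y hy
  calc S.ncard ≤ ((χ.map ι).roots.toFinset : Set R').ncard :=
        Set.ncard_le_ncard hsub (Finset.finite_toSet _)
    _ = (χ.map ι).roots.toFinset.card := Set.ncard_coe_finset _
    _ ≤ Multiset.card (χ.map ι).roots := Multiset.toFinset_card_le _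
    _ ≤ χ.natDegree := Polynomial.card_roots_map_le_natDegree χ

theorem mem_cent22 {G : Type*} [Group G] {g z : G} :
    z ∈ Subgroup.centralizer ({g} : Set G) ↔ z * g = g * z := by
  rw [Subgroup.mem_centralizer_iff]
  constructor
  · intro h
    exact (h g (Set.mem_singleton g)).symm
  · intro h x hx
    rw [Set.mem_singleton_iff.mp hx]
    exact h.symm

theorem card_cent_conj22 {G : Type*} [Group G] (h y : G) :
    Nat.card ↥(Subgroup.centralizer ({h * y * h⁻¹} : Set G)) =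
      Nat.card ↥(Subgroup.centralizer ({y} : Set G)) := by
  apply Nat.card_congr
  exact
    { toFun := fun z => ⟨h⁻¹ * z.1 * h, by
        rw [mem_cent22]
        have hz := mem_cent22.mp z.2
        have e1 : h⁻¹ * z.1 * h * y = h⁻¹ * (z.1 * (h * y * h⁻¹)) * h := by group
        have e2 : y * (h⁻¹ * z.1 * h) = h⁻¹ * ((h * y * h⁻¹) * z.1) * h := by group
        rw [e1, e2, hz]⟩
      invFun := fun z => ⟨h * z.1 * h⁻¹, by
        rw [mem_cent22]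
        have hz := mem_cent22.mp z.2
        have e1 : h * z.1 * h⁻¹ * (h * y * h⁻¹) = h * (z.1 * y) * h⁻¹ := by group
        have e2 : h * y * h⁻¹ * (h * z.1 * h⁻¹) = h * (y * z.1) * h⁻¹ := by group
        rw [e1, e2, hz]⟩
      left_inv := fun z => Subtype.ext (by
        show h * (h⁻¹ * z.1 * h) * h⁻¹ = z.1
        group)
      right_inv := fun z => Subtype.ext (by
        show h⁻¹ * (h * z.1 * h⁻¹) * h = z.1
        group) }

end Generic22

section LinBound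

variable {F : Type*} [Field F] [Fintype F]

theorem lin_conj_bound {p : ℕ} [Fact p.Prime] {g : Matrix (Fin 4) (Fin 4) F} (hg : g ^ p = 1)
    (hg1 : g ≠ 1) (hpF : (p : F) ≠ 0)
    (hp : ∀ d, 1 ≤ d → d ≤ 3 → ¬ (Fintype.card F ^ d ≡ 1 [MOD p])) :
    {y : Matrix (Fin 4) (Fin 4) F | y * g = g * y ∧
      Polynomial.aeval y g.charpoly = 0}.ncard ≤ 4 := by
  classical
  have hfield := lin_field hg hg1 hpF hp
  obtain ⟨R, hR⟩ : ∃ R : Subring (Matrix (Fin 4) (Fin 4) F),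
      R = Subring.centralizer ({g} : Set (Matrix (Fin 4) (Fin 4) F)) := ⟨_, rfl⟩
  rw [← hR] at hfield
  have hmem : ∀ y : Matrix (Fin 4) (Fin 4) F, y * g = g * y → y ∈ R := by
    intro y hy
    rw [hR, Subring.mem_centralizer_iff]
    intro x hx
    rw [Set.mem_singleton_iff.mp hx]
    exact hy.symm
  obtain ⟨ι, hι⟩ : ∃ ι : F →+* ↥R, ∀ c : F, ((ι c : ↥R) : Matrix (Fin 4) (Fin 4) F) =
      algebraMap F (Matrix (Fin 4) (Fin 4) F) c :=
    ⟨(algebraMap F (Matrix (Fin 4) (Fin 4) F)).codRestrict R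
      (fun c => hmem _ (Algebra.commutes c g)), fun c => rfl⟩
  have key : ∀ y : ↥R, Polynomial.aeval (y : Matrix (Fin 4) (Fin 4) F) g.charpoly = 0 →
      Polynomial.eval₂ ι y g.charpoly = 0 := by
    intro y hy
    apply Subtype.ext
    have h1 := Polynomial.hom_eval₂ g.charpoly ι R.subtype y
    have h2 : R.subtype.comp ι = algebraMap F (Matrix (Fin 4) (Fin 4) F) :=
      RingHom.ext (fun c => hι c)
    rw [h2, ← Polynomial.aeval_def] at h1
    exact h1.trans hy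
  have hb : {y : ↥R | Polynomial.aeval (y : Matrix (Fin 4) (Fin 4) F) g.charpoly = 0}.ncard ≤
      g.charpoly.natDegree := by
    letI : CommRing ↥R := { (inferInstance : Ring ↥R) with mul_comm := hfield.mul_comm }
    haveI : IsDomain ↥R := hfield.isDomain
    exact poly_roots_bound22 ι g.charpoly (Matrix.charpoly_monic g).ne_zero _
      (fun y hy => key y hy)
  rw [Matrix.charpoly_natDegree_eq_dim, Fintype.card_fin] at hb
  have hsub : {y : Matrix (Fin 4) (Fin 4) F | y * g = g * y ∧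
      Polynomial.aeval y g.charpoly = 0} ⊆ Subtype.val ''
      {y : ↥R | Polynomial.aeval (y : Matrix (Fin 4) (Fin 4) F) g.charpoly = 0} := by
    rintro y ⟨hy1, hy2⟩
    exact ⟨⟨y, hmem y hy1⟩, hy2, rfl⟩
  calc {y : Matrix (Fin 4) (Fin 4) F | y * g = g * y ∧
        Polynomial.aeval y g.charpoly = 0}.ncard
      ≤ (Subtype.val '' {y : ↥R | Polynomial.aeval (y : Matrix (Fin 4) (Fin 4) F)
          g.charpoly = 0}).ncard := Set.ncard_le_ncard hsub (Set.toFinite _)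
    _ ≤ {y : ↥R | Polynomial.aeval (y : Matrix (Fin 4) (Fin 4) F) g.charpoly = 0}.ncard :=
        Set.ncard_image_le (Set.toFinite _)
    _ ≤ 4 := hb

end LinBound

section SzHall

variable {F : Type*} [Field F] [Fintype F] {m : ℕ}

/-- Fixed point free elements of the Suzuki group. -/
def szFpf (g : ↥(Cfsg.Sz F m)) : Prop :=
  ∀ p ∈ Cfsg.suzukiOvoid F m, (g : Matrix.SpecialLinearGroup (Fin 4) F) • p ≠ p

theorem szFpf_ne_one {g : ↥(Cfsg.Sz F m)} (hg : szFpf g) : g ≠ 1 := by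
  intro h
  rw [h] at hg
  exact hg _ sz_inf_mem (one_smul _ _)

theorem szFpf_conj {g : ↥(Cfsg.Sz F m)} (hg : szFpf g) (h : ↥(Cfsg.Sz F m)) :
    szFpf (h * g * h⁻¹) := by
  intro p hp hfix
  have hfix' : ((h : Matrix.SpecialLinearGroup (Fin 4) F) *
      (g : Matrix.SpecialLinearGroup (Fin 4) F) *
      (h : Matrix.SpecialLinearGroup (Fin 4) F)⁻¹) • p = p := hfix
  rw [mul_smul, mul_smul] at hfix'
  exact hg ((h : Matrix.SpecialLinearGroup (Fin 4) F)⁻¹ • p)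
    (sz_smul_mem (inv_mem h.2) hp) (eq_inv_smul_iff.mpr hfix')

theorem sz_N_odd (m : ℕ) : ¬ 2 ∣ (2 ^ (2 * m + 1)) ^ 2 + 1 := by
  have e : (2 ^ (2 * m + 1)) ^ 2 + 1 = 2 * (2 ^ (2 * m) * 2 ^ (2 * m + 1)) + 1 := by ring
  rw [e]
  omega

theorem sz_fpf_of_comm (hm : 1 ≤ m) (hF : Fintype.card F = 2 ^ (2 * m + 1))
    {g : ↥(Cfsg.Sz F m)} (hg : szFpf g) (x : ↥(Cfsg.Sz F m)) (hcomm : g * x = x * g)
    (hn : x ≠ 1) : szFpf x := by
  intro p hp hfix
  have hcomm' : (g : Matrix.SpecialLinearGroup (Fin 4) F) *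
      (x : Matrix.SpecialLinearGroup (Fin 4) F) =
      (x : Matrix.SpecialLinearGroup (Fin 4) F) * (g : Matrix.SpecialLinearGroup (Fin 4) F) :=
    congrArg Subtype.val hcomm
  have hgp : (x : Matrix.SpecialLinearGroup (Fin 4) F) •
      ((g : Matrix.SpecialLinearGroup (Fin 4) F) • p) =
      (g : Matrix.SpecialLinearGroup (Fin 4) F) • p := by
    rw [← mul_smul, ← hcomm', mul_smul, hfix]
  obtain ⟨k, hk, hk1, hk2⟩ := sz_norm hF hp (sz_smul_mem g.2 hp) (fun h => hg p hp h.symm)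
  have h1 : (k * (x : Matrix.SpecialLinearGroup (Fin 4) F) * k⁻¹) •
      Cfsg.suzukiPointInfinity F = Cfsg.suzukiPointInfinity F := by
    rw [mul_smul, mul_smul, ← hk1, inv_smul_smul, hfix]
  have h2 : (k * (x : Matrix.SpecialLinearGroup (Fin 4) F) * k⁻¹) •
      Cfsg.suzukiPointZero F = Cfsg.suzukiPointZero F := by
    rw [mul_smul, mul_smul, ← hk2, inv_smul_smul, hgp]
  obtain ⟨δ, hδ⟩ := sz_two_pt hm hF (mul_mem (mul_mem hk x.2) (inv_mem hk)) h1 h2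
  obtain ⟨K, hK⟩ : ∃ K : ↥(Cfsg.Sz F m), (K : Matrix.SpecialLinearGroup (Fin 4) F) = k :=
    ⟨⟨k, hk⟩, rfl⟩
  have hconj : K * x * K⁻¹ = szDG hF δ := by
    apply Subtype.ext
    show (K : Matrix.SpecialLinearGroup (Fin 4) F) * (x : Matrix.SpecialLinearGroup (Fin 4) F) *
      (K : Matrix.SpecialLinearGroup (Fin 4) F)⁻¹ = szD F m δ
    rw [hK]
    exact hδ
  have hδ1 : δ ≠ 1 := by
    intro h
    apply hn
    have e : x = K⁻¹ * (K * x * K⁻¹) * K := by group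
    rw [e, hconj, h, szDG_one]
    group
  have hcomm2 : (K * g * K⁻¹) * szDG hF δ = szDG hF δ * (K * g * K⁻¹) := by
    rw [← hconj]
    have e1 : K * g * K⁻¹ * (K * x * K⁻¹) = K * (g * x) * K⁻¹ := by group
    have e2 : K * x * K⁻¹ * (K * g * K⁻¹) = K * (x * g) * K⁻¹ := by group
    rw [e1, e2, hcomm]
  obtain ⟨ε, hε⟩ := sz_cent_torus hm hF δ hδ1 _ hcomm2
  have h3 : (k * (g : Matrix.SpecialLinearGroup (Fin 4) F) * k⁻¹) •
      Cfsg.suzukiPointInfinity F = Cfsg.suzukiPointZero F := by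
    rw [mul_smul, mul_smul, ← hk1, inv_smul_smul, hk2]
  have h4 : (k * (g : Matrix.SpecialLinearGroup (Fin 4) F) * k⁻¹) = szD F m ε := by
    rw [← hK]
    exact congrArg Subtype.val hε
  rw [h4, szD_inf] at h3
  exact szPt_ne_inf 0 0 ((szPt_zero hF).trans h3.symm)

theorem sz_fpf_prime_dvd (hF : Fintype.card F = 2 ^ (2 * m + 1)) {x : ↥(Cfsg.Sz F m)}
    (hx : szFpf x) {p : ℕ} (hp : p.Prime) (hxo : orderOf x = p) :
    p ∣ (2 ^ (2 * m + 1)) ^ 2 + 1 := by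
  haveI : Fact p.Prime := ⟨hp⟩
  have hPG : IsPGroup p ↥(Subgroup.zpowers x) :=
    IsPGroup.of_card (n := 1) (by rw [Nat.card_zpowers, hxo, pow_one])
  have hcong := hPG.card_modEq_card_fixedPoints ↥(Cfsg.suzukiOvoid F m)
  have hempty : IsEmpty ↥(MulAction.fixedPoints ↥(Subgroup.zpowers x)
      ↥(Cfsg.suzukiOvoid F m)) := by
    constructor
    rintro ⟨a, ha⟩
    have h := ha ⟨x, Subgroup.mem_zpowers x⟩
    exact hx a.1 a.2 (congrArg Subtype.val h)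
  rw [sz_ovoid_card hF, Nat.card_eq_zero.mpr (Or.inl hempty)] at hcong
  exact (Nat.modEq_zero_iff_dvd).mp hcong

theorem sz_fpf_prime (hm : 1 ≤ m) (hF : Fintype.card F = 2 ^ (2 * m + 1))
    {g : ↥(Cfsg.Sz F m)} (hg : szFpf g) :
    ∃ (p : ℕ) (x : ↥(Cfsg.Sz F m)), p.Prime ∧ p ≠ 2 ∧ p ∣ (2 ^ (2 * m + 1)) ^ 2 + 1 ∧
      orderOf x = p ∧ szFpf x ∧ ∃ j : ℕ, x = g ^ j := by
  have hg1 := szFpf_ne_one hg
  have hord : orderOf g ≠ 1 := fun h => hg1 (orderOf_eq_one_iff.mp h)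
  have hpos : 0 < orderOf g := orderOf_pos g
  obtain ⟨p, hp, hpd⟩ := Nat.exists_prime_and_dvd hord
  obtain ⟨x, hx⟩ : ∃ x : ↥(Cfsg.Sz F m), x = g ^ (orderOf g / p) := ⟨_, rfl⟩
  have hxo : orderOf x = p := by
    rw [hx]
    exact orderOf_pow_orderOf_div hpos.ne' hpd
  have hx1 : x ≠ 1 := by
    intro h
    rw [h, orderOf_one] at hxo
    exact hp.one_lt.ne hxo
  have hgx : g * x = x * g := by rw [hx, ← pow_succ', ← pow_succ]
  have hxfix := sz_fpf_of_comm hm hF hg x hgx hx1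
  have hdvd := sz_fpf_prime_dvd hF hxfix hp hxo
  have hp2 : p ≠ 2 := by
    intro h
    rw [h] at hdvd
    exact sz_N_odd m hdvd
  exact ⟨p, x, hp, hp2, hdvd, hxo, hxfix, _, hx⟩

theorem sz_fpf_cent_comm (hm : 1 ≤ m) (hF : Fintype.card F = 2 ^ (2 * m + 1))
    {g : ↥(Cfsg.Sz F m)} (hg : szFpf g) {y z : ↥(Cfsg.Sz F m)}
    (hy : y * g = g * y) (hz : z * g = g * z) : y * z = z * y := by
  obtain ⟨p, x, hp, hp2, hdvd, hxo, hxfix, j, hx⟩ := sz_fpf_prime hm hF hg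
  haveI : Fact p.Prime := ⟨hp⟩
  obtain ⟨hpF, hord4⟩ := sz_lin_hyp hF hp2 hdvd
  have hx1 : x ≠ 1 := szFpf_ne_one hxfix
  have hxp : x ^ p = 1 := by
    have hxx := pow_orderOf_eq_one x
    rwa [hxo] at hxx
  have hX : (((x : Matrix.SpecialLinearGroup (Fin 4) F)) : Matrix (Fin 4) (Fin 4) F) ^ p = 1 := by
    have h := congrArg (fun z : ↥(Cfsg.Sz F m) =>
      ((z : Matrix.SpecialLinearGroup (Fin 4) F) : Matrix (Fin 4) (Fin 4) F)) hxp
    simpa using h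
  have hX1 : (((x : Matrix.SpecialLinearGroup (Fin 4) F)) : Matrix (Fin 4) (Fin 4) F) ≠ 1 := by
    intro h
    exact hx1 (Subtype.ext (Subtype.ext h))
  have hyx : y * x = x * y := by
    rw [hx]
    exact (Commute.pow_right (show Commute y g from hy) _).eq
  have hzx : z * x = x * z := by
    rw [hx]
    exact (Commute.pow_right (show Commute z g from hz) _).eq
  have hfin := lin_comm hX hX1 hpF hord4
    (y := ((y : Matrix.SpecialLinearGroup (Fin 4) F) : Matrix (Fin 4) (Fin 4) F))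
    (z := ((z : Matrix.SpecialLinearGroup (Fin 4) F) : Matrix (Fin 4) (Fin 4) F))
    (congrArg (fun t : ↥(Cfsg.Sz F m) =>
      ((t : Matrix.SpecialLinearGroup (Fin 4) F) : Matrix (Fin 4) (Fin 4) F)) hyx)
    (congrArg (fun t : ↥(Cfsg.Sz F m) =>
      ((t : Matrix.SpecialLinearGroup (Fin 4) F) : Matrix (Fin 4) (Fin 4) F)) hzx)
  exact Subtype.ext (Subtype.ext hfin)

theorem sz_fpf_cent_eq (hm : 1 ≤ m) (hF : Fintype.card F = 2 ^ (2 * m + 1))
    {g : ↥(Cfsg.Sz F m)} (hg : szFpf g) {y : ↥(Cfsg.Sz F m)} (hy : y * g = g * y)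
    (hy1 : y ≠ 1) :
    Subgroup.centralizer ({y} : Set ↥(Cfsg.Sz F m)) =
      Subgroup.centralizer ({g} : Set ↥(Cfsg.Sz F m)) := by
  have hyf : szFpf y := sz_fpf_of_comm hm hF hg y hy.symm hy1
  ext z
  rw [mem_cent22, mem_cent22]
  constructor
  · intro hz
    exact sz_fpf_cent_comm hm hF hyf hz hy.symm
  · intro hz
    exact sz_fpf_cent_comm hm hF hg hz hy

theorem sz_fpf_cent_cyclic (hm : 1 ≤ m) (hF : Fintype.card F = 2 ^ (2 * m + 1))
    {g : ↥(Cfsg.Sz F m)} (hg : szFpf g) :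
    IsCyclic ↥(Subgroup.centralizer ({g} : Set ↥(Cfsg.Sz F m))) := by
  obtain ⟨p, x, hp, hp2, hdvd, hxo, hxfix, j, hx⟩ := sz_fpf_prime hm hF hg
  haveI : Fact p.Prime := ⟨hp⟩
  have hx1 := szFpf_ne_one hxfix
  have hxp : x ^ p = 1 := by
    have hxx := pow_orderOf_eq_one x
    rwa [hxo] at hxx
  apply sz_cyc_irr hm hF hp2 hdvd _ x hxp hx1
  intro y hy
  rw [mem_cent22] at hy
  rw [hx]
  exact (Commute.pow_right (show Commute y g from hy) _).eq

theorem sz_N_prime_coprime {r : ℕ} (hr : r.Prime) (hrN : r ∣ (2 ^ (2 * m + 1)) ^ 2 + 1) :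
    ¬ r ∣ (2 ^ (2 * m + 1)) ^ 2 * (2 ^ (2 * m + 1) - 1) := by
  intro h
  have hodd := sz_N_odd m
  rcases (Nat.Prime.dvd_mul hr).mp h with h1 | h1
  · have h2 : r ∣ 1 := (Nat.dvd_add_right h1).mp hrN
    exact hr.one_lt.ne' (Nat.dvd_one.mp h2)
  · obtain ⟨t, ht⟩ : ∃ t, 2 ^ (2 * m + 1) = t + 1 :=
      ⟨2 ^ (2 * m + 1) - 1, by have := Nat.one_le_two_pow (n := 2 * m + 1); omega⟩
    rw [ht, Nat.add_sub_cancel] at h1
    rw [ht] at hrN hodd
    have e : (t + 1) ^ 2 + 1 = t * (t + 2) + 2 := by ring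
    rw [e] at hrN hodd
    have h2 : r ∣ 2 := (Nat.dvd_add_right (Dvd.dvd.mul_right h1 _)).mp hrN
    have h3 : r = 2 := (Nat.prime_dvd_prime_iff_eq hr Nat.prime_two).mp h2
    rw [h3] at hrN
    exact hodd hrN

theorem sz_fpf_cent_card_dvd (hm : 1 ≤ m) (hF : Fintype.card F = 2 ^ (2 * m + 1))
    {g : ↥(Cfsg.Sz F m)} (hg : szFpf g) :
    Nat.card ↥(Subgroup.centralizer ({g} : Set ↥(Cfsg.Sz F m))) ∣
      (2 ^ (2 * m + 1)) ^ 2 + 1 := by
  have hcard := sz_card hm hF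
  have hdvd : Nat.card ↥(Subgroup.centralizer ({g} : Set ↥(Cfsg.Sz F m))) ∣
      Nat.card ↥(Cfsg.Sz F m) := Subgroup.card_subgroup_dvd_card _
  rw [hcard] at hdvd
  have e : (2 ^ (2 * m + 1)) ^ 2 * ((2 ^ (2 * m + 1)) ^ 2 + 1) * (2 ^ (2 * m + 1) - 1) =
      ((2 ^ (2 * m + 1)) ^ 2 + 1) * ((2 ^ (2 * m + 1)) ^ 2 * (2 ^ (2 * m + 1) - 1)) := by ring
  rw [e] at hdvd
  apply Nat.Coprime.dvd_of_dvd_mul_right _ hdvd
  apply Nat.coprime_of_dvd
  intro r hr hrA hrq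
  haveI : Fact r.Prime := ⟨hr⟩
  obtain ⟨y, hy⟩ := exists_prime_orderOf_dvd_card' r hrA
  have hy1 : (y : ↥(Cfsg.Sz F m)) ≠ 1 := by
    intro h
    have h' : y = 1 := Subtype.ext h
    rw [h', orderOf_one] at hy
    exact hr.one_lt.ne hy
  have hyc : (y : ↥(Cfsg.Sz F m)) * g = g * y := mem_cent22.mp y.2
  have hyf := sz_fpf_of_comm hm hF hg (y : ↥(Cfsg.Sz F m)) hyc.symm hy1
  have hyo : orderOf (y : ↥(Cfsg.Sz F m)) = r := by
    rw [Subgroup.orderOf_coe]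
    exact hy
  exact sz_N_prime_coprime hr (sz_fpf_prime_dvd hF hyf hr hyo) hrq

theorem sz_N_dvd_ge {a : ℕ} (ha : a ∣ (2 ^ (2 * m + 1)) ^ 2 + 1) (ha1 : a ≠ 1) : 5 ≤ a := by
  have hN2 : ((2 ^ (2 * m + 1)) ^ 2 + 1) % 2 = 1 := by
    have e : (2 ^ (2 * m + 1)) ^ 2 + 1 = 2 * (2 ^ (2 * m) * 2 ^ (2 * m + 1)) + 1 := by ring
    rw [e]
    omega
  have hN3 : ((2 ^ (2 * m + 1)) ^ 2 + 1) % 3 = 2 := by
    have e : (2 ^ (2 * m + 1)) ^ 2 = 4 ^ (2 * m + 1) := by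
      rw [← pow_mul, mul_comm, pow_mul]
      norm_num
    rw [e, Nat.add_mod, Nat.pow_mod]
    norm_num
  have hpos : 0 < a := Nat.pos_of_dvd_of_pos ha (by positivity)
  by_contra hlt
  push_neg at hlt
  obtain ⟨c, hc⟩ := ha
  rw [hc] at hN2 hN3
  interval_cases a
  · exact ha1 rfl
  · omega
  · omega
  · omega

theorem sz_fpf_sylow (hm : 1 ≤ m) (hF : Fintype.card F = 2 ^ (2 * m + 1))
    {g : ↥(Cfsg.Sz F m)} (hg : szFpf g) {r : ℕ} (hr : r.Prime)
    (hrA : r ∣ Nat.card ↥(Subgroup.centralizer ({g} : Set ↥(Cfsg.Sz F m)))) :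
    ∃ (P : Sylow r ↥(Cfsg.Sz F m)) (y : ↥(Cfsg.Sz F m)),
      y ∈ (P : Subgroup ↥(Cfsg.Sz F m)) ∧ y ≠ 1 ∧ y * g = g * y ∧
      (P : Subgroup ↥(Cfsg.Sz F m)) ≤ Subgroup.centralizer ({g} : Set ↥(Cfsg.Sz F m)) := by
  haveI : Fact r.Prime := ⟨hr⟩
  obtain ⟨y, hy⟩ := exists_prime_orderOf_dvd_card' r hrA
  have hy1 : (y : ↥(Cfsg.Sz F m)) ≠ 1 := by
    intro h
    have h' : y = 1 := Subtype.ext h
    rw [h', orderOf_one] at hy
    exact hr.one_lt.ne hy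
  have hyc : (y : ↥(Cfsg.Sz F m)) * g = g * y := mem_cent22.mp y.2
  have hyf := sz_fpf_of_comm hm hF hg (y : ↥(Cfsg.Sz F m)) hyc.symm hy1
  have hyo : orderOf (y : ↥(Cfsg.Sz F m)) = r := by
    rw [Subgroup.orderOf_coe]
    exact hy
  have hrN := sz_fpf_prime_dvd hF hyf hr hyo
  have hr2 : r ≠ 2 := by
    intro h
    rw [h] at hrN
    exact sz_N_odd m hrN
  have hPG : IsPGroup r ↥(Subgroup.zpowers (y : ↥(Cfsg.Sz F m))) :=
    IsPGroup.of_card (n := 1) (by rw [Nat.card_zpowers, hyo, pow_one])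
  obtain ⟨P, hP⟩ := hPG.exists_le_sylow
  have hyP : (y : ↥(Cfsg.Sz F m)) ∈ (P : Subgroup ↥(Cfsg.Sz F m)) :=
    hP (Subgroup.mem_zpowers _)
  haveI hcyc : IsCyclic ↥(P : Subgroup ↥(Cfsg.Sz F m)) := sz_sylow_odd_cyclic hm hF hr2 P
  refine ⟨P, y, hyP, hy1, hyc, ?_⟩
  intro z hz
  have hzy : z * (y : ↥(Cfsg.Sz F m)) = (y : ↥(Cfsg.Sz F m)) * z := by
    have h := mul_comm' (⟨z, hz⟩ : ↥(P : Subgroup ↥(Cfsg.Sz F m))) ⟨y, hyP⟩
    exact congrArg Subtype.val h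
  have hCeq := sz_fpf_cent_eq hm hF hg hyc hy1
  rw [← hCeq, mem_cent22]
  exact hzy

theorem sz_fpf_conj_of_prime (hm : 1 ≤ m) (hF : Fintype.card F = 2 ^ (2 * m + 1))
    {g g' : ↥(Cfsg.Sz F m)} (hg : szFpf g) (hg' : szFpf g') {r : ℕ} (hr : r.Prime)
    (hrA : r ∣ Nat.card ↥(Subgroup.centralizer ({g} : Set ↥(Cfsg.Sz F m))))
    (hrA' : r ∣ Nat.card ↥(Subgroup.centralizer ({g'} : Set ↥(Cfsg.Sz F m)))) :
    ∃ h : ↥(Cfsg.Sz F m), ∀ z : ↥(Cfsg.Sz F m),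
      z * g' = g' * z ↔ (h⁻¹ * z * h) * g = g * (h⁻¹ * z * h) := by
  haveI : Fact r.Prime := ⟨hr⟩
  obtain ⟨P, y, hyP, hy1, hyc, hPA⟩ := sz_fpf_sylow hm hF hg hr hrA
  obtain ⟨P', y', hyP', hy1', hyc', hPA'⟩ := sz_fpf_sylow hm hF hg' hr hrA'
  obtain ⟨h, hh⟩ := MulAction.exists_smul_eq ↥(Cfsg.Sz F m) P P'
  refine ⟨h, ?_⟩
  have hP' : (P' : Subgroup ↥(Cfsg.Sz F m)) =
      (P : Subgroup ↥(Cfsg.Sz F m)).map (MulAut.conj h).toMonoidHom := by
    rw [← hh, Sylow.coe_subgroup_smul]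
    rfl
  have hmemP' : h * y * h⁻¹ ∈ (P' : Subgroup ↥(Cfsg.Sz F m)) := by
    rw [hP']
    exact Subgroup.mem_map.mpr ⟨y, hyP, rfl⟩
  have hy'' : h * y * h⁻¹ ≠ 1 := by
    intro e
    apply hy1
    have e' : y = h⁻¹ * (h * y * h⁻¹) * h := by group
    rw [e', e]
    group
  have hc' : (h * y * h⁻¹) * g' = g' * (h * y * h⁻¹) := mem_cent22.mp (hPA' hmemP')
  have hC1 := sz_fpf_cent_eq hm hF hg' hc' hy''
  have hC2 := sz_fpf_cent_eq hm hF hg hyc hy1
  intro z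
  have iff1 : z * g' = g' * z ↔ z * (h * y * h⁻¹) = (h * y * h⁻¹) * z := by
    rw [← mem_cent22 (g := g') (z := z), ← hC1, mem_cent22]
  have iff2 : (h⁻¹ * z * h) * g = g * (h⁻¹ * z * h) ↔
      (h⁻¹ * z * h) * y = y * (h⁻¹ * z * h) := by
    rw [← mem_cent22 (g := g) (z := h⁻¹ * z * h), ← hC2, mem_cent22]
  rw [iff1, iff2]
  constructor
  · intro e
    have e1 : h⁻¹ * z * h * y = h⁻¹ * (z * (h * y * h⁻¹)) * h := by group
    have e2 : y * (h⁻¹ * z * h) = h⁻¹ * ((h * y * h⁻¹) * z) * h := by group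
    rw [e1, e2, e]
  · intro e
    have e1 : z * (h * y * h⁻¹) = h * ((h⁻¹ * z * h) * y) * h⁻¹ := by group
    have e2 : (h * y * h⁻¹) * z = h * (y * (h⁻¹ * z * h)) * h⁻¹ := by group
    rw [e1, e2, e]

theorem sz_fpf_ti (hm : 1 ≤ m) (hF : Fintype.card F = 2 ^ (2 * m + 1))
    {g : ↥(Cfsg.Sz F m)} (hg : szFpf g) {y n : ↥(Cfsg.Sz F m)} (hy : y * g = g * y)
    (hy1 : y ≠ 1) (hn : (n * y * n⁻¹) * g = g * (n * y * n⁻¹)) :
    n ∈ Subgroup.normalizer
      ((Subgroup.centralizer ({g} : Set ↥(Cfsg.Sz F m)) : Subgroup ↥(Cfsg.Sz F m)) :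
        Set ↥(Cfsg.Sz F m)) := by
  have hy1' : n * y * n⁻¹ ≠ 1 := by
    intro e
    apply hy1
    have e' : y = n⁻¹ * (n * y * n⁻¹) * n := by group
    rw [e', e]
    group
  have hC1 := sz_fpf_cent_eq hm hF hg hn hy1'
  have hC2 := sz_fpf_cent_eq hm hF hg hy hy1
  rw [Subgroup.mem_normalizer_iff]
  intro z
  show z ∈ Subgroup.centralizer ({g} : Set ↥(Cfsg.Sz F m)) ↔
    n * z * n⁻¹ ∈ Subgroup.centralizer ({g} : Set ↥(Cfsg.Sz F m))
  have iff1 : z ∈ Subgroup.centralizer ({g} : Set ↥(Cfsg.Sz F m)) ↔ z * y = y * z := by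
    rw [← hC2, mem_cent22]
  have iff2 : n * z * n⁻¹ ∈ Subgroup.centralizer ({g} : Set ↥(Cfsg.Sz F m)) ↔
      (n * z * n⁻¹) * (n * y * n⁻¹) = (n * y * n⁻¹) * (n * z * n⁻¹) := by
    rw [← hC1, mem_cent22]
  rw [iff1, iff2]
  have e1 : n * z * n⁻¹ * (n * y * n⁻¹) = n * (z * y) * n⁻¹ := by group
  have e2 : n * y * n⁻¹ * (n * z * n⁻¹) = n * (y * z) * n⁻¹ := by group
  constructor
  · intro e
    rw [e1, e2, e]
  · intro e
    rw [e1, e2] at e
    exact mul_left_cancel (mul_right_cancel e)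

theorem sz_fpf_normalizer_le (hm : 1 ≤ m) (hF : Fintype.card F = 2 ^ (2 * m + 1))
    {g : ↥(Cfsg.Sz F m)} (hg : szFpf g) :
    Nat.card ↥(Subgroup.normalizer
      ((Subgroup.centralizer ({g} : Set ↥(Cfsg.Sz F m)) : Subgroup ↥(Cfsg.Sz F m)) :
        Set ↥(Cfsg.Sz F m))) ≤
      4 * Nat.card ↥(Subgroup.centralizer ({g} : Set ↥(Cfsg.Sz F m))) := by
  obtain ⟨p, x, hp, hp2, hdvd, hxo, hxfix, j, hx⟩ := sz_fpf_prime hm hF hg
  haveI : Fact p.Prime := ⟨hp⟩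
  obtain ⟨hpF, hord4⟩ := sz_lin_hyp hF hp2 hdvd
  have hx1 : x ≠ 1 := szFpf_ne_one hxfix
  have hxp : x ^ p = 1 := by
    have hxx := pow_orderOf_eq_one x
    rwa [hxo] at hxx
  have hX : (((x : Matrix.SpecialLinearGroup (Fin 4) F)) : Matrix (Fin 4) (Fin 4) F) ^ p = 1 := by
    have h := congrArg (fun z : ↥(Cfsg.Sz F m) =>
      ((z : Matrix.SpecialLinearGroup (Fin 4) F) : Matrix (Fin 4) (Fin 4) F)) hxp
    simpa using h
  have hX1 : (((x : Matrix.SpecialLinearGroup (Fin 4) F)) : Matrix (Fin 4) (Fin 4) F) ≠ 1 := by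
    intro h
    exact hx1 (Subtype.ext (Subtype.ext h))
  have hxg : x * g = g * x := by rw [hx, ← pow_succ, ← pow_succ']
  have hCx := sz_fpf_cent_eq hm hF hg hxg hx1
  have hbound := lin_conj_bound hX hX1 hpF hord4
  have hle := card_le_of_fiber22
    (Subgroup.normalizer
      ((Subgroup.centralizer ({g} : Set ↥(Cfsg.Sz F m)) : Subgroup ↥(Cfsg.Sz F m)) :
        Set ↥(Cfsg.Sz F m)))
    (Subgroup.centralizer ({g} : Set ↥(Cfsg.Sz F m)))
    (fun n : ↥(Cfsg.Sz F m) => (((n * x * n⁻¹ : ↥(Cfsg.Sz F m)) :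
      Matrix.SpecialLinearGroup (Fin 4) F) : Matrix (Fin 4) (Fin 4) F))
    {y : Matrix (Fin 4) (Fin 4) F |
      y * ((x : Matrix.SpecialLinearGroup (Fin 4) F) : Matrix (Fin 4) (Fin 4) F) =
        ((x : Matrix.SpecialLinearGroup (Fin 4) F) : Matrix (Fin 4) (Fin 4) F) * y ∧
      Polynomial.aeval y
        ((x : Matrix.SpecialLinearGroup (Fin 4) F) : Matrix (Fin 4) (Fin 4) F).charpoly = 0}
    (Set.toFinite _) ?_ ?_
  · exact le_trans hle (Nat.mul_le_mul_right _ hbound)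
  · intro n hn
    have hxA : x ∈ Subgroup.centralizer ({g} : Set ↥(Cfsg.Sz F m)) := mem_cent22.mpr hxg
    have hmemA : n * x * n⁻¹ ∈ Subgroup.centralizer ({g} : Set ↥(Cfsg.Sz F m)) :=
      (Subgroup.mem_normalizer_iff.mp hn x).mp hxA
    have hcx : (n * x * n⁻¹) * x = x * (n * x * n⁻¹) := by
      rw [← hCx] at hmemA
      exact mem_cent22.mp hmemA
    refine ⟨congrArg (fun t : ↥(Cfsg.Sz F m) =>
      ((t : Matrix.SpecialLinearGroup (Fin 4) F) : Matrix (Fin 4) (Fin 4) F)) hcx, ?_⟩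
    let u : (Matrix (Fin 4) (Fin 4) F)ˣ :=
      ⟨((n : Matrix.SpecialLinearGroup (Fin 4) F) : Matrix (Fin 4) (Fin 4) F),
        (((n⁻¹ : ↥(Cfsg.Sz F m)) : Matrix.SpecialLinearGroup (Fin 4) F) :
          Matrix (Fin 4) (Fin 4) F),
        congrArg (fun t : ↥(Cfsg.Sz F m) =>
          ((t : Matrix.SpecialLinearGroup (Fin 4) F) : Matrix (Fin 4) (Fin 4) F))
          (mul_inv_cancel n),
        congrArg (fun t : ↥(Cfsg.Sz F m) =>
          ((t : Matrix.SpecialLinearGroup (Fin 4) F) : Matrix (Fin 4) (Fin 4) F))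
          (inv_mul_cancel n)⟩
    have hch : (((n * x * n⁻¹ : ↥(Cfsg.Sz F m)) : Matrix.SpecialLinearGroup (Fin 4) F) :
        Matrix (Fin 4) (Fin 4) F).charpoly =
        ((x : Matrix.SpecialLinearGroup (Fin 4) F) : Matrix (Fin 4) (Fin 4) F).charpoly := by
      have h := Matrix.charpoly_units_conj u
        ((x : Matrix.SpecialLinearGroup (Fin 4) F) : Matrix (Fin 4) (Fin 4) F)
      rw [← Matrix.coe_units_inv] at h
      exact h
    show Polynomial.aeval (((n * x * n⁻¹ : ↥(Cfsg.Sz F m)) :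
        Matrix.SpecialLinearGroup (Fin 4) F) : Matrix (Fin 4) (Fin 4) F)
      ((x : Matrix.SpecialLinearGroup (Fin 4) F) : Matrix (Fin 4) (Fin 4) F).charpoly = 0
    rw [← hch]
    exact Matrix.aeval_self_charpoly _
  · intro n hn n' hn' hcc
    have hcc' : n * x * n⁻¹ = n' * x * n'⁻¹ := Subtype.ext (Subtype.ext hcc)
    rw [← hCx, mem_cent22]
    have e1 : n⁻¹ * n' * x = n⁻¹ * (n' * x * n'⁻¹) * n' := by group
    have e2 : x * (n⁻¹ * n') = n⁻¹ * (n * x * n⁻¹) * n' := by group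
    rw [e1, e2, hcc']

theorem sz_fpf_class_count (hm : 1 ≤ m) (hF : Fintype.card F = 2 ^ (2 * m + 1))
    {g : ↥(Cfsg.Sz F m)} (hg : szFpf g) :
    {g' : ↥(Cfsg.Sz F m) | szFpf g' ∧
        Nat.card ↥(Subgroup.centralizer ({g'} : Set ↥(Cfsg.Sz F m))) =
        Nat.card ↥(Subgroup.centralizer ({g} : Set ↥(Cfsg.Sz F m)))}.ncard *
      Nat.card ↥(Subgroup.normalizer
        ((Subgroup.centralizer ({g} : Set ↥(Cfsg.Sz F m)) : Subgroup ↥(Cfsg.Sz F m)) :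
          Set ↥(Cfsg.Sz F m))) =
    Nat.card ↥(Cfsg.Sz F m) *
      (Nat.card ↥(Subgroup.centralizer ({g} : Set ↥(Cfsg.Sz F m))) - 1) := by
  have hg1 := szFpf_ne_one hg
  have hcount := ncard_fibers22
    {x : ↥(Cfsg.Sz F m) × ↥(Cfsg.Sz F m) | x.2 * g = g * x.2 ∧ x.2 ≠ 1}
    (fun x => x.1 * x.2 * x.1⁻¹)
    (fun g' : ↥(Cfsg.Sz F m) => szFpf g' ∧
      Nat.card ↥(Subgroup.centralizer ({g'} : Set ↥(Cfsg.Sz F m))) =
      Nat.card ↥(Subgroup.centralizer ({g} : Set ↥(Cfsg.Sz F m))))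
    (Nat.card ↥(Subgroup.normalizer
      ((Subgroup.centralizer ({g} : Set ↥(Cfsg.Sz F m)) : Subgroup ↥(Cfsg.Sz F m)) :
        Set ↥(Cfsg.Sz F m)))) ?_ ?_
  · -- the left hand side
    have hT : {x : ↥(Cfsg.Sz F m) × ↥(Cfsg.Sz F m) | x.2 * g = g * x.2 ∧ x.2 ≠ 1} =
        (Set.univ : Set ↥(Cfsg.Sz F m)) ×ˢ
          (((Subgroup.centralizer ({g} : Set ↥(Cfsg.Sz F m)) : Subgroup ↥(Cfsg.Sz F m)) :
            Set ↥(Cfsg.Sz F m)) \ {1}) := by
      ext ⟨a, y⟩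
      constructor
      · rintro ⟨h1, h2⟩
        exact ⟨Set.mem_univ _, mem_cent22.mpr h1, h2⟩
      · rintro ⟨-, h1, h2⟩
        exact ⟨mem_cent22.mp h1, h2⟩
    rw [hT, Set.ncard_prod, Set.ncard_univ, Set.ncard_sdiff_singleton_of_mem
      (Subgroup.one_mem _), ← Nat.card_coe_set_eq] at hcount
    rw [← Nat.card_coe_set_eq]
    exact hcount.symm
  · rintro ⟨a, y⟩ ⟨h1, h2⟩
    have hyf := sz_fpf_of_comm hm hF hg y h1.symm h2
    refine ⟨szFpf_conj hyf a, ?_⟩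
    show Nat.card ↥(Subgroup.centralizer ({a * y * a⁻¹} : Set ↥(Cfsg.Sz F m))) = _
    rw [card_cent_conj22, sz_fpf_cent_eq hm hF hg h1 h2]
  · rintro g' ⟨hg'f, hg'c⟩
    -- a common prime
    have ha1 : Nat.card ↥(Subgroup.centralizer ({g} : Set ↥(Cfsg.Sz F m))) ≠ 1 := by
      intro h1
      have hsub := (Nat.card_eq_one_iff_unique.mp h1).1
      have hgm : g ∈ Subgroup.centralizer ({g} : Set ↥(Cfsg.Sz F m)) := mem_cent22.mpr rfl
      have := congrArg Subtype.val (hsub.elim (⟨g, hgm⟩ :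
        ↥(Subgroup.centralizer ({g} : Set ↥(Cfsg.Sz F m)))) 1)
      exact hg1 this
    obtain ⟨r, hr, hrA⟩ := Nat.exists_prime_and_dvd ha1
    have hrA' : r ∣ Nat.card ↥(Subgroup.centralizer ({g'} : Set ↥(Cfsg.Sz F m))) := by
      rw [hg'c]
      exact hrA
    obtain ⟨h, hh⟩ := sz_fpf_conj_of_prime hm hF hg hg'f hr hrA hrA'
    obtain ⟨y₀, hy₀⟩ : ∃ y₀ : ↥(Cfsg.Sz F m), y₀ = h⁻¹ * g' * h := ⟨_, rfl⟩
    have hy₀c : y₀ * g = g * y₀ := by
      rw [hy₀]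
      exact (hh g').mp rfl
    have hy₀1 : y₀ ≠ 1 := by
      intro e
      apply szFpf_ne_one hg'f
      have e' : g' = h * (h⁻¹ * g' * h) * h⁻¹ := by group
      rw [e', ← hy₀, e]
      group
    have hg'eq : g' = h * y₀ * h⁻¹ := by
      rw [hy₀]
      group
    have hset : {x : ↥(Cfsg.Sz F m) × ↥(Cfsg.Sz F m) |
        x ∈ {x : ↥(Cfsg.Sz F m) × ↥(Cfsg.Sz F m) | x.2 * g = g * x.2 ∧ x.2 ≠ 1} ∧
        x.1 * x.2 * x.1⁻¹ = g'} =
        (fun n : ↥(Cfsg.Sz F m) => (h * n⁻¹, n * y₀ * n⁻¹)) ''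
          ((Subgroup.normalizer
            ((Subgroup.centralizer ({g} : Set ↥(Cfsg.Sz F m)) : Subgroup ↥(Cfsg.Sz F m)) :
              Set ↥(Cfsg.Sz F m)) : Subgroup ↥(Cfsg.Sz F m)) : Set ↥(Cfsg.Sz F m)) := by
      ext ⟨a, y⟩
      constructor
      · rintro ⟨⟨h1, h2⟩, h3⟩
        have h3' : a * y * a⁻¹ = h * y₀ * h⁻¹ := by rw [← hg'eq]; exact h3
        have hny : (a⁻¹ * h) * y₀ * (a⁻¹ * h)⁻¹ = y := by
          have e : (a⁻¹ * h) * y₀ * (a⁻¹ * h)⁻¹ = a⁻¹ * (h * y₀ * h⁻¹) * a := by group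
          rw [e, ← h3']
          group
        refine ⟨a⁻¹ * h, ?_, ?_⟩
        · apply sz_fpf_ti hm hF hg hy₀c hy₀1
          rw [hny]
          exact h1
        · show (h * (a⁻¹ * h)⁻¹, (a⁻¹ * h) * y₀ * (a⁻¹ * h)⁻¹) = (a, y)
          rw [hny]
          have e : h * (a⁻¹ * h)⁻¹ = a := by group
          rw [e]
      · rintro ⟨n, hn, hxy⟩
        have hxy1 : h * n⁻¹ = a := congrArg Prod.fst hxy
        have hxy2 : n * y₀ * n⁻¹ = y := congrArg Prod.snd hxy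
        have hmemA : n * y₀ * n⁻¹ ∈ Subgroup.centralizer ({g} : Set ↥(Cfsg.Sz F m)) :=
          (Subgroup.mem_normalizer_iff.mp hn y₀).mp (mem_cent22.mpr hy₀c)
        refine ⟨⟨?_, ?_⟩, ?_⟩
        · show y * g = g * y
          rw [← hxy2]
          exact mem_cent22.mp hmemA
        · show y ≠ 1
          rw [← hxy2]
          intro e
          apply hy₀1
          have e' : y₀ = n⁻¹ * (n * y₀ * n⁻¹) * n := by group
          rw [e', e]
          group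
        · show a * y * a⁻¹ = g'
          rw [← hxy1, ← hxy2, hg'eq]
          group
    rw [hset, Set.ncard_image_of_injective, ← Nat.card_coe_set_eq]
    · rfl
    · intro n n' hnn
      have h1 : h * n⁻¹ = h * n'⁻¹ := congrArg Prod.fst hnn
      exact inv_injective (mul_left_cancel h1)

theorem sz_fpf_card_of_conj {g g' : ↥(Cfsg.Sz F m)} (h : ↥(Cfsg.Sz F m))
    (hh : ∀ z : ↥(Cfsg.Sz F m), z * g' = g' * z ↔ (h⁻¹ * z * h) * g = g * (h⁻¹ * z * h)) :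
    Nat.card ↥(Subgroup.centralizer ({g'} : Set ↥(Cfsg.Sz F m))) =
      Nat.card ↥(Subgroup.centralizer ({g} : Set ↥(Cfsg.Sz F m))) := by
  apply Nat.card_congr
  exact
    { toFun := fun z => ⟨h⁻¹ * z.1 * h, mem_cent22.mpr ((hh z.1).mp (mem_cent22.mp z.2))⟩
      invFun := fun z => ⟨h * z.1 * h⁻¹, mem_cent22.mpr ((hh (h * z.1 * h⁻¹)).mpr (by
        have e : h⁻¹ * (h * z.1 * h⁻¹) * h = z.1 := by group
        rw [e]
        exact mem_cent22.mp z.2))⟩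
      left_inv := fun z => Subtype.ext (by
        show h * (h⁻¹ * z.1 * h) * h⁻¹ = z.1
        group)
      right_inv := fun z => Subtype.ext (by
        show h⁻¹ * (h * z.1 * h⁻¹) * h = z.1
        group) }

end SzHall

end Cfsg.Agent.Helper22
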