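import Cfsg.Agent.Helper22.SzSylow

set_option autoImplicit false
set_option linter.style.haveILetI false
set_option linter.unusedSectionVars false
set_option linter.unusedSimpArgs false
set_option linter.unusedVariables false
set_option linter.unusedTactic false
set_option maxHeartbeats 1000000

open Cfsg
open Matrix
open scoped Pointwise
open scoped commutatorElement

namespace Cfsg.Agent.Helper22

section SzMoreAbs

variable {F : Type*} [Field F]

theorem sz_real_aux {θ : F → F} (hθ : OvTheta θ) {a c : F} (ha : a ≠ 0)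
    (E1 : a * θ c + θ a * c = a * θ a) : False := by
  have hθ0 := ov_theta_zero θ hθ.hadd
  have hθa : θ a ≠ 0 := fun h => ha (ov_theta_inj0 θ hθ.hadd hθ.hsq h)
  have E2 : c ^ 2 * θ a + a ^ 2 * θ c = a ^ 2 * θ a := by
    have h := congrArg θ E1
    rw [hθ.hadd, hθ.hmul, hθ.hmul, hθ.hmul, hθ.hsq, hθ.hsq] at h
    linear_combination h
  have h3 : θ a * (c * (c - a)) = 0 := by linear_combination E2 - a * E1
  rcases mul_eq_zero.mp h3 with h | h
  · exact hθa h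
  · rcases mul_eq_zero.mp h with h | h
    · rw [h, hθ0] at E1
      have e : a * θ a = 0 := by linear_combination -E1
      rcases mul_eq_zero.mp e with h' | h'
      · exact ha h'
      · exact hθa h'
    · have hc : c = a := by linear_combination h
      rw [hc] at E1
      have e : a * θ a = 0 := by linear_combination E1
      rcases mul_eq_zero.mp e with h' | h'
      · exact ha h'
      · exact hθa h'

theorem ovD_T {θ : F → F} (hθ : OvTheta θ) {δ κ : F} (hδ : δ ≠ 0) (hκ : κ ≠ 0)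
    (hκ2 : κ ^ 2 = θ δ) (a b : F) :
    ovD δ κ * ovT θ a b = ovT θ (δ * a) (θ δ * δ * b) * ovD δ κ := by
  have hι : κ * κ⁻¹ = 1 := mul_inv_cancel₀ hκ
  have hl : κ * δ * (κ * δ)⁻¹ = 1 := mul_inv_cancel₀ (mul_ne_zero hκ hδ)
  ext i j
  unfold ovD
  rw [Matrix.diagonal_mul, Matrix.mul_diagonal]
  revert i j
  refine ov_fin4 (ov_fin4 ?_ ?_ ?_ ?_) (ov_fin4 ?_ ?_ ?_ ?_) (ov_fin4 ?_ ?_ ?_ ?_)
    (ov_fin4 ?_ ?_ ?_ ?_)
  · show κ * δ * 1 = 1 * (κ * δ)
    ring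
  · show κ * δ * a = δ * a * κ
    ring
  · show κ * δ * (b + a * θ a) = (θ δ * δ * b + δ * a * θ (δ * a)) * κ⁻¹
    rw [hθ.hmul]
    linear_combination (-(κ * δ * (b + a * θ a))) * hι + (δ * (b + a * θ a) * κ⁻¹) * hκ2
  · show κ * δ * (a * b + θ a * a ^ 2 + θ b) =
      (δ * a * (θ δ * δ * b) + θ (δ * a) * (δ * a) ^ 2 + θ (θ δ * δ * b)) * (κ * δ)⁻¹
    rw [hθ.hmul δ a, hθ.hmul (θ δ * δ) b, hθ.hmul (θ δ) δ, hθ.hsq]
    linear_combination (-(κ * δ * (a * b + θ a * a ^ 2 + θ b))) * hl +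
      (δ ^ 2 * (a * b + θ a * a ^ 2 + θ b) * (κ * δ)⁻¹) * hκ2
  · show κ * 0 = 0 * (κ * δ)
    ring
  · show κ * 1 = 1 * κ
    ring
  · show κ * θ a = θ (δ * a) * κ⁻¹
    rw [hθ.hmul]
    linear_combination (-(κ * θ a)) * hι + (θ a * κ⁻¹) * hκ2
  · show κ * b = θ δ * δ * b * (κ * δ)⁻¹
    linear_combination (-(κ * b)) * hl + (δ * b * (κ * δ)⁻¹) * hκ2
  · show κ⁻¹ * 0 = 0 * (κ * δ)
    ring
  · show κ⁻¹ * 0 = 0 * κ
    ring
  · show κ⁻¹ * 1 = 1 * κ⁻¹
    ring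
  · show κ⁻¹ * a = δ * a * (κ * δ)⁻¹
    linear_combination (-(a * κ⁻¹)) * hl + (a * δ * (κ * δ)⁻¹) * hι
  · show (κ * δ)⁻¹ * 0 = 0 * (κ * δ)
    ring
  · show (κ * δ)⁻¹ * 0 = 0 * κ
    ring
  · show (κ * δ)⁻¹ * 0 = 0 * κ⁻¹
    ring
  · show (κ * δ)⁻¹ * 1 = 1 * (κ * δ)⁻¹
    ring

theorem ovW_D (δ κ : F) :
    Cfsg.suzukiForm F * ovD δ κ = ovD δ⁻¹ κ⁻¹ * Cfsg.suzukiForm F := by
  ext i j
  unfold ovD
  rw [Matrix.diagonal_mul, Matrix.mul_diagonal]
  revert i j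
  refine ov_fin4 (ov_fin4 ?_ ?_ ?_ ?_) (ov_fin4 ?_ ?_ ?_ ?_) (ov_fin4 ?_ ?_ ?_ ?_)
    (ov_fin4 ?_ ?_ ?_ ?_)
  · show (0 : F) * (κ * δ) = κ⁻¹ * δ⁻¹ * 0
    ring
  · show (0 : F) * κ = κ⁻¹ * δ⁻¹ * 0
    ring
  · show (0 : F) * κ⁻¹ = κ⁻¹ * δ⁻¹ * 0
    ring
  · show (1 : F) * (κ * δ)⁻¹ = κ⁻¹ * δ⁻¹ * 1
    rw [mul_inv]
    ring
  · show (0 : F) * (κ * δ) = κ⁻¹ * 0
    ring
  · show (0 : F) * κ = κ⁻¹ * 0
    ring
  · show (1 : F) * κ⁻¹ = κ⁻¹ * 1
    ring
  · show (0 : F) * (κ * δ)⁻¹ = κ⁻¹ * 0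
    ring
  · show (0 : F) * (κ * δ) = κ⁻¹⁻¹ * 0
    ring
  · show (1 : F) * κ = κ⁻¹⁻¹ * 1
    rw [inv_inv]
    ring
  · show (0 : F) * κ⁻¹ = κ⁻¹⁻¹ * 0
    ring
  · show (0 : F) * (κ * δ)⁻¹ = κ⁻¹⁻¹ * 0
    ring
  · show (1 : F) * (κ * δ) = (κ⁻¹ * δ⁻¹)⁻¹ * 1
    rw [mul_inv, inv_inv, inv_inv]
    ring
  · show (0 : F) * κ = (κ⁻¹ * δ⁻¹)⁻¹ * 0
    ring
  · show (0 : F) * κ⁻¹ = (κ⁻¹ * δ⁻¹)⁻¹ * 0
    ring
  · show (0 : F) * (κ * δ)⁻¹ = (κ⁻¹ * δ⁻¹)⁻¹ * 0
    ring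

end SzMoreAbs

section SzMore

variable {F : Type*} [Field F] [Fintype F] {m : ℕ}

/-- The torus elements, in the Suzuki group. -/
def szDG (hF : Fintype.card F = 2 ^ (2 * m + 1)) (δ : Fˣ) : ↥(Cfsg.Sz F m) :=
  ⟨szD F m δ, szD_mem hF δ⟩

/-- The antidiagonal element, in the Suzuki group. -/
def szWG (hF : Fintype.card F = 2 ^ (2 * m + 1)) : ↥(Cfsg.Sz F m) :=
  ⟨szW F (szθ_spec hF).h2, szW_mem hF⟩

/-- The torus as a homomorphism. -/
def szDhom (hF : Fintype.card F = 2 ^ (2 * m + 1)) : Fˣ →* ↥(Cfsg.Sz F m) :=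
  MonoidHom.mk' (szDG hF) (fun δ ε => Subtype.ext (szD_mul δ ε))

theorem szD_T (hF : Fintype.card F = 2 ^ (2 * m + 1)) (δ : Fˣ) (a b : F) :
    szD F m δ * szT F m a b = szT F m (δ * a) (szθ F m δ * δ * b) * szD F m δ :=
  Subtype.ext (ovD_T (szθ_spec hF) δ.ne_zero (pow_ne_zero _ δ.ne_zero) (szD_aux _) a b)

theorem szW_D (h2 : (2 : F) = 0) (δ : Fˣ) :
    szW F h2 * szD F m δ = szD F m δ⁻¹ * szW F h2 :=
  Subtype.ext (by
    show Cfsg.suzukiForm F * ovD (δ : F) ((δ : F) ^ 2 ^ m) =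
      ovD ((δ⁻¹ : Fˣ) : F) (((δ⁻¹ : Fˣ) : F) ^ 2 ^ m) * Cfsg.suzukiForm F
    rw [Units.val_inv_eq_inv_val, inv_pow]
    exact ovW_D _ _)

theorem szTG_sq (hF : Fintype.card F = 2 ^ (2 * m + 1)) (a b : F) :
    szTG hF a b * szTG hF a b = szTG hF 0 (szθ F m a * a) := by
  have hθ := szθ_spec hF
  rw [szTG_mul]
  have e1 : a + a = 0 := by linear_combination a * hθ.h2
  have e3 : b + b + szθ F m a * a = szθ F m a * a := by linear_combination b * hθ.h2
  rw [e1, e3]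

theorem sz_norm_surj (hF : Fintype.card F = 2 ^ (2 * m + 1)) (t : F) :
    ∃ c : F, szθ F m c * c = t := by
  have hθ := szθ_spec hF
  have hθ0 := ov_theta_zero _ hθ.hadd
  by_cases ht0 : t = 0
  · exact ⟨0, by rw [ht0, mul_zero]⟩
  have hθt0 : szθ F m t ≠ 0 := fun h => ht0 (ov_theta_inj0 _ hθ.hadd hθ.hsq h)
  obtain ⟨c, hc⟩ : ∃ c : F, c = szθ F m t / t := ⟨_, rfl⟩
  have hθc : szθ F m c = t ^ 2 / szθ F m t := by
    have e : c * t = szθ F m t := by rw [hc, div_mul_cancel₀ _ ht0]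
    have e2 := congrArg (szθ F m) e
    rw [hθ.hmul, hθ.hsq] at e2
    rw [eq_div_iff hθt0]
    exact e2
  refine ⟨c, ?_⟩
  rw [hθc, hc, div_mul_div_comm, div_eq_iff (mul_ne_zero hθt0 ht0)]
  ring

theorem szT_fix' (hF : Fintype.card F = 2 ^ (2 * m + 1)) {a b : F} (hab : a ≠ 0 ∨ b ≠ 0)
    {p : Projectivization F (Fin 4 → F)} (hp : p ∈ Cfsg.suzukiOvoid F m)
    (h : szT F m a b • p = p) : p = Cfsg.suzukiPointInfinity F := by
  have hθ := szθ_spec hF
  rcases sz_mem_ovoid_iff.mp hp with rfl | ⟨x, y, rfl⟩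
  · rfl
  · exfalso
    rw [szT_pt hF] at h
    obtain ⟨h1, h2⟩ := szPt_inj h
    have ha : a = 0 := by linear_combination h1
    rw [ha, ov_theta_zero _ hθ.hadd, zero_mul, add_zero] at h2
    have hb : b = 0 := by linear_combination h2
    rcases hab with h' | h'
    · exact h' ha
    · exact h' hb

theorem sz_borel_decomp (hm : 1 ≤ m) (hF : Fintype.card F = 2 ^ (2 * m + 1))
    (g : ↥(Cfsg.Sz F m))
    (h : (g : Matrix.SpecialLinearGroup (Fin 4) F) • Cfsg.suzukiPointInfinity F =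
      Cfsg.suzukiPointInfinity F) :
    ∃ (c d : F) (δ : Fˣ), g = szTG hF c d * szDG hF δ ∧
      (g : Matrix.SpecialLinearGroup (Fin 4) F) • Cfsg.suzukiPointZero F = szPt F m c d := by
  have h0mem := sz_smul_mem g.2 (sz_zero_mem hF)
  rcases sz_mem_ovoid_iff.mp h0mem with h' | ⟨c, d, hcd⟩
  · exfalso
    have e : (g : Matrix.SpecialLinearGroup (Fin 4) F) • Cfsg.suzukiPointZero F =
        (g : Matrix.SpecialLinearGroup (Fin 4) F) • Cfsg.suzukiPointInfinity F := by rw [h', h]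
    have h'' := MulAction.injective _ e
    rw [← szPt_zero hF] at h''
    exact szPt_ne_inf 0 0 h''
  · obtain ⟨δ, hδ⟩ := sz_two_pt hm hF
      (g := (szT F m c d)⁻¹ * (g : Matrix.SpecialLinearGroup (Fin 4) F))
      (mul_mem (inv_mem (szT_mem hF c d)) g.2)
      (by rw [mul_smul, h, inv_smul_eq_iff, szT_inf])
      (by rw [mul_smul, hcd, inv_smul_eq_iff, szT_zero hF])
    refine ⟨c, d, δ, Subtype.ext ?_, hcd⟩
    show (g : Matrix.SpecialLinearGroup (Fin 4) F) = szT F m c d * szD F m δ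
    rw [← hδ]
    group

theorem sz_real_core (hm : 1 ≤ m) (hF : Fintype.card F = 2 ^ (2 * m + 1)) (a b : F)
    (x : ↥(Cfsg.Sz F m)) (hx : x * szTG hF a b * x⁻¹ = (szTG hF a b)⁻¹) : a = 0 := by
  by_contra ha
  have hθ := szθ_spec hF
  have hinv : (szTG hF a b)⁻¹ = szTG hF a (b + a * szθ F m a) := szTG_inv hF a b
  have hcomm : x * szTG hF a b = szTG hF a (b + a * szθ F m a) * x := by
    rw [← hinv, ← hx]
    group
  have hcomm' : (x : Matrix.SpecialLinearGroup (Fin 4) F) * szT F m a b =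
      szT F m a (b + a * szθ F m a) * (x : Matrix.SpecialLinearGroup (Fin 4) F) :=
    congrArg Subtype.val hcomm
  have hxinf : (x : Matrix.SpecialLinearGroup (Fin 4) F) • Cfsg.suzukiPointInfinity F =
      Cfsg.suzukiPointInfinity F := by
    apply szT_fix' hF (a := a) (b := b + a * szθ F m a) (Or.inl ha)
      (sz_smul_mem x.2 sz_inf_mem)
    rw [← mul_smul, ← hcomm', mul_smul, szT_inf]
  obtain ⟨c, d, δ, hxdec, hcd⟩ := sz_borel_decomp hm hF x hxinf
  have hxdec' : (x : Matrix.SpecialLinearGroup (Fin 4) F) = szT F m c d * szD F m δ :=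
    congrArg Subtype.val hxdec
  have hL : ((x : Matrix.SpecialLinearGroup (Fin 4) F) * szT F m a b) •
      Cfsg.suzukiPointZero F =
      szPt F m (δ * a + c) (szθ F m δ * δ * b + d + szθ F m c * (δ * a)) := by
    rw [mul_smul, szT_zero hF, hxdec', mul_smul, szD_pt hF, szT_pt hF]
  have hR : (szT F m a (b + a * szθ F m a) * (x : Matrix.SpecialLinearGroup (Fin 4) F)) •
      Cfsg.suzukiPointZero F =
      szPt F m (c + a) (d + (b + a * szθ F m a) + szθ F m a * c) := by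
    rw [mul_smul, hcd, szT_pt hF]
  rw [hcomm'] at hL
  rw [hL] at hR
  obtain ⟨e1, e2⟩ := szPt_inj hR
  have hδ1 : (δ : F) = 1 := by
    have e : ((δ : F) - 1) * a = 0 := by linear_combination e1
    rcases mul_eq_zero.mp e with h' | h'
    · linear_combination h'
    · exact absurd h' ha
  rw [hδ1, hθ.hone] at e2
  have E1 : a * szθ F m c + szθ F m a * c = a * szθ F m a := by
    linear_combination e2 + (szθ F m a * c) * hθ.h2
  exact sz_real_aux hθ ha E1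

theorem sz_real (hm : 1 ≤ m) (hF : Fintype.card F = 2 ^ (2 * m + 1))
    (P : Sylow 2 ↥(Cfsg.Sz F m)) (g : ↥(Cfsg.Sz F m))
    (hg : g ∈ (P : Subgroup ↥(Cfsg.Sz F m))) (h1 : g ≠ 1) :
    IsConj g g⁻¹ ↔ orderOf g = 2 := by
  haveI : Fact (Nat.Prime 2) := ⟨Nat.prime_two⟩
  constructor
  · intro hconj
    obtain ⟨Q, hQU, k, hk⟩ := sz_sylow_conj hm hF P
    subst hk
    rw [Sylow.coe_subgroup_smul, Subgroup.mem_smul_pointwise_iff_exists] at hg
    obtain ⟨u, hu, hug⟩ := hg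
    have hug' : k * u * k⁻¹ = g := hug
    rw [hQU] at hu
    obtain ⟨⟨a, b⟩, hab⟩ := hu
    have hab' : szTG hF a b = u := hab
    subst hab'
    subst hug'
    obtain ⟨c, hc⟩ := isConj_iff.mp hconj
    have hx : (k⁻¹ * c * k) * szTG hF a b * (k⁻¹ * c * k)⁻¹ = (szTG hF a b)⁻¹ := by
      have e : (k⁻¹ * c * k) * szTG hF a b * (k⁻¹ * c * k)⁻¹ =
          k⁻¹ * (c * (k * szTG hF a b * k⁻¹) * c⁻¹) * k := by group
      rw [e, hc]
      group
    have ha : a = 0 := sz_real_core hm hF a b _ hx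
    subst ha
    have hu2 : (k * szTG hF 0 b * k⁻¹) ^ 2 = 1 := by
      have e : szTG hF 0 b * szTG hF 0 b = 1 := Subtype.ext (szT_invol hF b)
      rw [conj_pow, pow_two, e, mul_one, mul_inv_cancel]
    exact orderOf_eq_prime hu2 h1
  · intro h2
    have h3 : g ^ orderOf g = 1 := pow_orderOf_eq_one g
    rw [h2] at h3
    have hinv : g⁻¹ = g := by
      apply inv_eq_of_mul_eq_one_left
      rw [← pow_two]
      exact h3
    rw [hinv]

theorem sz_two_gen (hm : 1 ≤ m) (hF : Fintype.card F = 2 ^ (2 * m + 1)) :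
    ∃ a b : ↥(Cfsg.Sz F m), Subgroup.closure ({a, b} : Set ↥(Cfsg.Sz F m)) = ⊤ := by
  have hθ := szθ_spec hF
  have hθ0 := ov_theta_zero _ hθ.hadd
  obtain ⟨δ₀, hδ₀⟩ := IsCyclic.exists_generator (α := Fˣ)
  refine ⟨szDG hF δ₀, szTG hF 1 0 * szWG hF, ?_⟩
  obtain ⟨K, hK⟩ : ∃ K : Subgroup ↥(Cfsg.Sz F m),
      K = Subgroup.closure ({szDG hF δ₀, szTG hF 1 0 * szWG hF} : Set ↥(Cfsg.Sz F m)) :=
    ⟨_, rfl⟩
  rw [← hK]
  have ha : szDG hF δ₀ ∈ K := by
    rw [hK]; exact Subgroup.subset_closure (Set.mem_insert _ _)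
  have hb : szTG hF 1 0 * szWG hF ∈ K := by
    rw [hK]; exact Subgroup.subset_closure (Set.mem_insert_of_mem _ rfl)
  have hD : ∀ δ : Fˣ, szDG hF δ ∈ K := by
    intro δ
    obtain ⟨n, rfl⟩ := Subgroup.mem_zpowers_iff.mp (hδ₀ δ)
    have e : szDG hF (δ₀ ^ n) = szDG hF δ₀ ^ n := map_zpow (szDhom hF) δ₀ n
    rw [e]
    exact K.zpow_mem ha n
  have hTW : ∀ ε : Fˣ, szTG hF (ε : F) 0 * szWG hF ∈ K := by
    intro ε
    have e : szTG hF (ε : F) 0 * szWG hF =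
        szDG hF ε * (szTG hF 1 0 * szWG hF) * szDG hF ε := by
      apply Subtype.ext
      show szT F m ε 0 * szW F hθ.h2 =
        szD F m ε * (szT F m 1 0 * szW F hθ.h2) * szD F m ε
      have e1 : szD F m ε * (szT F m 1 0 * szW F hθ.h2) * szD F m ε =
          (szD F m ε * szT F m 1 0) * (szW F hθ.h2 * szD F m ε) := by group
      have e2 : szT F m ((ε : F) * 1) (szθ F m ε * ε * 0) * szD F m ε *
          (szD F m ε⁻¹ * szW F hθ.h2) =
          szT F m ((ε : F) * 1) (szθ F m ε * ε * 0) * (szD F m ε * szD F m ε⁻¹) *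
            szW F hθ.h2 := by group
      rw [e1, szD_T hF, szW_D, e2, ← szD_mul, mul_inv_cancel, szD_one, mul_one, mul_one,
        mul_zero]
    rw [e]
    exact K.mul_mem (K.mul_mem (hD ε) hb) (hD ε)
  have hTT : ∀ ε ε' : Fˣ, szTG hF ((ε' : F) + ε)
      (0 + (ε' : F) * szθ F m ε' + 0 + szθ F m ε * ε') ∈ K := by
    intro ε ε'
    have e : szTG hF ((ε' : F) + ε) (0 + (ε' : F) * szθ F m ε' + 0 + szθ F m ε * ε') =
        (szTG hF (ε : F) 0 * szWG hF) * (szTG hF (ε' : F) 0 * szWG hF)⁻¹ := by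
      have e1 : (szTG hF (ε : F) 0 * szWG hF) * (szTG hF (ε' : F) 0 * szWG hF)⁻¹ =
          szTG hF (ε : F) 0 * (szTG hF (ε' : F) 0)⁻¹ := by group
      rw [e1, szTG_inv, szTG_mul]
    rw [e]
    exact K.mul_mem (hTW ε) (K.inv_mem (hTW ε'))
  obtain ⟨x, hx0, hx1⟩ := sz_exists_ne hm hF
  have hx2 : 1 + x ≠ 0 := by
    intro h
    apply hx1
    linear_combination h - hθ.h2
  -- translations with a nonzero first parameter, up to the second parameter
  have hB0 : ∀ s : F, s ≠ 0 → ∃ E : F, szTG hF s E ∈ K := by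
    intro s hs
    have h1 : s * x ≠ 0 := mul_ne_zero hs hx0
    have h2 : s + s * x ≠ 0 := by
      have e : s + s * x = s * (1 + x) := by ring
      rw [e]
      exact mul_ne_zero hs hx2
    have h := hTT (Units.mk0 (s + s * x) h2) (Units.mk0 (s * x) h1)
    simp only [Units.val_mk0] at h
    have hS : s * x + (s + s * x) = s := by linear_combination (s * x) * hθ.h2
    rw [hS] at h
    exact ⟨_, h⟩
  have hA : ∀ β : F, szTG hF 0 β ∈ K := by
    intro β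
    obtain ⟨s, hs⟩ := sz_norm_surj hF β
    by_cases hs0 : s = 0
    · rw [hs0, mul_zero] at hs
      rw [← hs, szTG_one]
      exact K.one_mem
    · obtain ⟨E, hE⟩ := hB0 s hs0
      have hsq := K.mul_mem hE hE
      rw [szTG_sq, hs] at hsq
      exact hsq
  have hU : ∀ s e : F, szTG hF s e ∈ K := by
    intro s e
    by_cases hs0 : s = 0
    · rw [hs0]; exact hA e
    · obtain ⟨E, hE⟩ := hB0 s hs0
      have e3 : szTG hF s E * szTG hF 0 (e + E) = szTG hF s e := by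
        have e4 : (0 : F) + s = s := zero_add s
        have e5 : e + E + E + szθ F m s * 0 = e := by linear_combination E * hθ.h2
        rw [szTG_mul, e4, e5]
      rw [← e3]
      exact K.mul_mem hE (hA _)
  have hW : szWG hF ∈ K := by
    have e : szWG hF = (szTG hF 1 0)⁻¹ * (szTG hF 1 0 * szWG hF) := by group
    rw [e]
    exact K.mul_mem (K.inv_mem (hU 1 0)) hb
  rw [eq_top_iff]
  intro g _
  by_cases h : (g : Matrix.SpecialLinearGroup (Fin 4) F) • Cfsg.suzukiPointInfinity F =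
      Cfsg.suzukiPointInfinity F
  · obtain ⟨c, d, δ, hg, -⟩ := sz_borel_decomp hm hF g h
    rw [hg]
    exact K.mul_mem (hU c d) (hD δ)
  · have hmem := sz_smul_mem g.2 (sz_inf_mem (F := F) (m := m))
    rcases sz_mem_ovoid_iff.mp hmem with h' | ⟨c, d, hcd⟩
    · exact absurd h' h
    · have hfix : (((szWG hF)⁻¹ * (szTG hF c d)⁻¹ * g : ↥(Cfsg.Sz F m)) :
          Matrix.SpecialLinearGroup (Fin 4) F) • Cfsg.suzukiPointInfinity F =
          Cfsg.suzukiPointInfinity F := by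
        show ((szW F hθ.h2)⁻¹ * (szT F m c d)⁻¹ *
          (g : Matrix.SpecialLinearGroup (Fin 4) F)) • Cfsg.suzukiPointInfinity F =
          Cfsg.suzukiPointInfinity F
        rw [mul_smul, mul_smul, hcd, inv_smul_eq_iff, inv_smul_eq_iff, szW_inf, szT_zero hF]
      obtain ⟨c', d', δ, hg', -⟩ := sz_borel_decomp hm hF _ hfix
      have hg : g = szTG hF c d * szWG hF * (szTG hF c' d' * szDG hF δ) := by
        rw [← hg']
        group
      rw [hg]
      exact K.mul_mem (K.mul_mem (hU c d) hW) (K.mul_mem (hU c' d') (hD δ))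

end SzMore

end Cfsg.Agent.Helper22
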