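import Cfsg.Agent.Helper22.OvoidForm

set_option autoImplicit false
set_option linter.style.haveILetI false
set_option linter.unusedSectionVars false
set_option linter.unusedSimpArgs false
set_option linter.unusedVariables false
set_option linter.unusedTactic false
set_option maxHeartbeats 1000000

open Cfsg
open Matrix
open scoped Pointwise

namespace Cfsg.Agent.Helper22

section SzOvAbs

variable {F : Type*} [Field F]

/-- The standard vector of an affine point of the ovoid. -/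
def ovV (θ : F → F) (x y : F) : Fin 4 → F := ![x * y + θ x * x ^ 2 + θ y, y, x, 1]

theorem ovV_std (θ : F → F) (x y : F) : IsStd θ (ovV θ x y) := Or.inr ⟨x, y, rfl⟩

theorem ovV_zero {θ : F → F} (hθ : OvTheta θ) : ovV θ 0 0 = ![0, 0, 0, 1] := by
  have hθ0 := ov_theta_zero θ hθ.hadd
  have e : (0 : F) * 0 + θ 0 * 0 ^ 2 + θ 0 = 0 := by rw [hθ0]; ring
  show ![(0 : F) * 0 + θ 0 * 0 ^ 2 + θ 0, 0, 0, 1] = ![0, 0, 0, 1]
  rw [e]

theorem ovV_inj {θ : F → F} {x y x' y' t : F} (h : ovV θ x y = t • ovV θ x' y') :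
    x = x' ∧ y = y' := by
  have h3 : (1 : F) = t * 1 := congrFun h 3
  have ht : t = 1 := by linear_combination -h3
  have h2 : x = t * x' := congrFun h 2
  have h1 : y = t * y' := congrFun h 1
  rw [ht, one_mul] at h1 h2
  exact ⟨h2, h1⟩

theorem ov_mul4 (A B : Matrix (Fin 4) (Fin 4) F) (i j : Fin 4) :
    (A * B) i j = A i 0 * B 0 j + A i 1 * B 1 j + A i 2 * B 2 j + A i 3 * B 3 j := by
  rw [Matrix.mul_apply, Fin.sum_univ_four]

/-- The translation matrices. -/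
def ovT (θ : F → F) (a b : F) : Matrix (Fin 4) (Fin 4) F :=
  !![1, a, b + a * θ a, a * b + θ a * a ^ 2 + θ b; 0, 1, θ a, b; 0, 0, 1, a; 0, 0, 0, 1]

theorem ovT_det (θ : F → F) (a b : F) : (ovT θ a b).det = 1 := by
  have h : (ovT θ a b).IsUpperTriangular := by
    intro i j hij
    revert i j
    refine ov_fin4 (ov_fin4 ?_ ?_ ?_ ?_) (ov_fin4 ?_ ?_ ?_ ?_) (ov_fin4 ?_ ?_ ?_ ?_)
      (ov_fin4 ?_ ?_ ?_ ?_)
    all_goals first | (intro _; rfl) | (intro hij; exact absurd hij (by decide))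
  rw [Matrix.det_of_isUpperTriangular h, Fin.prod_univ_four]
  show (1 : F) * 1 * 1 * 1 = 1
  ring

theorem ovT_e0 (θ : F → F) (a b : F) : ovT θ a b *ᵥ ![1, 0, 0, 0] = ![1, 0, 0, 0] := by
  funext i
  rw [ov_mv4]
  revert i
  refine ov_fin4 ?_ ?_ ?_ ?_
  · show (1 : F) * 1 + a * 0 + (b + a * θ a) * 0 + (a * b + θ a * a ^ 2 + θ b) * 0 = 1
    ring
  · show (0 : F) * 1 + 1 * 0 + θ a * 0 + b * 0 = 0
    ring
  · show (0 : F) * 1 + 0 * 0 + 1 * 0 + a * 0 = 0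
    ring
  · show (0 : F) * 1 + 0 * 0 + 0 * 0 + 1 * 0 = 0
    ring

theorem ovT_mulVec {θ : F → F} (hθ : OvTheta θ) (a b x y : F) :
    ovT θ a b *ᵥ ovV θ x y = ovV θ (x + a) (y + b + θ a * x) := by
  funext i
  rw [ov_mv4]
  revert i
  refine ov_fin4 ?_ ?_ ?_ ?_
  · show 1 * (x * y + θ x * x ^ 2 + θ y) + a * y + (b + a * θ a) * x +
        (a * b + θ a * a ^ 2 + θ b) * 1 =
      (x + a) * (y + b + θ a * x) + θ (x + a) * (x + a) ^ 2 + θ (y + b + θ a * x)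
    rw [ov_translate θ hθ.h2 hθ.hadd hθ.hmul hθ.hsq x y a b]
    ring
  · show 0 * (x * y + θ x * x ^ 2 + θ y) + 1 * y + θ a * x + b * 1 = y + b + θ a * x
    ring
  · show 0 * (x * y + θ x * x ^ 2 + θ y) + 0 * y + 1 * x + a * 1 = x + a
    ring
  · show 0 * (x * y + θ x * x ^ 2 + θ y) + 0 * y + 0 * x + 1 * 1 = 1
    ring

theorem ovT_mul {θ : F → F} (hθ : OvTheta θ) (a b c d : F) :
    ovT θ a b * ovT θ c d = ovT θ (c + a) (d + b + θ a * c) := by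
  ext i j
  rw [ov_mul4]
  revert i j
  refine ov_fin4 (ov_fin4 ?_ ?_ ?_ ?_) (ov_fin4 ?_ ?_ ?_ ?_) (ov_fin4 ?_ ?_ ?_ ?_)
    (ov_fin4 ?_ ?_ ?_ ?_)
  · show (1 : F) * 1 + a * 0 + (b + a * θ a) * 0 + (a * b + θ a * a ^ 2 + θ b) * 0 = 1
    ring
  · show (1 : F) * c + a * 1 + (b + a * θ a) * 0 + (a * b + θ a * a ^ 2 + θ b) * 0 = c + a
    ring
  · show (1 : F) * (d + c * θ c) + a * θ c + (b + a * θ a) * 1 +
        (a * b + θ a * a ^ 2 + θ b) * 0 = d + b + θ a * c + (c + a) * θ (c + a)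
    rw [hθ.hadd c a]
    linear_combination (-(c * θ a)) * hθ.h2
  · show (1 : F) * (c * d + θ c * c ^ 2 + θ d) + a * d + (b + a * θ a) * c +
        (a * b + θ a * a ^ 2 + θ b) * 1 =
      (c + a) * (d + b + θ a * c) + θ (c + a) * (c + a) ^ 2 + θ (d + b + θ a * c)
    rw [ov_translate θ hθ.h2 hθ.hadd hθ.hmul hθ.hsq c d a b]
    ring
  · show (0 : F) * 1 + 1 * 0 + θ a * 0 + b * 0 = 0
    ring
  · show (0 : F) * c + 1 * 1 + θ a * 0 + b * 0 = 1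
    ring
  · show (0 : F) * (d + c * θ c) + 1 * θ c + θ a * 1 + b * 0 = θ (c + a)
    rw [hθ.hadd c a]
    ring
  · show (0 : F) * (c * d + θ c * c ^ 2 + θ d) + 1 * d + θ a * c + b * 1 = d + b + θ a * c
    ring
  · show (0 : F) * 1 + 0 * 0 + 1 * 0 + a * 0 = 0
    ring
  · show (0 : F) * c + 0 * 1 + 1 * 0 + a * 0 = 0
    ring
  · show (0 : F) * (d + c * θ c) + 0 * θ c + 1 * 1 + a * 0 = 1
    ring
  · show (0 : F) * (c * d + θ c * c ^ 2 + θ d) + 0 * d + 1 * c + a * 1 = c + a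
    ring
  · show (0 : F) * 1 + 0 * 0 + 0 * 0 + 1 * 0 = 0
    ring
  · show (0 : F) * c + 0 * 1 + 0 * 0 + 1 * 0 = 0
    ring
  · show (0 : F) * (d + c * θ c) + 0 * θ c + 0 * 1 + 1 * 0 = 0
    ring
  · show (0 : F) * (c * d + θ c * c ^ 2 + θ d) + 0 * d + 0 * c + 1 * 1 = 1
    ring

theorem ovT_std {θ : F → F} (hθ : OvTheta θ) (a b : F) {v : Fin 4 → F} (hv : IsStd θ v) :
    ∃ v' : Fin 4 → F, IsStd θ v' ∧ ∃ t : F, t ≠ 0 ∧ ovT θ a b *ᵥ v = t • v' := by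
  rcases hv with rfl | ⟨x, y, rfl⟩
  · exact ⟨![1, 0, 0, 0], Or.inl rfl, 1, one_ne_zero, by rw [one_smul]; exact ovT_e0 θ a b⟩
  · exact ⟨ovV θ (x + a) (y + b + θ a * x), ovV_std θ _ _, 1, one_ne_zero, by
      rw [one_smul]; exact ovT_mulVec hθ a b x y⟩

/-! The antidiagonal matrix. -/

theorem ovW_mulVec (v : Fin 4 → F) : Cfsg.suzukiForm F *ᵥ v = ![v 3, v 2, v 1, v 0] := by
  funext i
  rw [ov_mv4]
  revert i
  refine ov_fin4 ?_ ?_ ?_ ?_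
  · show (0 : F) * v 0 + 0 * v 1 + 0 * v 2 + 1 * v 3 = v 3
    ring
  · show (0 : F) * v 0 + 0 * v 1 + 1 * v 2 + 0 * v 3 = v 2
    ring
  · show (0 : F) * v 0 + 1 * v 1 + 0 * v 2 + 0 * v 3 = v 1
    ring
  · show (1 : F) * v 0 + 0 * v 1 + 0 * v 2 + 0 * v 3 = v 0
    ring

theorem ovW_sq : Cfsg.suzukiForm F * Cfsg.suzukiForm F = 1 := by
  have j00 : Cfsg.suzukiForm F 0 0 = 0 := rfl
  have j01 : Cfsg.suzukiForm F 0 1 = 0 := rfl
  have j02 : Cfsg.suzukiForm F 0 2 = 0 := rfl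
  have j03 : Cfsg.suzukiForm F 0 3 = 1 := rfl
  have j10 : Cfsg.suzukiForm F 1 0 = 0 := rfl
  have j11 : Cfsg.suzukiForm F 1 1 = 0 := rfl
  have j12 : Cfsg.suzukiForm F 1 2 = 1 := rfl
  have j13 : Cfsg.suzukiForm F 1 3 = 0 := rfl
  have j20 : Cfsg.suzukiForm F 2 0 = 0 := rfl
  have j21 : Cfsg.suzukiForm F 2 1 = 1 := rfl
  have j22 : Cfsg.suzukiForm F 2 2 = 0 := rfl
  have j23 : Cfsg.suzukiForm F 2 3 = 0 := rfl
  have j30 : Cfsg.suzukiForm F 3 0 = 1 := rfl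
  have j31 : Cfsg.suzukiForm F 3 1 = 0 := rfl
  have j32 : Cfsg.suzukiForm F 3 2 = 0 := rfl
  have j33 : Cfsg.suzukiForm F 3 3 = 0 := rfl
  have hJJ' : ∀ i j, (Cfsg.suzukiForm F * Cfsg.suzukiForm F) i j =
      (1 : Matrix (Fin 4) (Fin 4) F) i j := by
    refine ov_fin4 (ov_fin4 ?_ ?_ ?_ ?_) (ov_fin4 ?_ ?_ ?_ ?_) (ov_fin4 ?_ ?_ ?_ ?_)
      (ov_fin4 ?_ ?_ ?_ ?_) <;>
    simp [Matrix.mul_apply, Fin.sum_univ_four, Matrix.one_apply,
      j00, j01, j02, j03, j10, j11, j12, j13, j20, j21, j22, j23, j30, j31, j32, j33]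
  ext i j
  exact hJJ' i j

theorem ovW_det (h2 : (2 : F) = 0) : (Cfsg.suzukiForm F).det = 1 := by
  have h1 := congrArg Matrix.det (ovW_sq (F := F))
  rw [Matrix.det_mul, Matrix.det_one] at h1
  have h3 : ((Cfsg.suzukiForm F).det - 1) ^ 2 = 0 := by
    linear_combination h1 + (1 - (Cfsg.suzukiForm F).det) * h2
  have h4 : (Cfsg.suzukiForm F).det - 1 = 0 := (pow_eq_zero_iff (by norm_num)).mp h3
  linear_combination h4

theorem ovW_std {θ : F → F} (hθ : OvTheta θ) {v : Fin 4 → F} (hv : IsStd θ v) :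
    ∃ v' : Fin 4 → F, IsStd θ v' ∧ ∃ a : F, a ≠ 0 ∧ Cfsg.suzukiForm F *ᵥ v = a • v' := by
  rw [ovW_mulVec]
  rcases hv with rfl | ⟨x, y, rfl⟩
  · refine ⟨ovV θ 0 0, ovV_std θ 0 0, 1, one_ne_zero, ?_⟩
    rw [ovV_zero hθ, one_smul]
    rfl
  · by_cases hf : x * y + θ x * x ^ 2 + θ y = 0
    · obtain ⟨hx, hy⟩ := ov_ne_zero θ hθ.h2 hθ.hadd hθ.hmul hθ.hone hθ.hsq x y hf
      refine ⟨![1, 0, 0, 0], Or.inl rfl, 1, one_ne_zero, ?_⟩
      rw [one_smul]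
      show ![(1 : F), x, y, x * y + θ x * x ^ 2 + θ y] = ![1, 0, 0, 0]
      rw [hf, hx, hy]
    · obtain ⟨f, hfdef⟩ : ∃ f : F, f = x * y + θ x * x ^ 2 + θ y := ⟨_, rfl⟩
      have hf0 : f ≠ 0 := by rw [hfdef]; exact hf
      have hinv := ov_inv θ hθ.h2 hθ.hadd hθ.hmul hθ.hsq x y f hfdef hf0
      refine ⟨ovV θ (y / f) (x / f), ovV_std θ _ _, f, hf0, ?_⟩
      show ![(1 : F), x, y, x * y + θ x * x ^ 2 + θ y] =
        f • ![(y / f) * (x / f) + θ (y / f) * (y / f) ^ 2 + θ (x / f), x / f, y / f, 1]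
      rw [hinv, ← hfdef]
      funext i
      revert i
      refine ov_fin4 ?_ ?_ ?_ ?_
      · show (1 : F) = f * (1 / f)
        rw [mul_div_cancel₀ _ hf0]
      · show x = f * (x / f)
        rw [mul_div_cancel₀ _ hf0]
      · show y = f * (y / f)
        rw [mul_div_cancel₀ _ hf0]
      · show f = f * 1
        rw [mul_one]

/-! The torus. -/

/-- The diagonal matrices of the torus. -/
def ovD (δ κ : F) : Matrix (Fin 4) (Fin 4) F := Matrix.diagonal ![κ * δ, κ, κ⁻¹, (κ * δ)⁻¹]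

theorem ovD_mulVec (δ κ : F) (v : Fin 4 → F) :
    ovD δ κ *ᵥ v = ![κ * δ * v 0, κ * v 1, κ⁻¹ * v 2, (κ * δ)⁻¹ * v 3] := by
  funext i
  unfold ovD
  rw [Matrix.mulVec_diagonal]
  revert i
  exact ov_fin4 rfl rfl rfl rfl

theorem ovD_det {δ κ : F} (hδ : δ ≠ 0) (hκ : κ ≠ 0) : (ovD δ κ).det = 1 := by
  unfold ovD
  rw [Matrix.det_diagonal, Fin.prod_univ_four]
  show κ * δ * κ * κ⁻¹ * (κ * δ)⁻¹ = 1
  have h1 : κ * δ ≠ 0 := mul_ne_zero hκ hδ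
  have e : κ * δ * κ * κ⁻¹ * (κ * δ)⁻¹ = (κ * κ⁻¹) * ((κ * δ) * (κ * δ)⁻¹) := by ring
  rw [e, mul_inv_cancel₀ hκ, mul_inv_cancel₀ h1, one_mul]

theorem ovD_mul (δ κ ε ι : F) : ovD δ κ * ovD ε ι = ovD (δ * ε) (κ * ι) := by
  unfold ovD
  rw [Matrix.diagonal_mul_diagonal]
  congr 1
  funext i
  revert i
  refine ov_fin4 ?_ ?_ ?_ ?_
  · show κ * δ * (ι * ε) = κ * ι * (δ * ε)
    ring
  · show κ * ι = κ * ι
    rfl
  · show κ⁻¹ * ι⁻¹ = (κ * ι)⁻¹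
    rw [mul_inv]
  · show (κ * δ)⁻¹ * (ι * ε)⁻¹ = (κ * ι * (δ * ε))⁻¹
    rw [← mul_inv]
    congr 1
    ring

theorem ovD_e0 (δ κ : F) : ovD δ κ *ᵥ ![1, 0, 0, 0] = (κ * δ) • ![1, 0, 0, 0] := by
  rw [ovD_mulVec]
  funext i
  revert i
  refine ov_fin4 ?_ ?_ ?_ ?_
  · show κ * δ * 1 = κ * δ * 1
    rfl
  · show κ * 0 = κ * δ * 0
    ring
  · show κ⁻¹ * 0 = κ * δ * 0
    ring
  · show (κ * δ)⁻¹ * 0 = κ * δ * 0
    ring

theorem ovD_e3 (δ κ : F) : ovD δ κ *ᵥ ![0, 0, 0, 1] = (κ * δ)⁻¹ • ![0, 0, 0, 1] := by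
  rw [ovD_mulVec]
  funext i
  revert i
  refine ov_fin4 ?_ ?_ ?_ ?_
  · show κ * δ * 0 = (κ * δ)⁻¹ * 0
    ring
  · show κ * 0 = (κ * δ)⁻¹ * 0
    ring
  · show κ⁻¹ * 0 = (κ * δ)⁻¹ * 0
    ring
  · show (κ * δ)⁻¹ * 1 = (κ * δ)⁻¹ * 1
    rfl

theorem ovD_V {θ : F → F} (hθ : OvTheta θ) {δ κ : F} (hδ : δ ≠ 0) (hκ : κ ≠ 0)
    (hκ2 : κ ^ 2 = θ δ) (x y : F) :
    ovD δ κ *ᵥ ovV θ x y = (κ * δ)⁻¹ • ovV θ (δ * x) (θ δ * δ * y) := by
  have h1 : κ * δ ≠ 0 := mul_ne_zero hκ hδ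
  rw [ovD_mulVec]
  have hg : (δ * x) * (θ δ * δ * y) + θ (δ * x) * (δ * x) ^ 2 + θ (θ δ * δ * y) =
      θ δ * δ ^ 2 * (x * y + θ x * x ^ 2 + θ y) := by
    rw [hθ.hmul δ x, hθ.hmul (θ δ * δ) y, hθ.hmul (θ δ) δ, hθ.hsq δ]
    ring
  funext i
  revert i
  refine ov_fin4 ?_ ?_ ?_ ?_
  · show κ * δ * (x * y + θ x * x ^ 2 + θ y) =
      (κ * δ)⁻¹ * ((δ * x) * (θ δ * δ * y) + θ (δ * x) * (δ * x) ^ 2 + θ (θ δ * δ * y))
    rw [hg, ← hκ2, eq_inv_mul_iff_mul_eq₀ h1]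
    ring
  · show κ * y = (κ * δ)⁻¹ * (θ δ * δ * y)
    rw [← hκ2, eq_inv_mul_iff_mul_eq₀ h1]
    ring
  · show κ⁻¹ * x = (κ * δ)⁻¹ * (δ * x)
    rw [eq_inv_mul_iff_mul_eq₀ h1]
    have e : κ * δ * (κ⁻¹ * x) = (κ * κ⁻¹) * (δ * x) := by ring
    rw [e, mul_inv_cancel₀ hκ, one_mul]
  · show (κ * δ)⁻¹ * 1 = (κ * δ)⁻¹ * 1
    rfl

theorem ovD_std {θ : F → F} (hθ : OvTheta θ) {δ κ : F} (hδ : δ ≠ 0) (hκ : κ ≠ 0)
    (hκ2 : κ ^ 2 = θ δ) {v : Fin 4 → F} (hv : IsStd θ v) :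
    ∃ v' : Fin 4 → F, IsStd θ v' ∧ ∃ a : F, a ≠ 0 ∧ ovD δ κ *ᵥ v = a • v' := by
  have h1 : κ * δ ≠ 0 := mul_ne_zero hκ hδ
  rcases hv with rfl | ⟨x, y, rfl⟩
  · exact ⟨![1, 0, 0, 0], Or.inl rfl, κ * δ, h1, ovD_e0 δ κ⟩
  · exact ⟨ovV θ (δ * x) (θ δ * δ * y), ovV_std θ _ _, (κ * δ)⁻¹, inv_ne_zero h1,
      ovD_V hθ hδ hκ hκ2 x y⟩

/-! The two-point stabiliser. -/

theorem ov_gram (A : Matrix (Fin 4) (Fin 4) F) (i j : Fin 4) :
    (Aᵀ * Cfsg.suzukiForm F * A) i j = ovB A i j := by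
  have j00 : Cfsg.suzukiForm F 0 0 = 0 := rfl
  have j01 : Cfsg.suzukiForm F 0 1 = 0 := rfl
  have j02 : Cfsg.suzukiForm F 0 2 = 0 := rfl
  have j03 : Cfsg.suzukiForm F 0 3 = 1 := rfl
  have j10 : Cfsg.suzukiForm F 1 0 = 0 := rfl
  have j11 : Cfsg.suzukiForm F 1 1 = 0 := rfl
  have j12 : Cfsg.suzukiForm F 1 2 = 1 := rfl
  have j13 : Cfsg.suzukiForm F 1 3 = 0 := rfl
  have j20 : Cfsg.suzukiForm F 2 0 = 0 := rfl
  have j21 : Cfsg.suzukiForm F 2 1 = 1 := rfl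
  have j22 : Cfsg.suzukiForm F 2 2 = 0 := rfl
  have j23 : Cfsg.suzukiForm F 2 3 = 0 := rfl
  have j30 : Cfsg.suzukiForm F 3 0 = 1 := rfl
  have j31 : Cfsg.suzukiForm F 3 1 = 0 := rfl
  have j32 : Cfsg.suzukiForm F 3 2 = 0 := rfl
  have j33 : Cfsg.suzukiForm F 3 3 = 0 := rfl
  simp only [Matrix.mul_apply, Fin.sum_univ_four, Matrix.transpose_apply, ovB,
    j00, j01, j02, j03, j10, j11, j12, j13, j20, j21, j22, j23, j30, j31, j32, j33]
  ring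

theorem ov_poly3 {θ : F → F} (hθ : OvTheta θ) (hns : ∃ x, θ x ≠ x ^ 2) {α β γ : F}
    (h : ∀ x, α * x ^ 2 + β * (θ x * x ^ 2) + γ * θ x = 0) : α = 0 ∧ β = 0 ∧ γ = 0 := by
  obtain ⟨x₀, hx₀⟩ := hns
  have hne : θ x₀ + x₀ ^ 2 ≠ 0 := by
    intro h0
    apply hx₀
    linear_combination h0 - x₀ ^ 2 * hθ.h2
  have h1 := h 1
  rw [hθ.hone] at h1
  have hβ : β = 0 := by
    have hx := h x₀
    have hx1 := h (x₀ + 1)
    rw [hθ.hadd, hθ.hone] at hx1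
    have e : β * (θ x₀ + x₀ ^ 2) = 0 := by
      linear_combination hx1 - hx - h1 - (α * x₀ + β * θ x₀ * x₀ + β * x₀) * hθ.h2
    rcases mul_eq_zero.mp e with h' | h'
    · exact h'
    · exact absurd h' hne
  have hαγ : α = γ := by
    rw [hβ] at h1
    linear_combination h1 - γ * hθ.h2
  have hα : α = 0 := by
    have hx := h x₀
    rw [hβ] at hx
    have e : α * (θ x₀ + x₀ ^ 2) = 0 := by linear_combination hx + θ x₀ * hαγ
    rcases mul_eq_zero.mp e with h' | h'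
    · exact h'
    · exact absurd h' hne
  exact ⟨hα, hβ, by rw [← hαγ]; exact hα⟩

theorem ov_eq_diag (A : Matrix (Fin 4) (Fin 4) F) (d : Fin 4 → F)
    (h00 : A 0 0 = d 0) (h11 : A 1 1 = d 1) (h22 : A 2 2 = d 2) (h33 : A 3 3 = d 3)
    (h01 : A 0 1 = 0) (h02 : A 0 2 = 0) (h03 : A 0 3 = 0)
    (h10 : A 1 0 = 0) (h12 : A 1 2 = 0) (h13 : A 1 3 = 0)
    (h20 : A 2 0 = 0) (h21 : A 2 1 = 0) (h23 : A 2 3 = 0)
    (h30 : A 3 0 = 0) (h31 : A 3 1 = 0) (h32 : A 3 2 = 0) :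
    A = Matrix.diagonal d := by
  ext i j
  revert i j
  refine ov_fin4 (ov_fin4 ?_ ?_ ?_ ?_) (ov_fin4 ?_ ?_ ?_ ?_) (ov_fin4 ?_ ?_ ?_ ?_)
    (ov_fin4 ?_ ?_ ?_ ?_)
  · rw [Matrix.diagonal_apply_eq]; exact h00
  · rw [Matrix.diagonal_apply_ne _ (by decide)]; exact h01
  · rw [Matrix.diagonal_apply_ne _ (by decide)]; exact h02
  · rw [Matrix.diagonal_apply_ne _ (by decide)]; exact h03
  · rw [Matrix.diagonal_apply_ne _ (by decide)]; exact h10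
  · rw [Matrix.diagonal_apply_eq]; exact h11
  · rw [Matrix.diagonal_apply_ne _ (by decide)]; exact h12
  · rw [Matrix.diagonal_apply_ne _ (by decide)]; exact h13
  · rw [Matrix.diagonal_apply_ne _ (by decide)]; exact h20
  · rw [Matrix.diagonal_apply_ne _ (by decide)]; exact h21
  · rw [Matrix.diagonal_apply_eq]; exact h22
  · rw [Matrix.diagonal_apply_ne _ (by decide)]; exact h23
  · rw [Matrix.diagonal_apply_ne _ (by decide)]; exact h30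
  · rw [Matrix.diagonal_apply_ne _ (by decide)]; exact h31
  · rw [Matrix.diagonal_apply_ne _ (by decide)]; exact h32
  · rw [Matrix.diagonal_apply_eq]; exact h33

theorem ov_two_pt {θ : F → F} (hθ : OvTheta θ) (hns : ∃ x, θ x ≠ x ^ 2)
    (A : Matrix (Fin 4) (Fin 4) F)
    (hform : Aᵀ * Cfsg.suzukiForm F * A = Cfsg.suzukiForm F)
    (hstab : ∀ v, IsStd θ v → ∃ v' : Fin 4 → F, IsStd θ v' ∧ ∃ a : F, a ≠ 0 ∧ A *ᵥ v = a • v')
    {l0 l3 : F} (h0 : A *ᵥ ![1, 0, 0, 0] = l0 • ![1, 0, 0, 0])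
    (h3 : A *ᵥ ![0, 0, 0, 1] = l3 • ![0, 0, 0, 1]) :
    ∃ δ κ : F, δ ≠ 0 ∧ κ ≠ 0 ∧ κ ^ 2 = θ δ ∧ A = ovD δ κ := by
  have hθ0 := ov_theta_zero θ hθ.hadd
  have hB : ∀ i j, ovB A i j = Cfsg.suzukiForm F i j := fun i j => by rw [← ov_gram, hform]
  -- the columns 0 and 3
  have c00 : A 0 0 = l0 := by
    have h := congrFun h0 0
    rw [ov_mv4] at h
    have h' : A 0 0 * 1 + A 0 1 * 0 + A 0 2 * 0 + A 0 3 * 0 = l0 * 1 := h
    linear_combination h'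
  have c10 : A 1 0 = 0 := by
    have h := congrFun h0 1
    rw [ov_mv4] at h
    have h' : A 1 0 * 1 + A 1 1 * 0 + A 1 2 * 0 + A 1 3 * 0 = l0 * 0 := h
    linear_combination h'
  have c20 : A 2 0 = 0 := by
    have h := congrFun h0 2
    rw [ov_mv4] at h
    have h' : A 2 0 * 1 + A 2 1 * 0 + A 2 2 * 0 + A 2 3 * 0 = l0 * 0 := h
    linear_combination h'
  have c30 : A 3 0 = 0 := by
    have h := congrFun h0 3
    rw [ov_mv4] at h
    have h' : A 3 0 * 1 + A 3 1 * 0 + A 3 2 * 0 + A 3 3 * 0 = l0 * 0 := h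
    linear_combination h'
  have c03 : A 0 3 = 0 := by
    have h := congrFun h3 0
    rw [ov_mv4] at h
    have h' : A 0 0 * 0 + A 0 1 * 0 + A 0 2 * 0 + A 0 3 * 1 = l3 * 0 := h
    linear_combination h'
  have c13 : A 1 3 = 0 := by
    have h := congrFun h3 1
    rw [ov_mv4] at h
    have h' : A 1 0 * 0 + A 1 1 * 0 + A 1 2 * 0 + A 1 3 * 1 = l3 * 0 := h
    linear_combination h'
  have c23 : A 2 3 = 0 := by
    have h := congrFun h3 2
    rw [ov_mv4] at h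
    have h' : A 2 0 * 0 + A 2 1 * 0 + A 2 2 * 0 + A 2 3 * 1 = l3 * 0 := h
    linear_combination h'
  have c33 : A 3 3 = l3 := by
    have h := congrFun h3 3
    rw [ov_mv4] at h
    have h' : A 3 0 * 0 + A 3 1 * 0 + A 3 2 * 0 + A 3 3 * 1 = l3 * 1 := h
    linear_combination h'
  -- the form
  have b03 : A 3 0 * A 0 3 + A 2 0 * A 1 3 + A 1 0 * A 2 3 + A 0 0 * A 3 3 = 1 := hB 0 3
  have b01 : A 3 0 * A 0 1 + A 2 0 * A 1 1 + A 1 0 * A 2 1 + A 0 0 * A 3 1 = 0 := hB 0 1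
  have b02 : A 3 0 * A 0 2 + A 2 0 * A 1 2 + A 1 0 * A 2 2 + A 0 0 * A 3 2 = 0 := hB 0 2
  have b31 : A 3 3 * A 0 1 + A 2 3 * A 1 1 + A 1 3 * A 2 1 + A 0 3 * A 3 1 = 0 := hB 3 1
  have b32 : A 3 3 * A 0 2 + A 2 3 * A 1 2 + A 1 3 * A 2 2 + A 0 3 * A 3 2 = 0 := hB 3 2
  have b12 : A 3 1 * A 0 2 + A 2 1 * A 1 2 + A 1 1 * A 2 2 + A 0 1 * A 3 2 = 1 := hB 1 2
  rw [c30, c20, c10, c00, c33] at b03
  rw [c30, c20, c10, c00] at b01 b02
  rw [c33, c23, c13, c03] at b31 b32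
  have hl : l0 * l3 = 1 := by linear_combination b03
  have hl0 : l0 ≠ 0 := by
    intro h
    rw [h, zero_mul] at hl
    exact zero_ne_one hl
  have hl3 : l3 ≠ 0 := by
    intro h
    rw [h, mul_zero] at hl
    exact zero_ne_one hl
  have r31 : A 3 1 = 0 := by
    have e : l0 * A 3 1 = 0 := by linear_combination b01
    exact (mul_eq_zero.mp e).resolve_left hl0
  have r32 : A 3 2 = 0 := by
    have e : l0 * A 3 2 = 0 := by linear_combination b02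
    exact (mul_eq_zero.mp e).resolve_left hl0
  have r01 : A 0 1 = 0 := by
    have e : l3 * A 0 1 = 0 := by linear_combination b31
    exact (mul_eq_zero.mp e).resolve_left hl3
  have r02 : A 0 2 = 0 := by
    have e : l3 * A 0 2 = 0 := by linear_combination b32
    exact (mul_eq_zero.mp e).resolve_left hl3
  rw [r31, r01] at b12
  -- the action on the affine points
  have key : ∀ x y : F, l0 * (x * y + θ x * x ^ 2 + θ y) =
      l3 * ((A 2 1 * y + A 2 2 * x) / l3 * ((A 1 1 * y + A 1 2 * x) / l3) +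
        θ ((A 2 1 * y + A 2 2 * x) / l3) * ((A 2 1 * y + A 2 2 * x) / l3) ^ 2 +
        θ ((A 1 1 * y + A 1 2 * x) / l3)) := by
    intro x y
    obtain ⟨v', hv', t, ht, hAv⟩ := hstab _ (ovV_std θ x y)
    have e3 := congrFun hAv 3
    have e2 := congrFun hAv 2
    have e1 := congrFun hAv 1
    have e0 := congrFun hAv 0
    rw [ov_mv4] at e0 e1 e2 e3
    rw [c30, r31, r32, c33] at e3
    rw [c20, c23] at e2
    rw [c10, c13] at e1
    rw [c00, r01, r02, c03] at e0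
    rcases hv' with rfl | ⟨x', y', rfl⟩
    · exfalso
      have e3' : 0 * (x * y + θ x * x ^ 2 + θ y) + 0 * y + 0 * x + l3 * 1 = t * 0 := e3
      apply hl3
      linear_combination e3'
    · have e3' : 0 * (x * y + θ x * x ^ 2 + θ y) + 0 * y + 0 * x + l3 * 1 = t * 1 := e3
      have e2' : 0 * (x * y + θ x * x ^ 2 + θ y) + A 2 1 * y + A 2 2 * x + 0 * 1 = t * x' := e2
      have e1' : 0 * (x * y + θ x * x ^ 2 + θ y) + A 1 1 * y + A 1 2 * x + 0 * 1 = t * y' := e1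
      have e0' : l0 * (x * y + θ x * x ^ 2 + θ y) + 0 * y + 0 * x + 0 * 1 =
          t * (x' * y' + θ x' * x' ^ 2 + θ y') := e0
      have htl : t = l3 := by linear_combination -e3'
      have hx' : x' = (A 2 1 * y + A 2 2 * x) / l3 := by
        rw [eq_div_iff hl3]
        linear_combination -e2' - x' * htl
      have hy' : y' = (A 1 1 * y + A 1 2 * x) / l3 := by
        rw [eq_div_iff hl3]
        linear_combination -e1' - y' * htl
      rw [htl, hx', hy'] at e0'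
      linear_combination e0'
  obtain ⟨a', ha'⟩ : ∃ a' : F, a' = A 1 1 / l3 := ⟨_, rfl⟩
  obtain ⟨b', hb'⟩ : ∃ b' : F, b' = A 1 2 / l3 := ⟨_, rfl⟩
  obtain ⟨c', hc'⟩ : ∃ c' : F, c' = A 2 1 / l3 := ⟨_, rfl⟩
  obtain ⟨d', hd'⟩ : ∃ d' : F, d' = A 2 2 / l3 := ⟨_, rfl⟩
  obtain ⟨hα1, hβ1, hγ1⟩ := ov_poly3 hθ hns (α := l3 * (d' * b'))
    (β := l3 * (θ d' * d' ^ 2) - l0) (γ := l3 * θ b') (by
      intro x
      have k := key x 0
      have hX : (A 2 1 * 0 + A 2 2 * x) / l3 = d' * x := by rw [hd']; ring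
      have hY : (A 1 1 * 0 + A 1 2 * x) / l3 = b' * x := by rw [hb']; ring
      rw [hX, hY, hθ.hmul d' x, hθ.hmul b' x, hθ0] at k
      linear_combination -k)
  obtain ⟨hα2, hβ2, hγ2⟩ := ov_poly3 hθ hns (α := l3 * (c' * a'))
    (β := l3 * (θ c' * c' ^ 2)) (γ := l3 * θ a' - l0) (by
      intro y
      have k := key 0 y
      have hX : (A 2 1 * y + A 2 2 * 0) / l3 = c' * y := by rw [hc']; ring
      have hY : (A 1 1 * y + A 1 2 * 0) / l3 = a' * y := by rw [ha']; ring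
      rw [hX, hY, hθ.hmul c' y, hθ.hmul a' y, hθ0] at k
      linear_combination -k)
  have hb0 : b' = 0 :=
    ov_theta_inj0 θ hθ.hadd hθ.hsq ((mul_eq_zero.mp hγ1).resolve_left hl3)
  have hc0 : c' = 0 := by
    rcases mul_eq_zero.mp ((mul_eq_zero.mp hβ2).resolve_left hl3) with h | h
    · exact ov_theta_inj0 θ hθ.hadd hθ.hsq h
    · exact (pow_eq_zero_iff (by norm_num)).mp h
  have hA12 : A 1 2 = 0 := by
    have e : A 1 2 = b' * l3 := by rw [hb', div_mul_cancel₀ _ hl3]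
    rw [e, hb0, zero_mul]
  have hA21 : A 2 1 = 0 := by
    have e : A 2 1 = c' * l3 := by rw [hc', div_mul_cancel₀ _ hl3]
    rw [e, hc0, zero_mul]
  have hA11 : A 1 1 = a' * l3 := by rw [ha', div_mul_cancel₀ _ hl3]
  have hA22 : A 2 2 = d' * l3 := by rw [hd', div_mul_cancel₀ _ hl3]
  have had : A 1 1 * A 2 2 = 1 := by
    rw [hA12] at b12
    linear_combination b12
  have hκ0 : A 1 1 ≠ 0 := by
    intro h
    rw [h, zero_mul] at had
    exact zero_ne_one had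
  have hd0 : d' ≠ 0 := by
    intro h
    rw [hA22, h, zero_mul, mul_zero] at had
    exact zero_ne_one had
  have E1 : l0 = l3 * (θ d' * d' ^ 2) := by linear_combination -hβ1
  have E2 : l0 = l3 * θ a' := by linear_combination -hγ2
  have E3 : l3 * (d' * a') = l0 := by
    have k := key 1 1
    have hX : (A 2 1 * 1 + A 2 2 * 1) / l3 = d' := by rw [hA21, hd']; ring
    have hY : (A 1 1 * 1 + A 1 2 * 1) / l3 = a' := by rw [hA12, ha']; ring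
    rw [hX, hY, hθ.hone] at k
    linear_combination -k + E1 + E2
  have ha'' : a' = θ d' * d' := by
    have e : (l3 * d') * a' = (l3 * d') * (θ d' * d') := by linear_combination E3 + E1
    exact mul_left_cancel₀ (mul_ne_zero hl3 hd0) e
  have ha : A 1 1 = θ d' * d' * l3 := by rw [hA11, ha'']
  have hκ2 : A 1 1 ^ 2 = θ d' := by
    linear_combination (A 1 1) * ha - θ d' * A 1 1 * hA22 + θ d' * had
  have e00 : A 0 0 = A 1 1 * d' := by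
    rw [c00]
    linear_combination E1 - d' * ha
  have e22 : A 2 2 = (A 1 1)⁻¹ := eq_inv_of_mul_eq_one_right had
  have e33 : A 3 3 = (A 1 1 * d')⁻¹ := by
    rw [c33]
    exact eq_inv_of_mul_eq_one_right (by linear_combination had - A 1 1 * hA22)
  exact ⟨d', A 1 1, hd0, hκ0, hκ2,
    ov_eq_diag A _ e00 rfl e22 e33 r01 r02 c03 c10 hA12 c13 c20 hA21 c23 c30 r31 r32⟩

end SzOvAbs

end Cfsg.Agent.Helper22
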