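import Cfsg.Agent.Helper22.SzVec

set_option autoImplicit false
set_option linter.style.haveILetI false
set_option linter.unusedSectionVars false
set_option linter.unusedSimpArgs false
set_option linter.unusedVariables false
set_option linter.unusedTactic false
set_option maxHeartbeats 1000000

open Cfsg
open Matrix
open scoped Pointwise

namespace Cfsg.Agent.Helper22

/-- The twisting homomorphism of an affine group. -/
def affφ (G A : Type*) [Group G] [AddCommGroup A] [DistribMulAction G A] :
    G →* MulAut (Multiplicative A) where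
  toFun g :=
    { toFun := fun t => Multiplicative.ofAdd (g • Multiplicative.toAdd t)
      invFun := fun t => Multiplicative.ofAdd (g⁻¹ • Multiplicative.toAdd t)
      left_inv := fun t => by
        show Multiplicative.ofAdd (g⁻¹ • (g • Multiplicative.toAdd t)) = t
        rw [inv_smul_smul]
        rfl
      right_inv := fun t => by
        show Multiplicative.ofAdd (g • (g⁻¹ • Multiplicative.toAdd t)) = t
        rw [smul_inv_smul]
        rfl
      map_mul' := fun t t' => by
        show Multiplicative.ofAdd (g • (Multiplicative.toAdd t + Multiplicative.toAdd t')) =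
          Multiplicative.ofAdd (g • Multiplicative.toAdd t) *
            Multiplicative.ofAdd (g • Multiplicative.toAdd t')
        rw [smul_add]
        rfl }
  map_one' := by
    apply MulEquiv.ext
    intro t
    show Multiplicative.ofAdd ((1 : G) • Multiplicative.toAdd t) = t
    rw [one_smul]
    rfl
  map_mul' g h := by
    apply MulEquiv.ext
    intro t
    show Multiplicative.ofAdd ((g * h) • Multiplicative.toAdd t) =
      Multiplicative.ofAdd (g • Multiplicative.toAdd
        (Multiplicative.ofAdd (h • Multiplicative.toAdd t)))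
    rw [mul_smul]
    rfl

theorem pg_no_drop {G H : Type*} [Group G] [Group H] (π : H →* G)
    (hexp : ∀ t : H, π t = 1 → t * t = 1)
    (hfix : ∀ z t : H, π t = 1 → t ≠ 1 → z * t = t * z → (π z) ^ 4 = 1)
    (y : H) (p p' : ℕ) (hp : p.Prime) (hp' : p'.Prime) (hne : p ≠ p')
    (hy : orderOf y = p * p') (hπ : (π y) ^ p = 1) : False := by
  have ht1 : π (y ^ p) = 1 := by rw [map_pow]; exact hπ
  have htt := hexp _ ht1
  have h2p : y ^ (p * 2) = 1 := by rw [pow_mul, pow_two]; exact htt
  have hdvd : p * p' ∣ p * 2 := by rw [← hy]; exact orderOf_dvd_of_pow_eq_one h2p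
  have hp'2 : p' ∣ 2 := Nat.dvd_of_mul_dvd_mul_left hp.pos hdvd
  have hp'eq : p' = 2 := by
    rcases (Nat.dvd_prime Nat.prime_two).mp hp'2 with h | h
    · exact absurd h hp'.one_lt.ne'
    · exact h
  subst hp'eq
  have hppos := hp.pos
  have htne : y ^ p ≠ 1 := by
    apply pow_ne_one_of_lt_orderOf hp.ne_zero
    rw [hy]
    omega
  have hcomm : y * y ^ p = y ^ p * y := by rw [← pow_succ', ← pow_succ]
  have h4 := hfix y (y ^ p) ht1 htne hcomm
  have ho4 : orderOf (π y) ∣ 2 ^ 2 := orderOf_dvd_of_pow_eq_one (by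
    have e : (2 : ℕ) ^ 2 = 4 := by norm_num
    rw [e]
    exact h4)
  have hop : orderOf (π y) ∣ p := orderOf_dvd_of_pow_eq_one hπ
  have h2p' : Nat.Coprime 2 p :=
    (Nat.coprime_primes Nat.prime_two hp).mpr (fun h => hne h.symm)
  have hcop : Nat.Coprime (2 ^ 2) p := Nat.Coprime.pow_left 2 h2p'
  have hg : orderOf (π y) ∣ Nat.gcd (2 ^ 2) p := Nat.dvd_gcd ho4 hop
  rw [hcop.gcd_eq_one] at hg
  have ho1 : orderOf (π y) = 1 := Nat.dvd_one.mp hg
  have hπ1 : π y = 1 := orderOf_eq_one_iff.mp ho1
  have hyy := hexp y hπ1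
  have hd2 : p * 2 ∣ 2 := by
    rw [← hy]
    exact orderOf_dvd_of_pow_eq_one (by rw [pow_two]; exact hyy)
  have hle := Nat.le_of_dvd (by norm_num) hd2
  have h2le := hp.two_le
  omega

theorem pg_edges {G H : Type*} [Group G] [Group H] (π : H →* G) (ι : G →* H)
    (hι : Function.Injective ι)
    (hexp : ∀ t : H, π t = 1 → t * t = 1)
    (hfix : ∀ z t : H, π t = 1 → t ≠ 1 → z * t = t * z → (π z) ^ 4 = 1)
    (r s : ℕ) (hr : r.Prime) (hs : s.Prime) (hrs : r ≠ s) :
    (∃ x : G, orderOf x = r * s) ↔ (∃ y : H, orderOf y = r * s) := by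
  constructor
  · rintro ⟨x, hx⟩
    exact ⟨ι x, by rw [orderOf_injective ι hι x, hx]⟩
  · rintro ⟨y, hy⟩
    refine ⟨π y, ?_⟩
    have hd : orderOf (π y) ∣ r * s := by rw [← hy]; exact orderOf_map_dvd π y
    obtain ⟨d₁, d₂, h1, h2, h12⟩ := Nat.dvd_mul.mp hd
    rcases (Nat.dvd_prime hr).mp h1 with e1 | e1
    · exfalso
      have hds : orderOf (π y) ∣ s := by rw [← h12, e1, one_mul]; exact h2
      have hπs : (π y) ^ s = 1 := orderOf_dvd_iff_pow_eq_one.mp hds
      exact pg_no_drop π hexp hfix y s r hs hr (fun h => hrs h.symm)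
        (by rw [hy, mul_comm]) hπs
    · rcases (Nat.dvd_prime hs).mp h2 with e2 | e2
      · exfalso
        have hdr : orderOf (π y) ∣ r := by rw [← h12, e2, mul_one]; exact h1
        have hπr : (π y) ^ r = 1 := orderOf_dvd_iff_pow_eq_one.mp hdr
        exact pg_no_drop π hexp hfix y r s hr hs hrs hy hπr
      · rw [← h12, e1, e2]

theorem pg_semidirect {G A : Type*} [Group G] [AddCommGroup A] [DistribMulAction G A]
    (h2A : ∀ a : A, a + a = 0)
    (hfix : ∀ (g : G) (a : A), a ≠ 0 → g • a = a → g ^ 4 = 1) :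
    (∀ t : Multiplicative A ⋊[affφ G A] G,
      (SemidirectProduct.rightHom : Multiplicative A ⋊[affφ G A] G →* G) t = 1 → t * t = 1) ∧
    (∀ z t : Multiplicative A ⋊[affφ G A] G,
      (SemidirectProduct.rightHom : Multiplicative A ⋊[affφ G A] G →* G) t = 1 → t ≠ 1 →
      z * t = t * z →
      ((SemidirectProduct.rightHom : Multiplicative A ⋊[affφ G A] G →* G) z) ^ 4 = 1) := by
  constructor
  · intro t ht
    have htr : t.right = 1 := ht
    apply SemidirectProduct.ext
    · rw [SemidirectProduct.mul_left, htr, map_one]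
      show t.left * t.left = 1
      exact congrArg Multiplicative.ofAdd (h2A (Multiplicative.toAdd t.left))
    · rw [SemidirectProduct.mul_right, htr, mul_one]
      rfl
  · intro z t ht htne hzt
    have htr : t.right = 1 := ht
    have hl := congrArg SemidirectProduct.left hzt
    rw [SemidirectProduct.mul_left, SemidirectProduct.mul_left, htr, map_one] at hl
    have hl' : z.left * (affφ G A z.right) t.left = z.left * t.left := by
      rw [hl]
      exact mul_comm _ _
    have hfixed : (affφ G A z.right) t.left = t.left := mul_left_cancel hl'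
    have hfa : z.right • Multiplicative.toAdd t.left = Multiplicative.toAdd t.left :=
      congrArg Multiplicative.toAdd hfixed
    have hane : Multiplicative.toAdd t.left ≠ 0 := by
      intro h0
      apply htne
      apply SemidirectProduct.ext
      · exact congrArg Multiplicative.ofAdd h0
      · exact htr
    exact hfix z.right _ hane hfa

theorem pg_shrink {G' : Type*} [Group G'] {H' : Type*} [Group H'] [Finite H'] (N : ℕ)
    (hN : N < Nat.card H')
    (hprimes : ∀ r : ℕ, r.Prime → (r ∣ Nat.card G' ↔ r ∣ Nat.card H'))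
    (hedges : ∀ r s : ℕ, r.Prime → s.Prime → r ≠ s →
      ((∃ x : G', orderOf x = r * s) ↔ (∃ y : H', orderOf y = r * s))) :
    ∃ (H : Type) (_ : Group H) (_ : Fintype H), N < Fintype.card H ∧
      ((∀ r : ℕ, r.Prime → (r ∣ Nat.card G' ↔ r ∣ Nat.card H)) ∧
      (∀ r s : ℕ, r.Prime → s.Prime → r ≠ s →
        ((∃ x : G', orderOf x = r * s) ↔ (∃ y : H, orderOf y = r * s)))) := by
  haveI : Finite (Shrink.{0} H') := Finite.of_equiv _ (equivShrink.{0} H')
  obtain ⟨f⟩ : Nonempty (Shrink.{0} H' ≃* H') := ⟨Shrink.mulEquiv⟩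
  have hc : Nat.card (Shrink.{0} H') = Nat.card H' := Nat.card_congr f.toEquiv
  letI hft : Fintype (Shrink.{0} H') := Fintype.ofFinite (Shrink.{0} H')
  refine ⟨Shrink.{0} H', inferInstance, hft, ?_, ?_, ?_⟩
  · rw [← Nat.card_eq_fintype_card, hc]
    exact hN
  · intro r hr
    rw [hc]
    exact hprimes r hr
  · intro r s hr hs hrs
    rw [hedges r s hr hs hrs]
    constructor
    · rintro ⟨y, hy⟩
      exact ⟨f.symm y, (orderOf_injective f.symm.toMonoidHom f.symm.injective y).trans hy⟩
    · rintro ⟨y, hy⟩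
      exact ⟨f y, (orderOf_injective f.toMonoidHom f.injective y).trans hy⟩

theorem pg_main {G : Type*} [Group G] [Finite G] {A : Type*} [AddCommGroup A] [Finite A]
    [DistribMulAction G A]
    (h2A : ∀ a : A, a + a = 0) (hfix : ∀ (g : G) (a : A), a ≠ 0 → g • a = a → g ^ 4 = 1)
    (h2G : 2 ∣ Nat.card G) (k : ℕ) (hA : Nat.card A = 2 ^ k)
    {G' : Type*} [Group G'] (e : G ≃* G') (N : ℕ) (hN : N < 2 ^ k) :
    ∃ (H : Type) (_ : Group H) (_ : Fintype H), N < Fintype.card H ∧
      ((∀ r : ℕ, r.Prime → (r ∣ Nat.card G' ↔ r ∣ Nat.card H)) ∧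
      (∀ r s : ℕ, r.Prime → s.Prime → r ≠ s →
        ((∃ x : G', orderOf x = r * s) ↔ (∃ y : H, orderOf y = r * s)))) := by
  obtain ⟨hexp, hfx⟩ := pg_semidirect (G := G) h2A hfix
  haveI : Finite (Multiplicative A ⋊[affφ G A] G) :=
    Finite.of_equiv _ SemidirectProduct.equivProd.symm
  have hcard : Nat.card (Multiplicative A ⋊[affφ G A] G) = 2 ^ k * Nat.card G := by
    rw [SemidirectProduct.card, Nat.card_congr Multiplicative.toAdd, hA]
  have hGpos : 0 < Nat.card G := Nat.card_pos
  have hcG : Nat.card G' = Nat.card G := (Nat.card_congr e.toEquiv).symm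
  apply pg_shrink (H' := Multiplicative A ⋊[affφ G A] G) N
  · rw [hcard]
    calc N < 2 ^ k := hN
      _ = 2 ^ k * 1 := (mul_one _).symm
      _ ≤ 2 ^ k * Nat.card G := Nat.mul_le_mul_left _ hGpos
  · intro r hr
    rw [hcard, hcG]
    constructor
    · intro h
      exact Dvd.dvd.mul_left h _
    · intro h
      rcases (Nat.Prime.dvd_mul hr).mp h with h' | h'
      · have h2 : r ∣ 2 := Nat.Prime.dvd_of_dvd_pow hr h'
        have hr2 : r = 2 := (Nat.prime_dvd_prime_iff_eq hr Nat.prime_two).mp h2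
        rw [hr2]
        exact h2G
      · exact h'
  · intro r s hr hs hrs
    have h1 := pg_edges (SemidirectProduct.rightHom : Multiplicative A ⋊[affφ G A] G →* G)
      SemidirectProduct.inr SemidirectProduct.inr_injective hexp hfx r s hr hs hrs
    rw [← h1]
    constructor
    · rintro ⟨x, hx⟩
      exact ⟨e.symm x, (orderOf_injective e.symm.toMonoidHom e.symm.injective x).trans hx⟩
    · rintro ⟨x, hx⟩
      exact ⟨e x, (orderOf_injective e.toMonoidHom e.injective x).trans hx⟩

section SzPG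

variable {F : Type*} [Field F] [Fintype F] {m : ℕ}

theorem pg_lie (hm : 1 ≤ m) (hF : Fintype.card F = 2 ^ (2 * m + 1)) (N : ℕ) :
    ∃ (H : Type) (_ : Group H) (_ : Fintype H), N < Fintype.card H ∧
      ((∀ r : ℕ, r.Prime → (r ∣ Nat.card ↥(Cfsg.Lie.Sz F (2 ^ (m + 1))) ↔ r ∣ Nat.card H)) ∧
      (∀ r s : ℕ, r.Prime → s.Prime → r ≠ s →
        ((∃ x : ↥(Cfsg.Lie.Sz F (2 ^ (m + 1))), orderOf x = r * s) ↔
          (∃ y : H, orderOf y = r * s)))) := by
  classical
  have hθ := szθ_spec hF
  have h2A : ∀ a : Fin N → Fin 4 → F, a + a = 0 := by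
    intro a
    funext i j
    show a i j + a i j = 0
    linear_combination (a i j) * hθ.h2
  have hfix : ∀ (g : ↥(Cfsg.Sz F m)) (a : Fin N → Fin 4 → F), a ≠ 0 → g • a = a →
      g ^ 4 = 1 := by
    intro g a ha hga
    obtain ⟨i, hi⟩ := Function.ne_iff.mp ha
    have hgi : ((g : Matrix.SpecialLinearGroup (Fin 4) F) : Matrix (Fin 4) (Fin 4) F) *ᵥ a i =
        a i := congrFun hga i
    exact sz_vec_fix hm hF g (a i) hi hgi
  have h2G : 2 ∣ Nat.card ↥(Cfsg.Sz F m) := by
    rw [sz_card hm hF]
    have h2 : 2 ∣ (2 ^ (2 * m + 1)) ^ 2 := dvd_pow (dvd_pow_self 2 (by omega)) (by norm_num)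
    exact (h2.mul_right _).mul_right _
  have hA : Nat.card (Fin N → Fin 4 → F) = 2 ^ (4 * N * (2 * m + 1)) := by
    rw [Nat.card_eq_fintype_card, Fintype.card_fun, Fintype.card_fun, hF, Fintype.card_fin,
      Fintype.card_fin, ← pow_mul, ← pow_mul]
    congr 1
    ring
  have hN : N < 2 ^ (4 * N * (2 * m + 1)) := by
    have h1 : N ≤ 4 * N * (2 * m + 1) := by
      have h2 : N ≤ 4 * N := by omega
      exact le_trans h2 (Nat.le_mul_of_pos_right _ (by omega))
    calc N < 2 ^ N := Nat.lt_two_pow_self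
      _ ≤ 2 ^ (4 * N * (2 * m + 1)) := Nat.pow_le_pow_right (by norm_num) h1
  exact pg_main h2A hfix h2G _ hA (szBridge hm hF) N hN

end SzPG

end Cfsg.Agent.Helper22
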