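import Cfsg.Agent.Helper22.SzFixD

set_option autoImplicit false
set_option linter.style.haveILetI false
set_option linter.unusedSectionVars false
set_option linter.unusedSimpArgs false
set_option linter.unusedVariables false
set_option linter.unusedTactic false
set_option maxHeartbeats 1000000

open Cfsg
open Matrix
open scoped Pointwise

namespace Cfsg.Agent.Helper22

/-- The Heisenberg induction: operators indexed by an elementary abelian 2-group which
commute up to the signs of an alternating pairing act on spaces of large dimension. -/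
theorem heis_ind {Γ V : Type*} [AddCommGroup Γ] [Finite Γ] [AddCommGroup V] [Module ℂ V]
    [FiniteDimensional ℂ V]
    (h2 : ∀ x : Γ, x + x = 0)
    (ope : Γ → (V ≃ₗ[ℂ] V)) (s : Γ → Γ → ℂ) (μ : Γ → ℂ) (E₀ : Submodule ℂ V)
    (hs_add : ∀ a a' c, s (a + a') c = s a c * s a' c)
    (hs_symm : ∀ a c, s a c = s c a)
    (hs_self : ∀ a, s a a = 1)
    (hs_pm : ∀ a c, s a c = 1 ∨ s a c = -1)
    (hμ : ∀ a, μ a ≠ 0)
    (hcomm : ∀ a c, ∀ v ∈ E₀, ope a (ope c v) = s a c • ope c (ope a v))
    (hsq : ∀ a, ∀ v ∈ E₀, ope a (ope a v) = μ a • v) :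
    ∀ n : ℕ, ∀ W : AddSubgroup Γ, Nat.card W ≤ n → ∀ E' : Submodule ℂ V, E' ≤ E₀ → E' ≠ ⊥ →
      (∀ a ∈ W, ∀ v ∈ E', ope a v ∈ E') →
      ∃ j : ℕ, Nat.card W ≤ ({a : Γ | a ∈ W ∧ ∀ c ∈ W, s a c = 1} : Set Γ).ncard * 4 ^ j ∧
        2 ^ j ≤ Module.finrank ℂ E' := by
  classical
  intro n
  induction n with
  | zero =>
    intro W hW
    exfalso
    have hpos : 0 < Nat.card W := Nat.card_pos
    omega
  | succ n ih =>
    intro W hW E' hE'E hE'ne hinv
    by_cases hall : ∀ a ∈ W, ∀ c ∈ W, s a c = 1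
    · refine ⟨0, ?_, ?_⟩
      · rw [pow_zero, mul_one]
        have hsub : (W : Set Γ) ⊆ {a : Γ | a ∈ W ∧ ∀ c ∈ W, s a c = 1} :=
          fun a ha => ⟨ha, hall a ha⟩
        have h1 := Set.ncard_le_ncard hsub (Set.toFinite _)
        have h2' : (W : Set Γ).ncard = Nat.card W := (Nat.card_coe_set_eq (W : Set Γ)).symm
        omega
      · rw [pow_zero]
        obtain ⟨x, hx, hx0⟩ := (Submodule.ne_bot_iff E').mp hE'ne
        have hpos : 0 < Module.finrank ℂ E' :=
          Module.finrank_pos_iff_exists_ne_zero.mpr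
            ⟨⟨x, hx⟩, fun h => hx0 (congrArg Subtype.val h)⟩
        omega
    · have hex : ∃ a₁ ∈ W, ∃ c₁ ∈ W, s a₁ c₁ ≠ 1 := by
        by_contra hno
        apply hall
        intro a ha c hc
        by_contra h
        exact hno ⟨a, ha, c, hc, h⟩
      obtain ⟨a₁, ha₁, c₁, hc₁, hs1⟩ := hex
      have hs1' : s a₁ c₁ = -1 := (hs_pm a₁ c₁).resolve_left hs1
      have hs_zero : ∀ x, s 0 x = 1 := by
        intro x
        have h := hs_add 0 0 x
        rw [add_zero] at h
        rcases hs_pm 0 x with h1 | h1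
        · exact h1
        · rw [h1] at h
          norm_num at h
      have hs_add' : ∀ a c c', s a (c + c') = s a c * s a c' := by
        intro a c c'
        rw [hs_symm a (c + c'), hs_add, hs_symm c a, hs_symm c' a]
      have hsqs : ∀ a c, s a c * s a c = 1 := by
        intro a c
        rcases hs_pm a c with h | h <;> rw [h] <;> norm_num
      let W' : AddSubgroup Γ :=
        { carrier := {w | w ∈ W ∧ s w a₁ = 1 ∧ s w c₁ = 1}
          add_mem' := by
            rintro x y ⟨hx, hx1, hx2⟩ ⟨hy, hy1, hy2⟩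
            exact ⟨W.add_mem hx hy, by rw [hs_add, hx1, hy1, mul_one],
              by rw [hs_add, hx2, hy2, mul_one]⟩
          zero_mem' := ⟨W.zero_mem, hs_zero _, hs_zero _⟩
          neg_mem' := by
            rintro x ⟨hx, hx1, hx2⟩
            have e : -x = x := neg_eq_of_add_eq_zero_left (h2 x)
            rw [e]
            exact ⟨hx, hx1, hx2⟩ }
      have hW'mem : ∀ w, w ∈ W' ↔ w ∈ W ∧ s w a₁ = 1 ∧ s w c₁ = 1 := fun w => Iff.rfl
      have ha₁W' : a₁ ∉ W' := fun h => hs1 ((hW'mem a₁).mp h).2.2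
      have hlt : Nat.card W' < Nat.card W := by
        have h1 : (W' : Set Γ) ⊂ (W : Set Γ) :=
          ⟨fun w hw => ((hW'mem w).mp hw).1, fun h => ha₁W' (h ha₁)⟩
        have h2' := Set.ncard_lt_ncard h1 (Set.toFinite _)
        have e1 : (W : Set Γ).ncard = Nat.card W := (Nat.card_coe_set_eq (W : Set Γ)).symm
        have e2 : (W' : Set Γ).ncard = Nat.card W' := (Nat.card_coe_set_eq (W' : Set Γ)).symm
        omega
      -- the decomposition
      let d : Γ → Γ := fun w => (if s w c₁ = 1 then 0 else a₁) + (if s w a₁ = 1 then 0 else c₁)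
      have hd_def : ∀ w, d w = (if s w c₁ = 1 then 0 else a₁) + (if s w a₁ = 1 then 0 else c₁) :=
        fun w => rfl
      have hd1 : ∀ w, s (d w) a₁ = s w a₁ := by
        intro w
        rw [hd_def, hs_add]
        have e1 : s (if s w c₁ = 1 then 0 else a₁) a₁ = 1 := by
          split_ifs
          · exact hs_zero _
          · exact hs_self _
        have e2 : s (if s w a₁ = 1 then 0 else c₁) a₁ = s w a₁ := by
          split_ifs with h
          · rw [hs_zero, h]
          · rw [hs_symm c₁ a₁, hs1', (hs_pm w a₁).resolve_left h]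
        rw [e1, e2, one_mul]
      have hd2 : ∀ w, s (d w) c₁ = s w c₁ := by
        intro w
        rw [hd_def, hs_add]
        have e1 : s (if s w c₁ = 1 then 0 else a₁) c₁ = s w c₁ := by
          split_ifs with h
          · rw [hs_zero, h]
          · rw [hs1', (hs_pm w c₁).resolve_left h]
        have e2 : s (if s w a₁ = 1 then 0 else c₁) c₁ = 1 := by
          split_ifs
          · exact hs_zero _
          · exact hs_self _
        rw [e1, e2, mul_one]
      have hdW : ∀ w, d w ∈ W := by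
        intro w
        rw [hd_def]
        apply W.add_mem
        · split_ifs
          · exact W.zero_mem
          · exact ha₁
        · split_ifs
          · exact W.zero_mem
          · exact hc₁
      have hdS : ∀ w, d w ∈ ({0, a₁, c₁, a₁ + c₁} : Finset Γ) := by
        intro w
        rw [hd_def]
        split_ifs <;> simp
      have hdec : ∀ w ∈ W, w + d w ∈ W' := fun w hw =>
        (hW'mem _).mpr ⟨W.add_mem hw (hdW w), by rw [hs_add, hd1, hsqs], by rw [hs_add, hd2, hsqs]⟩
      have hcardW : Nat.card W ≤ Nat.card W' * 4 := by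
        let f : ↥W → ↥W' × ↥({0, a₁, c₁, a₁ + c₁} : Finset Γ) :=
          fun w => (⟨(w : Γ) + d (w : Γ), hdec _ w.2⟩, ⟨d (w : Γ), hdS _⟩)
        have hf : Function.Injective f := by
          intro w w₂ h
          have h1 : (w : Γ) + d (w : Γ) = (w₂ : Γ) + d (w₂ : Γ) :=
            congrArg (fun t : ↥W' × ↥({0, a₁, c₁, a₁ + c₁} : Finset Γ) => ((t.1 : ↥W') : Γ)) h
          have h3 : d (w : Γ) = d (w₂ : Γ) :=
            congrArg (fun t : ↥W' × ↥({0, a₁, c₁, a₁ + c₁} : Finset Γ) => (t.2 : Γ)) h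
          rw [h3] at h1
          exact Subtype.ext (add_right_cancel h1)
        have h := Nat.card_le_card_of_injective f hf
        rw [Nat.card_prod] at h
        have h4 : Nat.card ↥({0, a₁, c₁, a₁ + c₁} : Finset Γ) ≤ 4 := by
          rw [Nat.card_eq_fintype_card, Fintype.card_coe]
          exact Finset.card_le_four
        calc Nat.card W ≤ Nat.card W' * Nat.card ↥({0, a₁, c₁, a₁ + c₁} : Finset Γ) := h
          _ ≤ Nat.card W' * 4 := Nat.mul_le_mul_left _ h4
      -- the eigenvector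
      have hAinv : ∀ v ∈ E', ((ope a₁ : V ≃ₗ[ℂ] V) : V →ₗ[ℂ] V) v ∈ E' := hinv a₁ ha₁
      haveI : Nontrivial E' := Submodule.nontrivial_iff_ne_bot.mpr hE'ne
      obtain ⟨ν, hν⟩ := Module.End.exists_eigenvalue
        ((((ope a₁ : V ≃ₗ[ℂ] V) : V →ₗ[ℂ] V).restrict hAinv : E' →ₗ[ℂ] E'))
      obtain ⟨v', hv'⟩ := hν.exists_hasEigenvector
      have hv'0 : (v' : V) ≠ 0 := fun h => hv'.2 (Subtype.ext h)
      have hv'e : ope a₁ (v' : V) = ν • (v' : V) := by
        have h := hv'.apply_eq_smul
        have h' := congrArg Subtype.val h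
        exact h'
      have hν0 : ν ≠ 0 := by
        rintro rfl
        have h := hsq a₁ (v' : V) (hE'E v'.2)
        rw [hv'e, zero_smul, map_zero] at h
        exact (smul_ne_zero (hμ a₁) hv'0) h.symm
      let E'' : Submodule ℂ V :=
        { carrier := {v | v ∈ E' ∧ ope a₁ v = ν • v}
          add_mem' := by
            rintro x y ⟨hx, hx'⟩ ⟨hy, hy'⟩
            exact ⟨E'.add_mem hx hy, by rw [map_add, hx', hy', smul_add]⟩
          zero_mem' := ⟨E'.zero_mem, by rw [map_zero, smul_zero]⟩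
          smul_mem' := by
            rintro c x ⟨hx, hx'⟩
            exact ⟨E'.smul_mem c hx, by rw [map_smul, hx', smul_comm]⟩ }
      have hE''mem : ∀ v, v ∈ E'' ↔ v ∈ E' ∧ ope a₁ v = ν • v := fun v => Iff.rfl
      have hE''ne : E'' ≠ ⊥ :=
        (Submodule.ne_bot_iff E'').mpr ⟨(v' : V), (hE''mem _).mpr ⟨v'.2, hv'e⟩, hv'0⟩
      have hinv'' : ∀ a ∈ W', ∀ v ∈ E'', ope a v ∈ E'' := by
        intro w hw v hv
        obtain ⟨hwW, hw1, hw2⟩ := (hW'mem w).mp hw
        obtain ⟨hvE, hv'⟩ := (hE''mem v).mp hv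
        refine (hE''mem _).mpr ⟨hinv w hwW v hvE, ?_⟩
        rw [hcomm a₁ w v (hE'E hvE), hs_symm a₁ w, hw1, one_smul, hv', map_smul]
      obtain ⟨j, hj1, hj2⟩ := ih W' (by omega) E''
        (fun v hv => hE'E ((hE''mem v).mp hv).1) hE''ne hinv''
      have hrad : ({a : Γ | a ∈ W' ∧ ∀ c ∈ W', s a c = 1} : Set Γ).ncard ≤
          ({a : Γ | a ∈ W ∧ ∀ c ∈ W, s a c = 1} : Set Γ).ncard := by
        apply Set.ncard_le_ncard _ (Set.toFinite _)
        rintro a ⟨haW', hac⟩
        obtain ⟨haW, ha1, ha2⟩ := (hW'mem a).mp haW'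
        refine ⟨haW, fun c hc => ?_⟩
        have h := hac (c + d c) (hdec c hc)
        rw [hs_add'] at h
        have hda : s a (d c) = 1 := by
          rw [hd_def, hs_add']
          have e1 : s a (if s c c₁ = 1 then 0 else a₁) = 1 := by
            split_ifs
            · rw [hs_symm, hs_zero]
            · exact ha1
          have e2 : s a (if s c a₁ = 1 then 0 else c₁) = 1 := by
            split_ifs
            · rw [hs_symm, hs_zero]
            · exact ha2
          rw [e1, e2, mul_one]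
        rw [hda, mul_one] at h
        exact h
      have hdisj : E'' ⊓ E''.map ((ope c₁ : V ≃ₗ[ℂ] V) : V →ₗ[ℂ] V) = ⊥ := by
        rw [eq_bot_iff]
        rintro x ⟨hxE, hxM⟩
        obtain ⟨y, hyE, rfl⟩ := Submodule.mem_map.mp hxM
        obtain ⟨hyE', hy⟩ := (hE''mem y).mp hyE
        have hx' : ope a₁ (ope c₁ y) = ν • ope c₁ y := ((hE''mem _).mp hxE).2
        have h1 := hcomm a₁ c₁ y (hE'E hyE')
        rw [hs1', hy, map_smul, hx'] at h1
        have e : ν • ope c₁ y + ν • ope c₁ y = 0 := by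
          calc ν • ope c₁ y + ν • ope c₁ y = ν • ope c₁ y + (-1 : ℂ) • ν • ope c₁ y := by
                rw [← h1]
            _ = 0 := by rw [neg_one_smul, add_neg_cancel]
        have h3 : (2 * ν) • ope c₁ y = 0 := by
          rw [mul_smul, two_smul]
          exact e
        rcases smul_eq_zero.mp h3 with h4 | h4
        · exact absurd h4 (mul_ne_zero two_ne_zero hν0)
        · exact (Submodule.mem_bot ℂ).mpr h4
      have hfin := Submodule.finrank_sup_add_finrank_inf_eq E''
        (E''.map ((ope c₁ : V ≃ₗ[ℂ] V) : V →ₗ[ℂ] V))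
      rw [hdisj, finrank_bot, add_zero, LinearEquiv.finrank_map_eq] at hfin
      have hle : E'' ⊔ E''.map ((ope c₁ : V ≃ₗ[ℂ] V) : V →ₗ[ℂ] V) ≤ E' :=
        sup_le (fun v hv => ((hE''mem v).mp hv).1) (by
          intro x hx
          obtain ⟨y, hy, rfl⟩ := Submodule.mem_map.mp hx
          exact hinv c₁ hc₁ y ((hE''mem y).mp hy).1)
      have hmono := Submodule.finrank_mono hle
      refine ⟨j + 1, ?_, ?_⟩
      · calc Nat.card W ≤ Nat.card W' * 4 := hcardW
          _ ≤ (({a : Γ | a ∈ W' ∧ ∀ c ∈ W', s a c = 1} : Set Γ).ncard * 4 ^ j) * 4 :=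
              Nat.mul_le_mul_right _ hj1
          _ ≤ (({a : Γ | a ∈ W ∧ ∀ c ∈ W, s a c = 1} : Set Γ).ncard * 4 ^ j) * 4 :=
              Nat.mul_le_mul_right _ (Nat.mul_le_mul_right _ hrad)
          _ = ({a : Γ | a ∈ W ∧ ∀ c ∈ W, s a c = 1} : Set Γ).ncard * 4 ^ (j + 1) := by
              rw [pow_succ, mul_assoc]
      · rw [pow_succ]
        omega

end Cfsg.Agent.Helper22
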