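import Cfsg.Agent.Helper22.SzRepA

set_option autoImplicit false
set_option linter.style.haveILetI false
set_option linter.unusedSectionVars false
set_option linter.unusedSimpArgs false
set_option linter.unusedVariables false
set_option linter.unusedTactic false
set_option maxHeartbeats 1000000

open Cfsg
open Matrix
open scoped Pointwise

namespace Cfsg.Agent.Helper22

section SzRepB

variable {F : Type*} [Field F] [Fintype F] {m : ℕ}

/-- The additive map `c ↦ c + θ c`. -/
def szPhi (hF : Fintype.card F = 2 ^ (2 * m + 1)) : F →+ F where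
  toFun c := c + szθ F m c
  map_zero' := by
    show (0 : F) + szθ F m 0 = 0
    rw [ov_theta_zero _ (szθ_spec hF).hadd, add_zero]
  map_add' a b := by
    show (a + b) + szθ F m (a + b) = (a + szθ F m a) + (b + szθ F m b)
    rw [(szθ_spec hF).hadd]; abel

/-- The subgroup of index two of the field. -/
def szL (hF : Fintype.card F = 2 ^ (2 * m + 1)) : AddSubgroup F := (szPhi hF).range

theorem sz_char2 (hF : Fintype.card F = 2 ^ (2 * m + 1)) (x : F) : x + x = 0 := by
  linear_combination x * (szθ_spec hF).h2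

theorem sz_fix_theta {c : F} (h : c * c = c) : c = 0 ∨ c = 1 := by
  have h' : c * (c - 1) = 0 := by linear_combination h
  rcases mul_eq_zero.mp h' with h0 | h1
  · exact Or.inl h0
  · exact Or.inr (sub_eq_zero.mp h1)

theorem szL_one (hF : Fintype.card F = 2 ^ (2 * m + 1)) : (1 : F) ∉ szL hF := by
  have hθ := szθ_spec hF
  have hθ0 := ov_theta_zero _ hθ.hadd
  rintro ⟨c, hc⟩
  have hc' : c + szθ F m c = 1 := hc
  have h1 : szθ F m c + c ^ 2 = 1 := by
    have h := congrArg (szθ F m) hc'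
    rw [hθ.hadd, hθ.hsq, hθ.hone] at h
    exact h
  have h2 : c * c = c := by linear_combination h1 - hc'
  rcases sz_fix_theta h2 with h0 | h0
  · rw [h0, hθ0, add_zero] at hc'
    exact zero_ne_one hc'
  · rw [h0, hθ.hone] at hc'
    have h3 := sz_char2 hF (1 : F)
    exact zero_ne_one (h3.symm.trans hc')

theorem szPhi_ker (hF : Fintype.card F = 2 ^ (2 * m + 1)) :
    ((szPhi hF).ker : Set F) = {0, 1} := by
  have hθ := szθ_spec hF
  have hθ0 := ov_theta_zero _ hθ.hadd
  ext c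
  simp only [SetLike.mem_coe, AddMonoidHom.mem_ker, Set.mem_insert_iff, Set.mem_singleton_iff]
  constructor
  · intro h
    have h' : c + szθ F m c = 0 := h
    have e1 : szθ F m c = c := by linear_combination h' - c * hθ.h2
    have e2 : c * c = c := by
      have h3 := congrArg (szθ F m) e1
      rw [hθ.hsq, e1] at h3
      linear_combination h3
    exact sz_fix_theta e2
  · rintro (h | h)
    · rw [h]; exact map_zero _
    · rw [h]
      show (1 : F) + szθ F m 1 = 0
      rw [hθ.hone]; exact sz_char2 hF 1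

theorem szL_index (hF : Fintype.card F = 2 ^ (2 * m + 1)) : (szL hF).index = 2 := by
  have h1 : (szPhi hF).ker.index = Nat.card (szPhi hF).range := AddSubgroup.index_ker (szPhi hF)
  have h2 := AddSubgroup.card_mul_index (szPhi hF).ker
  have h3 := AddSubgroup.card_mul_index (szPhi hF).range
  have h4 : Nat.card (szPhi hF).ker = 2 := by
    have e := Nat.card_coe_set_eq ((szPhi hF).ker : Set F)
    have e2 : ((szPhi hF).ker : Set F).ncard = 2 := by
      rw [szPhi_ker hF]; exact Set.ncard_pair zero_ne_one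
    exact e.trans e2
  have hpos : 0 < Nat.card (szPhi hF).range := Nat.card_pos
  rw [h1, h4] at h2
  have h5 : Nat.card (szPhi hF).range * (szPhi hF).range.index =
      Nat.card (szPhi hF).range * 2 := by
    rw [h3, ← h2, mul_comm]
  exact Nat.eq_of_mul_eq_mul_left hpos h5

theorem szL_dich (hF : Fintype.card F = 2 ^ (2 * m + 1)) (x : F) :
    x ∈ szL hF ∨ x + 1 ∈ szL hF := by
  obtain ⟨a, ha⟩ := AddSubgroup.index_eq_two_iff.mp (szL_index hF)
  by_cases hx : x ∈ szL hF
  · exact Or.inl hx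
  · right
    have h1 : x + a ∈ szL hF := by
      rcases ha x with ⟨h, _⟩ | ⟨h, _⟩
      · exact h
      · exact absurd h hx
    have h2 : 1 + a ∈ szL hF := by
      rcases ha 1 with ⟨h, _⟩ | ⟨h, _⟩
      · exact h
      · exact absurd h (szL_one hF)
    have h3 := (szL hF).sub_mem h1 h2
    have e : x + a - (1 + a) = x + 1 := by linear_combination (-1 : F) * (szθ_spec hF).h2
    rw [e] at h3; exact h3

open Classical in
/-- The quadratic character attached to the subgroup of index two. -/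
noncomputable def szPsi (hF : Fintype.card F = 2 ^ (2 * m + 1)) (x : F) : ℂ :=
  if x ∈ szL hF then 1 else -1

theorem szPsi_of_mem (hF : Fintype.card F = 2 ^ (2 * m + 1)) {x : F} (h : x ∈ szL hF) :
    szPsi hF x = 1 := by
  unfold szPsi; exact if_pos h

theorem szPsi_of_not (hF : Fintype.card F = 2 ^ (2 * m + 1)) {x : F} (h : x ∉ szL hF) :
    szPsi hF x = -1 := by
  unfold szPsi; exact if_neg h

theorem szPsi_pm (hF : Fintype.card F = 2 ^ (2 * m + 1)) (x : F) :
    szPsi hF x = 1 ∨ szPsi hF x = -1 := by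
  by_cases h : x ∈ szL hF
  · exact Or.inl (szPsi_of_mem hF h)
  · exact Or.inr (szPsi_of_not hF h)

theorem szPsi_ne_zero (hF : Fintype.card F = 2 ^ (2 * m + 1)) (x : F) : szPsi hF x ≠ 0 := by
  rcases szPsi_pm hF x with h | h
  · rw [h]; exact one_ne_zero
  · rw [h]; norm_num

theorem szPsi_sq (hF : Fintype.card F = 2 ^ (2 * m + 1)) (x : F) :
    szPsi hF x * szPsi hF x = 1 := by
  rcases szPsi_pm hF x with h | h
  · rw [h]; norm_num
  · rw [h]; norm_num

theorem szPsi_mem_of_one (hF : Fintype.card F = 2 ^ (2 * m + 1)) {x : F}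
    (h : szPsi hF x = 1) : x ∈ szL hF := by
  by_contra hx
  rw [szPsi_of_not hF hx] at h
  norm_num at h

theorem szPsi_zero (hF : Fintype.card F = 2 ^ (2 * m + 1)) : szPsi hF 0 = 1 :=
  szPsi_of_mem hF (szL hF).zero_mem

theorem szPsi_one (hF : Fintype.card F = 2 ^ (2 * m + 1)) : szPsi hF 1 = -1 :=
  szPsi_of_not hF (szL_one hF)

theorem szPsi_add (hF : Fintype.card F = 2 ^ (2 * m + 1)) (x y : F) :
    szPsi hF (x + y) = szPsi hF x * szPsi hF y := by
  by_cases hx : x ∈ szL hF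
  · by_cases hy : y ∈ szL hF
    · rw [szPsi_of_mem hF hx, szPsi_of_mem hF hy, szPsi_of_mem hF ((szL hF).add_mem hx hy),
        one_mul]
    · have hxy : x + y ∉ szL hF := fun h => hy (by
        have h3 := (szL hF).sub_mem h hx
        rwa [add_sub_cancel_left] at h3)
      rw [szPsi_of_mem hF hx, szPsi_of_not hF hy, szPsi_of_not hF hxy, one_mul]
  · by_cases hy : y ∈ szL hF
    · have hxy : x + y ∉ szL hF := fun h => hx (by
        have h3 := (szL hF).sub_mem h hy
        rwa [add_sub_cancel_right] at h3)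
      rw [szPsi_of_not hF hx, szPsi_of_mem hF hy, szPsi_of_not hF hxy, mul_one]
    · have hx1 : x + 1 ∈ szL hF := (szL_dich hF x).resolve_left hx
      have hy1 : y + 1 ∈ szL hF := (szL_dich hF y).resolve_left hy
      have hxy : x + y ∈ szL hF := by
        have h3 := (szL hF).add_mem hx1 hy1
        have e : x + 1 + (y + 1) = x + y := by linear_combination (szθ_spec hF).h2
        rwa [e] at h3
      rw [szPsi_of_not hF hx, szPsi_of_not hF hy, szPsi_of_mem hF hxy]; norm_num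

theorem szPsi_sum (hF : Fintype.card F = 2 ^ (2 * m + 1)) : ∑ x : F, szPsi hF x = 0 := by
  have h1 : ∑ x : F, szPsi hF x = ∑ x : F, szPsi hF (x + 1) :=
    (Fintype.sum_equiv (Equiv.addRight (1 : F)) (fun x => szPsi hF (x + 1))
      (fun x => szPsi hF x) (fun x => rfl)).symm
  have h2 : ∑ x : F, szPsi hF (x + 1) = - ∑ x : F, szPsi hF x := by
    rw [← Finset.sum_neg_distrib]
    refine Finset.sum_congr rfl (fun x _ => ?_)
    rw [szPsi_add, szPsi_one, mul_neg, mul_one]
  have h3 : ∑ x : F, szPsi hF x = - ∑ x : F, szPsi hF x := h1.trans h2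
  linear_combination (1 / 2 : ℂ) * h3

theorem szL_mul_inv (L : AddSubgroup F) {x : F} (hx : x ≠ 0) (h : ∀ l ∈ L, x * l ∈ L) :
    ∀ l ∈ L, x⁻¹ * l ∈ L := by
  intro l hl
  have hinj : Function.Injective (fun l : L => (⟨x * l.1, h l.1 l.2⟩ : L)) := by
    intro l1 l2 h12
    have h3 : x * l1.1 = x * l2.1 := congrArg Subtype.val h12
    exact Subtype.ext (mul_left_cancel₀ hx h3)
  obtain ⟨l', hl'⟩ := (Finite.injective_iff_surjective.mp hinj) ⟨l, hl⟩
  have e : x * l'.1 = l := congrArg Subtype.val hl'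
  have e2 : x⁻¹ * l = l'.1 := by rw [← e, inv_mul_cancel_left₀ hx]
  rw [e2]; exact l'.2

/-- The radical of the commutator pairing has at most two elements. -/
theorem sz_rad (hF : Fintype.card F = 2 ^ (2 * m + 1)) {a : F}
    (h : ∀ c : F, szθ F m a * c + szθ F m c * a ∈ szL hF) : a = 0 ∨ a = 1 := by
  have hθ := szθ_spec hF
  by_cases ha : a = 0
  · exact Or.inl ha
  right
  have hθa : szθ F m a ≠ 0 := fun h0 => ha (ov_theta_inj0 _ hθ.hadd hθ.hsq h0)
  obtain ⟨ν, hν⟩ : ∃ ν : F, ν = szθ F m a * a := ⟨_, rfl⟩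
  have hν0 : ν ≠ 0 := by rw [hν]; exact mul_ne_zero hθa ha
  have hνL : ∀ l ∈ szL hF, ν * l ∈ szL hF := by
    rintro l ⟨c, rfl⟩
    have h3 := h (a * c)
    rw [hθ.hmul] at h3
    have e : szθ F m a * (a * c) + szθ F m a * szθ F m c * a = ν * (szPhi hF c) := by
      rw [hν]
      show _ = szθ F m a * a * (c + szθ F m c)
      ring
    rw [e] at h3; exact h3
  have hνinv := szL_mul_inv (szL hF) hν0 hνL
  have hνn : ν ∉ szL hF := fun hmem => szL_one hF (by
    have h3 := hνinv ν hmem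
    rwa [inv_mul_cancel₀ hν0] at h3)
  have hν1 : ν + 1 ∈ szL hF := (szL_dich hF ν).resolve_left hνn
  have hν1L : ∀ l ∈ szL hF, (ν + 1) * l ∈ szL hF := by
    intro l hl
    have h3 := (szL hF).add_mem (hνL l hl) hl
    have e : ν * l + l = (ν + 1) * l := by ring
    rwa [e] at h3
  have hν1z : ν + 1 = 0 := by
    by_contra hne
    have hinv := szL_mul_inv (szL hF) hne hν1L
    have h3 := hinv (ν + 1) hν1
    rw [inv_mul_cancel₀ hne] at h3
    exact szL_one hF h3
  have hνone : ν = 1 := by linear_combination hν1z - hθ.h2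
  apply sz_norm_inj hF
  rw [hθ.hone, mul_one, ← hν]; exact hνone

theorem szt_mul (hF : Fintype.card F = 2 ^ (2 * m + 1)) (b c : F) :
    szTG hF 0 c * szTG hF 0 b = szTG hF 0 (b + c) := by
  have hθ0 := ov_theta_zero _ (szθ_spec hF).hadd
  rw [szTG_mul, hθ0]
  congr 1
  · ring
  · ring

variable {V : Type*} [AddCommGroup V] [Module ℂ V]

/-- The operator of a group element as a linear equivalence. -/
noncomputable def repEquiv22 {G : Type*} [Group G] (R : G →* (V →ₗ[ℂ] V)) (g : G) :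
    V ≃ₗ[ℂ] V :=
  LinearEquiv.ofLinear (R g) (R g⁻¹)
    (LinearMap.ext fun v => by
      show (R g * R g⁻¹) v = v
      rw [← map_mul, mul_inv_cancel, map_one]; rfl)
    (LinearMap.ext fun v => by
      show (R g⁻¹ * R g) v = v
      rw [← map_mul, inv_mul_cancel, map_one]; rfl)

/-- The averaging operator of a function on the centre of the Sylow subgroup. -/
noncomputable def szProj (hF : Fintype.card F = 2 ^ (2 * m + 1))
    (R : ↥(Cfsg.Sz F m) →* (V →ₗ[ℂ] V)) (χ : F → ℂ) : V →ₗ[ℂ] V :=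
  ((Fintype.card F : ℂ))⁻¹ • ∑ b : F, χ b • R (szTG hF 0 b)

theorem szProj_mul (hF : Fintype.card F = 2 ^ (2 * m + 1))
    (R : ↥(Cfsg.Sz F m) →* (V →ₗ[ℂ] V)) (χ : F → ℂ)
    (hχ : ∀ x y, χ (x + y) = χ x * χ y) (c : F) :
    R (szTG hF 0 c) * szProj hF R χ = χ c • szProj hF R χ := by
  unfold szProj
  rw [mul_smul_comm, smul_comm (χ c)]
  congr 1
  rw [Finset.mul_sum, Finset.smul_sum]
  have h1 : ∀ b : F, R (szTG hF 0 c) * (χ b • R (szTG hF 0 b)) =
      χ b • R (szTG hF 0 (b + c)) := by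
    intro b
    rw [mul_smul_comm, ← map_mul, szt_mul]
  rw [Finset.sum_congr rfl (fun b _ => h1 b)]
  refine Fintype.sum_equiv (Equiv.addRight c) _ _ (fun b => ?_)
  show χ b • R (szTG hF 0 (b + c)) = χ c • (χ (b + c) • R (szTG hF 0 (b + c)))
  rw [smul_smul, ← hχ]
  have e : c + (b + c) = b := by linear_combination c * (szθ_spec hF).h2
  rw [e]

theorem szProj_mul_right (hF : Fintype.card F = 2 ^ (2 * m + 1))
    (R : ↥(Cfsg.Sz F m) →* (V →ₗ[ℂ] V)) (χ : F → ℂ) (X : V →ₗ[ℂ] V) :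
    szProj hF R χ * X =
      ((Fintype.card F : ℂ))⁻¹ • ∑ b : F, χ b • (R (szTG hF 0 b) * X) := by
  unfold szProj
  rw [smul_mul_assoc, Finset.sum_mul]
  exact congrArg (fun S : V →ₗ[ℂ] V => ((Fintype.card F : ℂ))⁻¹ • S)
    (Finset.sum_congr rfl (fun b _ => smul_mul_assoc _ _ _))

theorem sz_card_ne (F : Type*) [Field F] [Fintype F] : ((Fintype.card F : ℂ)) ≠ 0 := by
  have h : 0 < Fintype.card F := Fintype.card_pos
  exact_mod_cast h.ne'

theorem szProj_idem (hF : Fintype.card F = 2 ^ (2 * m + 1))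
    (R : ↥(Cfsg.Sz F m) →* (V →ₗ[ℂ] V)) (χ : F → ℂ)
    (hχ : ∀ x y, χ (x + y) = χ x * χ y) (hχ2 : ∀ x, χ x * χ x = 1) :
    szProj hF R χ * szProj hF R χ = szProj hF R χ := by
  have hq := sz_card_ne F
  rw [szProj_mul_right]
  have h2 : ∀ b : F, χ b • (R (szTG hF 0 b) * szProj hF R χ) = szProj hF R χ := by
    intro b
    rw [szProj_mul hF R χ hχ b, smul_smul, hχ2, one_smul]
  rw [Finset.sum_congr rfl (fun b _ => h2 b), Finset.sum_const, Finset.card_univ,
    ← Nat.cast_smul_eq_nsmul ℂ, smul_smul, inv_mul_cancel₀ hq, one_smul]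

variable [FiniteDimensional ℂ V]

theorem idem_trace22 (P : V →ₗ[ℂ] V) (h : P * P = P) :
    LinearMap.trace ℂ V P = (Module.finrank ℂ (LinearMap.range P) : ℂ) := by
  have hI : IsIdempotentElem P := h
  exact (LinearMap.IsIdempotentElem.isProj_range P hI).trace

theorem szProj_trace (hF : Fintype.card F = 2 ^ (2 * m + 1))
    (R : ↥(Cfsg.Sz F m) →* (V →ₗ[ℂ] V)) (χ : F → ℂ) (hχ0 : χ 0 = 1) (c₁ : ℂ)
    (hc : ∀ b : F, b ≠ 0 → LinearMap.trace ℂ V (R (szTG hF 0 b)) = c₁) :
    (Fintype.card F : ℂ) * LinearMap.trace ℂ V (szProj hF R χ) =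
      (Module.finrank ℂ V : ℂ) + c₁ * (∑ b : F, χ b - 1) := by
  classical
  have hq := sz_card_ne F
  unfold szProj
  rw [map_smul, map_sum, smul_eq_mul, mul_inv_cancel_left₀ hq]
  have h1 : ∀ b : F, LinearMap.trace ℂ V (χ b • R (szTG hF 0 b)) =
      (if b = 0 then (Module.finrank ℂ V : ℂ) - c₁ else 0) + c₁ * χ b := by
    intro b
    rw [map_smul, smul_eq_mul]
    by_cases hb : b = 0
    · rw [if_pos hb, hb, szTG_one, map_one, LinearMap.trace_one, hχ0]; ring
    · rw [if_neg hb, hc b hb]; ring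
  rw [Finset.sum_congr rfl (fun b _ => h1 b), Finset.sum_add_distrib, Finset.sum_ite_eq',
    if_pos (Finset.mem_univ _), ← Finset.mul_sum]
  ring

theorem sz_trace_conj (hF : Fintype.card F = 2 ^ (2 * m + 1))
    (R : ↥(Cfsg.Sz F m) →* (V →ₗ[ℂ] V)) (b : F) (hb : b ≠ 0) :
    LinearMap.trace ℂ V (R (szTG hF 0 b)) = LinearMap.trace ℂ V (R (szTG hF 0 1)) := by
  have hθ := szθ_spec hF
  obtain ⟨c, hc⟩ := sz_norm_surj hF b
  have hc0 : c ≠ 0 := by
    rintro rfl
    rw [mul_zero] at hc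
    exact hb hc.symm
  have hconj : szDG hF (Units.mk0 c hc0) * szTG hF 0 1 =
      szTG hF 0 b * szDG hF (Units.mk0 c hc0) := by
    apply Subtype.ext
    have h3 := szD_T hF (Units.mk0 c hc0) 0 1
    rw [Units.val_mk0, mul_zero, mul_one, hc] at h3
    exact h3
  have e1 : szTG hF 0 b =
      szDG hF (Units.mk0 c hc0) * (szTG hF 0 1 * (szDG hF (Units.mk0 c hc0))⁻¹) := by
    rw [← mul_assoc, hconj, mul_assoc, mul_inv_cancel, mul_one]
  have e2 : R (szTG hF 0 b) =
      R (szDG hF (Units.mk0 c hc0)) * (R (szTG hF 0 1) * R (szDG hF (Units.mk0 c hc0))⁻¹) := by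
    rw [← map_mul, ← map_mul, ← e1]
  rw [e2, LinearMap.trace_mul_comm, mul_assoc, ← map_mul, inv_mul_cancel, map_one, mul_one]

theorem sz_dim_eq (hF : Fintype.card F = 2 ^ (2 * m + 1))
    (R : ↥(Cfsg.Sz F m) →* (V →ₗ[ℂ] V)) :
    Module.finrank ℂ (LinearMap.range (szProj hF R (fun _ => (1 : ℂ)))) +
        (Fintype.card F - 1) * Module.finrank ℂ (LinearMap.range (szProj hF R (szPsi hF))) =
      Module.finrank ℂ V ∧
    (Fintype.card F : ℂ) * (Module.finrank ℂ (LinearMap.range (szProj hF R (szPsi hF))) : ℂ) =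
      (Module.finrank ℂ V : ℂ) - LinearMap.trace ℂ V (R (szTG hF 0 1)) := by
  have hqpos : 1 ≤ Fintype.card F := Fintype.card_pos
  have hq := sz_card_ne F
  have hc : ∀ b : F, b ≠ 0 →
      LinearMap.trace ℂ V (R (szTG hF 0 b)) = LinearMap.trace ℂ V (R (szTG hF 0 1)) :=
    fun b hb => sz_trace_conj hF R b hb
  have t1 := szProj_trace hF R (fun _ => (1 : ℂ)) rfl _ hc
  have t2 := szProj_trace hF R (szPsi hF) (szPsi_zero hF) _ hc
  rw [idem_trace22 _ (szProj_idem hF R (fun _ => (1 : ℂ)) (fun _ _ => (one_mul 1).symm)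
    (fun _ => one_mul 1))] at t1
  rw [idem_trace22 _ (szProj_idem hF R (szPsi hF) (szPsi_add hF) (szPsi_sq hF))] at t2
  rw [szPsi_sum hF] at t2
  have hs1 : ∑ b : F, (1 : ℂ) = (Fintype.card F : ℂ) := by
    rw [Finset.sum_const, Finset.card_univ, nsmul_eq_mul, mul_one]
  rw [hs1] at t1
  obtain ⟨n₁, hn₁⟩ : ∃ n : ℕ, n =
      Module.finrank ℂ (LinearMap.range (szProj hF R (fun _ => (1 : ℂ)))) := ⟨_, rfl⟩
  obtain ⟨e, he⟩ : ∃ n : ℕ, n =
      Module.finrank ℂ (LinearMap.range (szProj hF R (szPsi hF))) := ⟨_, rfl⟩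
  obtain ⟨c₁, hc₁⟩ : ∃ z : ℂ, z = LinearMap.trace ℂ V (R (szTG hF 0 1)) := ⟨_, rfl⟩
  rw [← hn₁, ← hc₁] at t1
  rw [← he, ← hc₁] at t2
  rw [← hn₁, ← he, ← hc₁]
  refine ⟨?_, ?_⟩
  · have ecast : (((n₁ + (Fintype.card F - 1) * e : ℕ)) : ℂ) =
        (n₁ : ℂ) + ((Fintype.card F : ℂ) - 1) * (e : ℂ) := by
      rw [Nat.cast_add, Nat.cast_mul, Nat.cast_sub hqpos, Nat.cast_one]
    have key : (((n₁ + (Fintype.card F - 1) * e : ℕ)) : ℂ) = (Module.finrank ℂ V : ℂ) := by
      rw [ecast]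
      have h5 : (Fintype.card F : ℂ) * ((n₁ : ℂ) + ((Fintype.card F : ℂ) - 1) * (e : ℂ)) =
          (Fintype.card F : ℂ) * (Module.finrank ℂ V : ℂ) := by
        linear_combination t1 + ((Fintype.card F : ℂ) - 1) * t2
      exact mul_left_cancel₀ hq h5
    exact_mod_cast key
  · linear_combination t2

theorem sz_rep_triv (hm : 1 ≤ m) (hF : Fintype.card F = 2 ^ (2 * m + 1))
    (R : ↥(Cfsg.Sz F m) →* (V →ₗ[ℂ] V)) (h1 : R (szTG hF 0 1) = 1) : ∀ g, R g = 1 := by
  haveI : IsSimpleGroup ↥(Cfsg.Sz F m) := Cfsg.Agent.S0325.result hm hF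
  have hker : R.ker = ⊤ := by
    rcases (R.normal_ker).eq_bot_or_eq_top with h | h
    · exfalso
      have hmem : szTG hF 0 1 ∈ R.ker := MonoidHom.mem_ker.mpr h1
      rw [h, Subgroup.mem_bot] at hmem
      have h3 := szTG_inj hF (hmem.trans (szTG_one hF).symm)
      exact one_ne_zero h3.2
    · exact h
  intro g
  have h3 : g ∈ R.ker := by rw [hker]; exact Subgroup.mem_top g
  exact MonoidHom.mem_ker.mp h3

theorem sz_e_pos (hm : 1 ≤ m) (hF : Fintype.card F = 2 ^ (2 * m + 1))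
    (R : ↥(Cfsg.Sz F m) →* (V →ₗ[ℂ] V)) (hR : ∃ g, R g ≠ 1) :
    LinearMap.range (szProj hF R (szPsi hF)) ≠ ⊥ := by
  intro hbot
  obtain ⟨g, hg⟩ := hR
  apply hg
  apply sz_rep_triv hm hF R
  have hd := (sz_dim_eq hF R).2
  rw [hbot, finrank_bot, Nat.cast_zero, mul_zero] at hd
  have hAA : R (szTG hF 0 1) * R (szTG hF 0 1) = 1 := by
    rw [← map_mul, szTG_sq, ov_theta_zero _ (szθ_spec hF).hadd, zero_mul, szTG_one, map_one]
  obtain ⟨A, hA⟩ : ∃ A : V →ₗ[ℂ] V, A = R (szTG hF 0 1) := ⟨_, rfl⟩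
  rw [← hA] at hd hAA ⊢
  have hQ : ((1 / 2 : ℂ) • (1 - A)) * ((1 / 2 : ℂ) • (1 - A)) = (1 / 2 : ℂ) • (1 - A) := by
    rw [smul_mul_assoc, mul_smul_comm, smul_smul]
    have e : (1 - A) * (1 - A) = (2 : ℂ) • (1 - A) := by
      have e1 : (1 - A) * (1 - A) = 1 - A - A + A * A := by noncomm_ring
      rw [e1, hAA, two_smul]; abel
    rw [e, smul_smul]; norm_num
  have htr := idem_trace22 _ hQ
  rw [map_smul, map_sub, LinearMap.trace_one] at htr
  have hz : (Module.finrank ℂ (LinearMap.range ((1 / 2 : ℂ) • (1 - A))) : ℂ) = 0 := by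
    rw [← htr, smul_eq_mul, ← hd, mul_zero]
  have hz' : Module.finrank ℂ (LinearMap.range ((1 / 2 : ℂ) • (1 - A))) = 0 := by
    exact_mod_cast hz
  have hr : LinearMap.range ((1 / 2 : ℂ) • (1 - A)) = ⊥ := Submodule.finrank_eq_zero.mp hz'
  have hQ0 : (1 / 2 : ℂ) • (1 - A) = 0 := LinearMap.range_eq_bot.mp hr
  have h5 : (1 : V →ₗ[ℂ] V) - A = 0 := by
    rcases smul_eq_zero.mp hQ0 with h | h
    · norm_num at h
    · exact h
  exact (sub_eq_zero.mp h5).symm

/-- Every non-trivial complex representation of the Suzuki group has degree at least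
`2 ^ m * (q - 1)`. -/
theorem sz_rep_bound (hm : 1 ≤ m) (hF : Fintype.card F = 2 ^ (2 * m + 1))
    (R : ↥(Cfsg.Sz F m) →* (V →ₗ[ℂ] V)) (hR : ∃ g, R g ≠ 1) :
    2 ^ m * (2 ^ (2 * m + 1) - 1) ≤ Module.finrank ℂ V := by
  classical
  have hθ := szθ_spec hF
  have hθ0 := ov_theta_zero _ hθ.hadd
  have hq := sz_card_ne F
  have hE := sz_e_pos hm hF R hR
  have hdim := (sz_dim_eq hF R).1
  have hchar : ∀ x : F, x + x = 0 := sz_char2 hF
  have hmemE : ∀ v, v ∈ LinearMap.range (szProj hF R (szPsi hF)) →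
      ∀ z : F, R (szTG hF 0 z) v = szPsi hF z • v := by
    intro v hv z
    obtain ⟨w, rfl⟩ := hv
    have h3 := szProj_mul hF R (szPsi hF) (szPsi_add hF) z
    have h4 := congrArg (fun X : V →ₗ[ℂ] V => X w) h3
    exact h4
  have hmemE' : ∀ v, (∀ z : F, R (szTG hF 0 z) v = szPsi hF z • v) →
      v ∈ LinearMap.range (szProj hF R (szPsi hF)) := by
    intro v hv
    refine ⟨v, ?_⟩
    show szProj hF R (szPsi hF) v = v
    unfold szProj
    rw [LinearMap.smul_apply, LinearMap.sum_apply]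
    have h1 : ∀ b : F, (szPsi hF b • R (szTG hF 0 b)) v = v := by
      intro b
      rw [LinearMap.smul_apply, hv b, smul_smul, szPsi_sq, one_smul]
    rw [Finset.sum_congr rfl (fun b _ => h1 b), Finset.sum_const, Finset.card_univ,
      ← Nat.cast_smul_eq_nsmul ℂ, smul_smul, inv_mul_cancel₀ hq, one_smul]
  have hs_add : ∀ a a' c : F, szPsi hF (szθ F m (a + a') * c + szθ F m c * (a + a')) =
      szPsi hF (szθ F m a * c + szθ F m c * a) * szPsi hF (szθ F m a' * c + szθ F m c * a') := by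
    intro a a' c
    rw [← szPsi_add, hθ.hadd]
    congr 1
    ring
  have hs_symm : ∀ a c : F, szPsi hF (szθ F m a * c + szθ F m c * a) =
      szPsi hF (szθ F m c * a + szθ F m a * c) := by
    intro a c
    rw [add_comm]
  have hs_self : ∀ a : F, szPsi hF (szθ F m a * a + szθ F m a * a) = 1 := by
    intro a
    rw [hchar, szPsi_zero]
  have hs_pm : ∀ a c : F, szPsi hF (szθ F m a * c + szθ F m c * a) = 1 ∨
      szPsi hF (szθ F m a * c + szθ F m c * a) = -1 := fun a c => szPsi_pm hF _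
  have hμ : ∀ a : F, szPsi hF (szθ F m a * a) ≠ 0 := fun a => szPsi_ne_zero hF _
  have hcomm : ∀ a c : F, ∀ v ∈ LinearMap.range (szProj hF R (szPsi hF)),
      repEquiv22 R (szTG hF a 0) (repEquiv22 R (szTG hF c 0) v) =
        szPsi hF (szθ F m a * c + szθ F m c * a) •
          repEquiv22 R (szTG hF c 0) (repEquiv22 R (szTG hF a 0) v) := by
    intro a c v hv
    show R (szTG hF a 0) (R (szTG hF c 0) v) =
      szPsi hF (szθ F m a * c + szθ F m c * a) • R (szTG hF c 0) (R (szTG hF a 0) v)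
    have e : szTG hF a 0 * szTG hF c 0 =
        szTG hF c 0 * szTG hF a 0 * szTG hF 0 (szθ F m a * c + szθ F m c * a) := by
      rw [szTG_mul, szTG_mul, szTG_mul]
      congr 1
      · ring
      · linear_combination (-(szθ F m c * a)) * hθ.h2
    have h1 : R (szTG hF a 0) (R (szTG hF c 0) v) = (R (szTG hF a 0 * szTG hF c 0)) v := by
      rw [map_mul]; rfl
    have h2 : R (szTG hF c 0) (R (szTG hF a 0) v) = (R (szTG hF c 0 * szTG hF a 0)) v := by
      rw [map_mul]; rfl
    rw [h1, h2, e, map_mul R (szTG hF c 0 * szTG hF a 0) (szTG hF 0 _)]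
    show R (szTG hF c 0 * szTG hF a 0) (R (szTG hF 0 (szθ F m a * c + szθ F m c * a)) v) = _
    rw [hmemE v hv, map_smul]
  have hsq : ∀ a : F, ∀ v ∈ LinearMap.range (szProj hF R (szPsi hF)),
      repEquiv22 R (szTG hF a 0) (repEquiv22 R (szTG hF a 0) v) =
        szPsi hF (szθ F m a * a) • v := by
    intro a v hv
    show R (szTG hF a 0) (R (szTG hF a 0) v) = szPsi hF (szθ F m a * a) • v
    have h1 : R (szTG hF a 0) (R (szTG hF a 0) v) = (R (szTG hF a 0 * szTG hF a 0)) v := by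
      rw [map_mul]; rfl
    rw [h1, szTG_sq, hmemE v hv]
  have hinv : ∀ a ∈ (⊤ : AddSubgroup F), ∀ v ∈ LinearMap.range (szProj hF R (szPsi hF)),
      repEquiv22 R (szTG hF a 0) v ∈ LinearMap.range (szProj hF R (szPsi hF)) := by
    intro a _ v hv
    apply hmemE'
    intro z
    show R (szTG hF 0 z) (R (szTG hF a 0) v) = szPsi hF z • R (szTG hF a 0) v
    have e : szTG hF 0 z * szTG hF a 0 = szTG hF a 0 * szTG hF 0 z := by
      rw [szTG_mul, szTG_mul, hθ0]
      congr 1
      · ring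
      · ring
    have h1 : R (szTG hF 0 z) (R (szTG hF a 0) v) = (R (szTG hF 0 z * szTG hF a 0)) v := by
      rw [map_mul]; rfl
    rw [h1, e, map_mul]
    show R (szTG hF a 0) (R (szTG hF 0 z) v) = _
    rw [hmemE v hv, map_smul]
  obtain ⟨j, hj1, hj2⟩ := heis_ind (Γ := F) (V := V) hchar
    (fun a => repEquiv22 R (szTG hF a 0))
    (fun a c => szPsi hF (szθ F m a * c + szθ F m c * a))
    (fun a => szPsi hF (szθ F m a * a))
    (LinearMap.range (szProj hF R (szPsi hF)))
    hs_add hs_symm hs_self hs_pm hμ hcomm hsq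
    (Nat.card (⊤ : AddSubgroup F)) ⊤ le_rfl
    (LinearMap.range (szProj hF R (szPsi hF))) le_rfl hE hinv
  have hcardtop : Nat.card (⊤ : AddSubgroup F) = 2 ^ (2 * m + 1) := by
    rw [AddSubgroup.card_top, Nat.card_eq_fintype_card, hF]
  have hrad : ({a : F | a ∈ (⊤ : AddSubgroup F) ∧ ∀ c ∈ (⊤ : AddSubgroup F),
      szPsi hF (szθ F m a * c + szθ F m c * a) = 1} : Set F).ncard ≤ 2 := by
    have hsub : ({a : F | a ∈ (⊤ : AddSubgroup F) ∧ ∀ c ∈ (⊤ : AddSubgroup F),
        szPsi hF (szθ F m a * c + szθ F m c * a) = 1} : Set F) ⊆ {0, 1} := by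
      rintro a ⟨_, ha⟩
      have h3 : a = 0 ∨ a = 1 :=
        sz_rad hF (fun c => szPsi_mem_of_one hF (ha c (AddSubgroup.mem_top c)))
      exact h3
    have h4 := Set.ncard_le_ncard hsub (Set.toFinite _)
    rw [Set.ncard_pair (zero_ne_one (α := F))] at h4
    exact h4
  rw [hcardtop] at hj1
  have h6 : 2 ^ (2 * m + 1) ≤ 2 * 4 ^ j :=
    hj1.trans (Nat.mul_le_mul_right _ hrad)
  have h7 : (2 : ℕ) ^ (2 * m + 1) = 2 * 4 ^ m := by
    rw [pow_succ, pow_mul, mul_comm]; norm_num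
  rw [h7] at h6
  have h8 : 4 ^ m ≤ 4 ^ j := Nat.le_of_mul_le_mul_left h6 (by norm_num)
  have h9 : m ≤ j := (Nat.pow_le_pow_iff_right (by norm_num : 1 < 4)).mp h8
  have h10 : 2 ^ m ≤ Module.finrank ℂ (LinearMap.range (szProj hF R (szPsi hF))) :=
    (Nat.pow_le_pow_right (by norm_num) h9).trans hj2
  calc 2 ^ m * (2 ^ (2 * m + 1) - 1)
      ≤ Module.finrank ℂ (LinearMap.range (szProj hF R (szPsi hF))) * (2 ^ (2 * m + 1) - 1) :=
        Nat.mul_le_mul_right _ h10
    _ = (Fintype.card F - 1) *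
          Module.finrank ℂ (LinearMap.range (szProj hF R (szPsi hF))) := by
        rw [hF, mul_comm]
    _ ≤ Module.finrank ℂ (LinearMap.range (szProj hF R (fun _ => (1 : ℂ)))) +
          (Fintype.card F - 1) *
            Module.finrank ℂ (LinearMap.range (szProj hF R (szPsi hF))) := Nat.le_add_left _ _
    _ = Module.finrank ℂ V := hdim

end SzRepB

/-- The minimal degree of the non-trivial irreducible complex representations of the
Suzuki groups. -/
theorem sz_min_degree {F : Type*} [Field F] [Fintype F] (m : ℕ) (hm : 1 ≤ m)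
    (hF : Fintype.card F = 2 ^ (2 * m + 1)) (k : ℕ)
    (ρ : Representation ℂ (Cfsg.Lie.Sz F (2 ^ (m + 1))) (Fin k → ℂ))
    (hρ : ρ.IsIrreducible) (hk : 2 ≤ k) :
    2 ^ m * (2 ^ (2 * m + 1) - 1) ≤ k := by
  classical
  have hfr : Module.finrank ℂ (Fin k → ℂ) = k := Module.finrank_fin_fun ℂ
  by_cases hR : ∃ g, (ρ.comp (szBridge hm hF).toMonoidHom) g ≠ 1
  · have hb := sz_rep_bound hm hF (ρ.comp (szBridge hm hF).toMonoidHom) hR
    rw [hfr] at hb
    exact hb
  · exfalso
    have hall : ∀ g, (ρ.comp (szBridge hm hF).toMonoidHom) g = 1 :=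
      fun g => by_contra fun h => hR ⟨g, h⟩
    have hρ1 : ∀ h, ρ h = 1 := by
      intro h
      have h3 := hall ((szBridge hm hF).symm h)
      have h4 : (ρ.comp (szBridge hm hF).toMonoidHom) ((szBridge hm hF).symm h) = ρ h := by
        show ρ ((szBridge hm hF) ((szBridge hm hF).symm h)) = ρ h
        rw [MulEquiv.apply_symm_apply]
      rw [h4] at h3
      exact h3
    let W : Subrepresentation ρ :=
      ⟨Submodule.span ℂ {Pi.single (⟨0, by omega⟩ : Fin k) (1 : ℂ)}, fun g v hv => by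
        rw [hρ1 g]; exact hv⟩
    have hW : W.toSubmodule = Submodule.span ℂ {Pi.single (⟨0, by omega⟩ : Fin k) (1 : ℂ)} := rfl
    rcases hρ.eq_bot_or_eq_top W with h | h
    · have h3 : W.toSubmodule = ⊥ := by rw [h]; rfl
      rw [hW, Submodule.span_singleton_eq_bot] at h3
      have h4 := congrFun h3 (⟨0, by omega⟩ : Fin k)
      simp at h4
    · have h3 : W.toSubmodule = ⊤ := by rw [h]; rfl
      have h4 : (Pi.single (⟨1, by omega⟩ : Fin k) (1 : ℂ)) ∈ W.toSubmodule := by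
        rw [h3]; exact Submodule.mem_top
      rw [hW, Submodule.mem_span_singleton] at h4
      obtain ⟨c, hc⟩ := h4
      have h5 := congrFun hc (⟨1, by omega⟩ : Fin k)
      simp [Pi.single_apply, Fin.ext_iff] at h5

end Cfsg.Agent.Helper22
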