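import Cfsg.Agent.Helper22.SzCyc

set_option autoImplicit false
set_option linter.style.haveILetI false
set_option linter.unusedSectionVars false
set_option linter.unusedSimpArgs false
set_option linter.unusedVariables false
set_option linter.unusedTactic false
set_option maxHeartbeats 1000000

open Cfsg
open Matrix
open scoped Pointwise

namespace Cfsg.Agent.Helper22

section SzTI

variable {F : Type*} [Field F] [Fintype F] {m : ℕ}

/-- The multipliers stabilising a subset of the field. -/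
def szStabMul (V : Set F) : Subgroup Fˣ where
  carrier := {l : Fˣ | ∀ b : F, b ∈ V ↔ (l : F) * b ∈ V}
  mul_mem' := by
    intro a b ha hb
    show ∀ c : F, c ∈ V ↔ ((a * b : Fˣ) : F) * c ∈ V
    intro c
    have ha' : ∀ t : F, t ∈ V ↔ (a : F) * t ∈ V := ha
    have hb' : ∀ t : F, t ∈ V ↔ (b : F) * t ∈ V := hb
    rw [Units.val_mul, mul_assoc]
    exact (hb' c).trans (ha' _)
  one_mem' := by
    show ∀ c : F, c ∈ V ↔ ((1 : Fˣ) : F) * c ∈ V
    intro c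
    rw [Units.val_one, one_mul]
  inv_mem' := by
    intro a ha
    show ∀ c : F, c ∈ V ↔ ((a⁻¹ : Fˣ) : F) * c ∈ V
    intro c
    have ha' : ∀ t : F, t ∈ V ↔ (a : F) * t ∈ V := ha
    have h := ha' (((a⁻¹ : Fˣ) : F) * c)
    rw [← mul_assoc, ← Units.val_mul, mul_inv_cancel, Units.val_one, one_mul] at h
    exact h.symm

theorem mem_szStabMul {V : Set F} {l : Fˣ} :
    l ∈ szStabMul V ↔ ∀ b : F, b ∈ V ↔ (l : F) * b ∈ V := Iff.rfl

theorem sz_ti_forward (hm : 1 ≤ m) (hF : Fintype.card F = 2 ^ (2 * m + 1)) (n : ℕ) (hn : 2 ≤ n)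
    (E : Subgroup ↥(Cfsg.Sz F m)) (hE2 : ∀ a ∈ E, a ^ 2 = 1) (hcard : Nat.card ↥E = 2 ^ n)
    (hTI : ∀ x : ↥(Cfsg.Sz F m), E ⊓ E.map (MulAut.conj x).toMonoidHom ≠ ⊥ →
      x ∈ Subgroup.normalizer (E : Set ↥(Cfsg.Sz F m))) : n ∣ 2 * m + 1 := by
  haveI : Fact (Nat.Prime 2) := ⟨Nat.prime_two⟩
  have hθ := szθ_spec hF
  have hθ0 := ov_theta_zero _ hθ.hadd
  have hEp : IsPGroup 2 ↥E := IsPGroup.of_card hcard
  obtain ⟨P, hEP⟩ := hEp.exists_le_sylow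
  obtain ⟨Q, hQU, k, hk⟩ := sz_sylow_conj hm hF P
  subst hk
  have hP : ((k • Q : Sylow 2 ↥(Cfsg.Sz F m)) : Subgroup ↥(Cfsg.Sz F m)) =
      (szU hF).map (MulAut.conj k).toMonoidHom := by
    rw [Sylow.coe_subgroup_smul, hQU]
    rfl
  rw [hP] at hEP
  -- every element of E is a conjugate of a central translation
  have hform : ∀ e ∈ E, ∃ b : F, e = k * szTG hF 0 b * k⁻¹ := by
    intro e he
    obtain ⟨u, hu, hue⟩ := Subgroup.mem_map.mp (hEP he)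
    obtain ⟨⟨a, b⟩, hab⟩ := hu
    have hab' : szTG hF a b = u := hab
    have hue' : k * u * k⁻¹ = e := hue
    have hsq := hE2 e he
    rw [← hue', conj_pow] at hsq
    have hu2 : u * u = 1 := by
      have e1 : u * u = k⁻¹ * (k * u ^ 2 * k⁻¹) * k := by
        rw [pow_two]
        group
      rw [e1, hsq]
      group
    rw [← hab', szTG_sq, ← szTG_one hF] at hu2
    have h2 := (szTG_inj hF hu2).2
    have ha : a = 0 := by
      rcases mul_eq_zero.mp h2 with h | h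
      · exact ov_theta_inj0 _ hθ.hadd hθ.hsq h
      · exact h
    exact ⟨b, by rw [← hue', ← hab', ha]⟩
  obtain ⟨V, hV⟩ : ∃ V : Set F, V = {b : F | k * szTG hF 0 b * k⁻¹ ∈ E} := ⟨_, rfl⟩
  have hVmem : ∀ b : F, b ∈ V ↔ k * szTG hF 0 b * k⁻¹ ∈ E := by
    intro b
    rw [hV]
    exact Iff.rfl
  have hVcard : Nat.card ↥V = 2 ^ n := by
    rw [← hcard]
    apply Nat.card_congr
    refine Equiv.ofBijective
      (fun b : ↥V => (⟨k * szTG hF 0 b.1 * k⁻¹, (hVmem b.1).mp b.2⟩ : ↥E)) ⟨?_, ?_⟩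
    · intro b b' h
      have h' : k * szTG hF 0 b.1 * k⁻¹ = k * szTG hF 0 b'.1 * k⁻¹ := congrArg Subtype.val h
      have h'' := mul_left_cancel (mul_right_cancel h')
      exact Subtype.ext (szTG_inj hF h'').2
    · intro e
      obtain ⟨b, hb⟩ := hform e.1 e.2
      exact ⟨⟨b, (hVmem b).mpr (by rw [← hb]; exact e.2)⟩, Subtype.ext hb.symm⟩
  have hconjD : ∀ (δ : Fˣ) (b : F), (k * szDG hF δ * k⁻¹) * (k * szTG hF 0 b * k⁻¹) *
      (k * szDG hF δ * k⁻¹)⁻¹ = k * szTG hF 0 (szθ F m δ * δ * b) * k⁻¹ := by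
    intro δ b
    have e1 : szDG hF δ * szTG hF 0 b = szTG hF 0 (szθ F m δ * δ * b) * szDG hF δ := by
      apply Subtype.ext
      have h := szD_T hF δ 0 b
      rw [mul_zero] at h
      exact h
    have e2 : (k * szDG hF δ * k⁻¹) * (k * szTG hF 0 b * k⁻¹) * (k * szDG hF δ * k⁻¹)⁻¹ =
        k * (szDG hF δ * szTG hF 0 b) * (szDG hF δ)⁻¹ * k⁻¹ := by group
    rw [e2, e1]
    group
  have hP1 : ∀ (δ : Fˣ) (b₁ : F), b₁ ∈ V → b₁ ≠ 0 → szθ F m δ * δ * b₁ ∈ V →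
      ∀ b : F, b ∈ V ↔ szθ F m δ * δ * b ∈ V := by
    intro δ b₁ hb₁ hb₁0 hl b
    have hx := hTI (k * szDG hF δ * k⁻¹) (by
      intro hbot
      have hmem : k * szTG hF 0 (szθ F m δ * δ * b₁) * k⁻¹ ∈
          E ⊓ E.map (MulAut.conj (k * szDG hF δ * k⁻¹)).toMonoidHom := by
        refine Subgroup.mem_inf.mpr ⟨(hVmem _).mp hl, ?_⟩
        rw [Subgroup.mem_map]
        exact ⟨k * szTG hF 0 b₁ * k⁻¹, (hVmem _).mp hb₁, hconjD δ b₁⟩
      rw [hbot, Subgroup.mem_bot] at hmem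
      have h1 : szTG hF 0 (szθ F m δ * δ * b₁) = 1 := by
        have e : szTG hF 0 (szθ F m δ * δ * b₁) =
            k⁻¹ * (k * szTG hF 0 (szθ F m δ * δ * b₁) * k⁻¹) * k := by group
        rw [e, hmem]
        group
      rw [← szTG_one hF] at h1
      have h2 := (szTG_inj hF h1).2
      have hθδ : szθ F m (δ : F) ≠ 0 := fun h => δ.ne_zero (ov_theta_inj0 _ hθ.hadd hθ.hsq h)
      exact mul_ne_zero (mul_ne_zero hθδ δ.ne_zero) hb₁0 h2)
    have h := Subgroup.mem_normalizer_iff.mp hx (k * szTG hF 0 b * k⁻¹)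
    rw [hconjD] at h
    rw [hVmem, hVmem]
    exact h
  have hP2 : ∀ lam : F, lam ≠ 0 → ∀ b₁ : F, b₁ ∈ V → b₁ ≠ 0 → lam * b₁ ∈ V →
      ∀ b : F, b ∈ V ↔ lam * b ∈ V := by
    intro lam hlam b₁ hb₁ hb₁0 hl b
    obtain ⟨c, hc⟩ := sz_norm_surj hF lam
    have hc0 : c ≠ 0 := by
      rintro rfl
      rw [mul_zero] at hc
      exact hlam hc.symm
    have h := hP1 (Units.mk0 c hc0) b₁ hb₁ hb₁0 (by rw [Units.val_mk0, hc]; exact hl) b
    rw [Units.val_mk0, hc] at h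
    exact h
  have h0V : (0 : F) ∈ V :=
    (hVmem 0).mpr (by rw [szTG_one, mul_one, mul_inv_cancel]; exact E.one_mem)
  have h1lt : 1 < Nat.card ↥V := by
    rw [hVcard]
    calc 1 < 2 ^ 2 := by norm_num
      _ ≤ 2 ^ n := Nat.pow_le_pow_right (by norm_num) hn
  haveI := Finite.one_lt_card_iff_nontrivial.mp h1lt
  obtain ⟨x, y, hxy⟩ := exists_pair_ne ↥V
  obtain ⟨v₀, hv₀, hv₀0⟩ : ∃ v₀ : F, v₀ ∈ V ∧ v₀ ≠ 0 := by
    by_cases hx0 : (x : F) = 0
    · exact ⟨y, y.2, fun hy0 => hxy (Subtype.ext (hx0.trans hy0.symm))⟩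
    · exact ⟨x, x.2, hx0⟩
  have hScard : Nat.card ↥(szStabMul V) = 2 ^ n - 1 := by
    have e1 : Nat.card ↥(V \ {0}) = 2 ^ n - 1 := by
      rw [Nat.card_coe_set_eq, Set.ncard_sdiff_singleton_of_mem h0V,
        ← Nat.card_coe_set_eq, hVcard]
    rw [← e1]
    have hmemS : ∀ l : ↥(szStabMul V), ((l.1 : Fˣ) : F) * v₀ ∈ V \ {0} := fun l =>
      ⟨((mem_szStabMul.mp l.2) v₀).mp hv₀, fun h => mul_ne_zero l.1.ne_zero hv₀0 h⟩
    apply Nat.card_congr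
    refine Equiv.ofBijective
      (fun l : ↥(szStabMul V) => (⟨((l.1 : Fˣ) : F) * v₀, hmemS l⟩ : ↥(V \ {0}))) ⟨?_, ?_⟩
    · intro l l' h
      have h' : ((l.1 : Fˣ) : F) * v₀ = ((l'.1 : Fˣ) : F) * v₀ := congrArg Subtype.val h
      exact Subtype.ext (Units.ext (mul_right_cancel₀ hv₀0 h'))
    · rintro ⟨v, hvV, hv0⟩
      have hv0' : v ≠ 0 := fun h => hv0 h
      have hl0 : v / v₀ ≠ 0 := div_ne_zero hv0' hv₀0
      have hlv : v / v₀ * v₀ = v := div_mul_cancel₀ v hv₀0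
      refine ⟨⟨Units.mk0 (v / v₀) hl0, ?_⟩, ?_⟩
      · rw [mem_szStabMul]
        intro b
        rw [Units.val_mk0]
        exact hP2 (v / v₀) hl0 v₀ hv₀ hv₀0 (by rw [hlv]; exact hvV) b
      · apply Subtype.ext
        show ((Units.mk0 (v / v₀) hl0 : Fˣ) : F) * v₀ = v
        rw [Units.val_mk0, hlv]
  have hdvd : 2 ^ n - 1 ∣ 2 ^ (2 * m + 1) - 1 := by
    have h := Subgroup.card_subgroup_dvd_card (szStabMul V)
    rw [hScard, Nat.card_units, Nat.card_eq_fintype_card, hF] at h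
    exact h
  have hg := Nat.pow_sub_one_gcd_pow_sub_one 2 n (2 * m + 1)
  rw [Nat.gcd_eq_left hdvd] at hg
  have h1 : 1 ≤ 2 ^ n := Nat.one_le_two_pow
  have h2 : 1 ≤ 2 ^ Nat.gcd n (2 * m + 1) := Nat.one_le_two_pow
  have hpow : 2 ^ n = 2 ^ Nat.gcd n (2 * m + 1) := by omega
  have hn' : n = Nat.gcd n (2 * m + 1) := Nat.pow_right_injective (le_refl 2) hpow
  exact Nat.gcd_eq_left_iff_dvd.mp hn'.symm

theorem sz_ti_backward (hm : 1 ≤ m) (hF : Fintype.card F = 2 ^ (2 * m + 1)) (n : ℕ) (V : Set F)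
    (h0 : (0 : F) ∈ V) (hadd : ∀ a b : F, a ∈ V → b ∈ V → a + b ∈ V)
    (hmul : ∀ a b : F, a ∈ V → b ∈ V → a * b ∈ V) (hinv : ∀ a : F, a ∈ V → a⁻¹ ∈ V)
    (hcard : Nat.card ↥V = 2 ^ n) :
    ∃ E : Subgroup ↥(Cfsg.Sz F m), Cfsg.IsElementaryAbelian 2 E ∧ Nat.card ↥E = 2 ^ n ∧
      ∀ x : ↥(Cfsg.Sz F m), E ⊓ E.map (MulAut.conj x).toMonoidHom ≠ ⊥ →
        x ∈ Subgroup.normalizer (E : Set ↥(Cfsg.Sz F m)) := by
  have hθ := szθ_spec hF
  have hθ0 := ov_theta_zero _ hθ.hadd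
  obtain ⟨E, hE⟩ : ∃ E : Subgroup ↥(Cfsg.Sz F m),
      ∀ g, g ∈ E ↔ ∃ b ∈ V, g = szTG hF 0 b := by
    refine ⟨{ carrier := {g | ∃ b ∈ V, g = szTG hF 0 b}
              mul_mem' := ?_
              one_mem' := ?_
              inv_mem' := ?_ }, fun g => Iff.rfl⟩
    · rintro _ _ ⟨b, hb, rfl⟩ ⟨b', hb', rfl⟩
      refine ⟨b' + b, hadd _ _ hb' hb, ?_⟩
      rw [szTG_mul, add_zero, mul_zero, add_zero]
    · exact ⟨0, h0, (szTG_one hF).symm⟩
    · rintro _ ⟨b, hb, rfl⟩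
      refine ⟨b, hb, ?_⟩
      rw [szTG_inv, zero_mul, add_zero]
  refine ⟨E, ⟨?_, ?_⟩, ?_, ?_⟩
  · refine ⟨⟨fun a b => ?_⟩⟩
    obtain ⟨b₁, hb₁, ha⟩ := (hE a.1).mp a.2
    obtain ⟨b₂, hb₂, hb⟩ := (hE b.1).mp b.2
    apply Subtype.ext
    show a.1 * b.1 = b.1 * a.1
    rw [ha, hb, szTG_mul, szTG_mul, add_comm b₂ b₁]
  · intro a ha
    obtain ⟨b, hb, rfl⟩ := (hE a).mp ha
    rw [pow_two, szTG_sq, hθ0, zero_mul]
    exact szTG_one hF
  · rw [← hcard]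
    symm
    apply Nat.card_congr
    refine Equiv.ofBijective
      (fun b : ↥V => (⟨szTG hF 0 b.1, (hE _).mpr ⟨b.1, b.2, rfl⟩⟩ : ↥E)) ⟨?_, ?_⟩
    · intro b b' h
      have h' : szTG hF 0 b.1 = szTG hF 0 b'.1 := congrArg Subtype.val h
      exact Subtype.ext (szTG_inj hF h').2
    · intro e
      obtain ⟨b, hb, he⟩ := (hE e.1).mp e.2
      exact ⟨⟨b, hb⟩, Subtype.ext he.symm⟩
  · intro x hx
    rw [Subgroup.ne_bot_iff_exists_ne_one] at hx
    obtain ⟨⟨e, he⟩, hne⟩ := hx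
    have he1 : e ≠ 1 := fun h => hne (Subtype.ext h)
    obtain ⟨heE, heEx⟩ := Subgroup.mem_inf.mp he
    obtain ⟨b, hb, hbe⟩ := (hE e).mp heE
    obtain ⟨e', he', hee'⟩ := Subgroup.mem_map.mp heEx
    obtain ⟨b', hb', hbe'⟩ := (hE e').mp he'
    have hxe : x * szTG hF 0 b' * x⁻¹ = szTG hF 0 b := by
      rw [← hbe', ← hbe]
      exact hee'
    have hb0 : b ≠ 0 := by
      intro h
      rw [h] at hbe
      exact he1 (hbe.trans (szTG_one hF))
    have hxinf : (x : Matrix.SpecialLinearGroup (Fin 4) F) • Cfsg.suzukiPointInfinity F =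
        Cfsg.suzukiPointInfinity F := by
      apply szT_fix hF hb0 (sz_smul_mem x.2 sz_inf_mem)
      have h3 : szT F m 0 b = (x : Matrix.SpecialLinearGroup (Fin 4) F) * szT F m 0 b' *
          (x : Matrix.SpecialLinearGroup (Fin 4) F)⁻¹ := congrArg Subtype.val hxe.symm
      rw [h3, mul_smul, mul_smul, inv_smul_smul, szT_inf]
    obtain ⟨c, d, δ, hdec, -⟩ := sz_borel_decomp hm hF x hxinf
    obtain ⟨lam, hlam⟩ : ∃ lam : F, lam = szθ F m δ * δ := ⟨_, rfl⟩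
    have hconj : ∀ t : F, x * szTG hF 0 t * x⁻¹ = szTG hF 0 (lam * t) := by
      intro t
      have e1 : szDG hF δ * szTG hF 0 t = szTG hF 0 (lam * t) * szDG hF δ := by
        apply Subtype.ext
        have h := szD_T hF δ 0 t
        rw [mul_zero, ← hlam] at h
        exact h
      have e2 : szTG hF c d * szTG hF 0 (lam * t) = szTG hF 0 (lam * t) * szTG hF c d := by
        rw [szTG_mul, szTG_mul, hθ0]
        have a1 : (0 : F) + c = c + 0 := by ring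
        have a2 : lam * t + d + szθ F m c * 0 = d + lam * t + 0 * c := by ring
        rw [a1, a2]
      rw [hdec]
      have e3 : szTG hF c d * szDG hF δ * szTG hF 0 t * (szTG hF c d * szDG hF δ)⁻¹ =
          szTG hF c d * (szDG hF δ * szTG hF 0 t) * (szDG hF δ)⁻¹ * (szTG hF c d)⁻¹ := by group
      rw [e3, e1]
      have e4 : szTG hF c d * (szTG hF 0 (lam * t) * szDG hF δ) * (szDG hF δ)⁻¹ *
          (szTG hF c d)⁻¹ = (szTG hF c d * szTG hF 0 (lam * t)) * (szTG hF c d)⁻¹ := by group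
      rw [e4, e2]
      group
    have hlb : lam * b' = b := by
      have h := hconj b'
      rw [hxe] at h
      exact ((szTG_inj hF h).2).symm
    have hb'0 : b' ≠ 0 := by
      intro h
      rw [h, mul_zero] at hlb
      exact hb0 hlb.symm
    have hlamV : lam ∈ V := by
      have e : lam = b * b'⁻¹ := by rw [← hlb, mul_assoc, mul_inv_cancel₀ hb'0, mul_one]
      rw [e]
      exact hmul _ _ hb (hinv _ hb')
    have hlam0 : lam ≠ 0 := by
      intro h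
      rw [h, zero_mul] at hlb
      exact hb0 hlb.symm
    rw [Subgroup.mem_normalizer_iff]
    intro h
    constructor
    · intro hh
      obtain ⟨t, ht, hht⟩ := (hE h).mp hh
      rw [hht, hconj]
      exact (hE _).mpr ⟨lam * t, hmul _ _ hlamV ht, rfl⟩
    · intro hh
      obtain ⟨t, ht, hxt⟩ := (hE _).mp hh
      have e : x * h * x⁻¹ = x * szTG hF 0 (lam⁻¹ * t) * x⁻¹ := by
        rw [hxt, hconj, ← mul_assoc, mul_inv_cancel₀ hlam0, one_mul]
      have e' : h = szTG hF 0 (lam⁻¹ * t) := mul_left_cancel (mul_right_cancel e)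
      exact (hE _).mpr ⟨lam⁻¹ * t, hmul _ _ (hinv _ hlamV) ht, e'⟩

theorem sz_subfield_set (hF : Fintype.card F = 2 ^ (2 * m + 1)) (n : ℕ) (hn0 : n ≠ 0)
    (hdiv : n ∣ 2 * m + 1) :
    ∃ V : Set F, (0 : F) ∈ V ∧ (∀ a b : F, a ∈ V → b ∈ V → a + b ∈ V) ∧
      (∀ a b : F, a ∈ V → b ∈ V → a * b ∈ V) ∧ (∀ a : F, a ∈ V → a⁻¹ ∈ V) ∧
      Nat.card ↥V = 2 ^ n := by
  haveI : Fact (Nat.Prime 2) := ⟨Nat.prime_two⟩
  have h2 : (2 : F) = 0 := (szθ_spec hF).h2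
  haveI : CharP F 2 := CharTwo.of_one_ne_zero_of_two_eq_zero one_ne_zero h2
  letI : Algebra (ZMod 2) F := ZMod.algebra F 2
  have hfr : Module.finrank (ZMod 2) F = 2 * m + 1 := by
    have h := FiniteField.pow_finrank_eq_card 2 F
    rw [hF] at h
    exact Nat.pow_right_injective (le_refl 2) h
  obtain ⟨f⟩ := FiniteField.nonempty_algHom_of_finrank_dvd (F := ZMod 2)
    (K := GaloisField 2 n) (L := F) (by rw [GaloisField.finrank 2 hn0, hfr]; exact hdiv)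
  refine ⟨Set.range f, ⟨0, map_zero f⟩, ?_, ?_, ?_, ?_⟩
  · rintro a b ⟨a', rfl⟩ ⟨b', rfl⟩
    exact ⟨a' + b', map_add f a' b'⟩
  · rintro a b ⟨a', rfl⟩ ⟨b', rfl⟩
    exact ⟨a' * b', map_mul f a' b'⟩
  · rintro a ⟨a', rfl⟩
    exact ⟨a'⁻¹, map_inv₀ f a'⟩
  · rw [Nat.card_range_of_injective (show Function.Injective (⇑f) from f.toRingHom.injective)]
    exact GaloisField.card 2 n hn0

theorem sz_ti (hm : 1 ≤ m) (hF : Fintype.card F = 2 ^ (2 * m + 1)) (n : ℕ) (hn : 2 ≤ n) :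
    (∃ E : Subgroup ↥(Cfsg.Sz F m), Cfsg.IsElementaryAbelian 2 E ∧ Nat.card ↥E = 2 ^ n ∧
      ∀ x : ↥(Cfsg.Sz F m), E ⊓ E.map (MulAut.conj x).toMonoidHom ≠ ⊥ →
        x ∈ Subgroup.normalizer (E : Set ↥(Cfsg.Sz F m))) ↔ n ∣ 2 * m + 1 := by
  constructor
  · rintro ⟨E, ⟨-, hE2⟩, hcard, hTI⟩
    exact sz_ti_forward hm hF n hn E hE2 hcard hTI
  · intro hdiv
    obtain ⟨V, h0, hadd, hmul, hinv, hcard⟩ := sz_subfield_set hF n (by omega) hdiv
    exact sz_ti_backward hm hF n V h0 hadd hmul hinv hcard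

end SzTI

end Cfsg.Agent.Helper22
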