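import Cfsg.Agent.Helper22.SzPart
import Cfsg.Agent.Helper22.SzTI

set_option autoImplicit false
set_option linter.style.haveILetI false
set_option linter.unusedSectionVars false
set_option linter.unusedSimpArgs false
set_option linter.unusedVariables false
set_option linter.unusedTactic false
set_option maxHeartbeats 1000000

open Cfsg
open Matrix
open scoped Pointwise

namespace Cfsg.Agent.Helper22

section SubGeneric

theorem sz_sub_exp {k m : ℕ} (hdiv : 2 * k + 1 ∣ 2 * m + 1) :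
    ∃ i, m = (2 * k + 1) * i + k := by
  obtain ⟨j, hj⟩ := hdiv
  rcases Nat.even_or_odd' j with ⟨i, rfl | rfl⟩
  · exfalso
    have h : 2 * m + 1 = 2 * ((2 * k + 1) * i) := by
      rw [hj]
      ring
    omega
  · refine ⟨i, ?_⟩
    have h : 2 * m + 1 = 2 * ((2 * k + 1) * i) + (2 * k + 1) := by
      rw [hj]
      ring
    omega

theorem pow_fix_iter22 {R : Type*} [Monoid R] {x : R} {s : ℕ} (hx : x ^ s = x) (i : ℕ) :
    x ^ (s ^ i) = x := by
  induction i with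
  | zero => simp
  | succ n ih => rw [pow_succ, pow_mul, ih, hx]

theorem pow_two_shift22 {R : Type*} [Monoid R] {x : R} {k : ℕ}
    (hx : x ^ (2 ^ (2 * k + 1)) = x) (e i : ℕ) :
    x ^ (2 ^ (e + (2 * k + 1) * i)) = x ^ (2 ^ e) := by
  have h1 : 2 ^ (e + (2 * k + 1) * i) = (2 ^ (2 * k + 1)) ^ i * 2 ^ e := by
    rw [pow_add, pow_mul, mul_comm]
  rw [h1, pow_mul, pow_fix_iter22 hx i]

theorem pow4_pow_odd_one22 {G : Type*} [Group G] {g : G} {n : ℕ} (h4 : g ^ 4 = 1)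
    (hn : g ^ n = 1) (hodd : ¬ 2 ∣ n) : g = 1 := by
  have h1 : orderOf g ∣ 2 ^ 2 := orderOf_dvd_of_pow_eq_one (by
    have e4 : (2 : ℕ) ^ 2 = 4 := by norm_num
    rw [e4]
    exact h4)
  have h2 : orderOf g ∣ n := orderOf_dvd_of_pow_eq_one hn
  have hcop : Nat.Coprime (2 ^ 2) n :=
    Nat.Coprime.pow_left 2 ((Nat.Prime.coprime_iff_not_dvd Nat.prime_two).mpr hodd)
  have h3 := Nat.dvd_gcd h1 h2
  rw [Nat.Coprime.gcd_eq_one hcop] at h3
  exact orderOf_eq_one_iff.mp (Nat.dvd_one.mp h3)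

theorem sub_root_mem22 {K F : Type*} [Field K] [Fintype K] [Field F] (ι : K →+* F) {s : ℕ}
    (hs : Fintype.card K = s) (hs2 : 1 < s) {x : F} (hx : x ^ s = x) : ∃ y : K, ι y = x := by
  classical
  have hP : (Polynomial.X ^ s - Polynomial.X : Polynomial F) ≠ 0 :=
    FiniteField.X_pow_card_sub_X_ne_zero F hs2
  have hdeg : (Polynomial.X ^ s - Polynomial.X : Polynomial F).natDegree = s :=
    FiniteField.X_pow_card_sub_X_natDegree_eq F hs2
  have hsub : (Finset.univ.image ι) ⊆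
      (Polynomial.X ^ s - Polynomial.X : Polynomial F).roots.toFinset := by
    intro z hz
    obtain ⟨y, -, rfl⟩ := Finset.mem_image.mp hz
    rw [Multiset.mem_toFinset, Polynomial.mem_roots hP, Polynomial.IsRoot.def]
    simp only [Polynomial.eval_sub, Polynomial.eval_pow, Polynomial.eval_X]
    rw [← map_pow, ← hs, FiniteField.pow_card, sub_self]
  have hcard : (Polynomial.X ^ s - Polynomial.X : Polynomial F).roots.toFinset.card ≤
      (Finset.univ.image ι).card := by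
    rw [Finset.card_image_of_injective _ ι.injective, Finset.card_univ, hs]
    calc (Polynomial.X ^ s - Polynomial.X : Polynomial F).roots.toFinset.card
        ≤ Multiset.card (Polynomial.X ^ s - Polynomial.X : Polynomial F).roots :=
          Multiset.toFinset_card_le _
      _ ≤ (Polynomial.X ^ s - Polynomial.X : Polynomial F).natDegree :=
          Polynomial.card_roots' _
      _ = s := hdeg
  have heq := Finset.eq_of_subset_of_card_le hsub hcard
  have hxmem : x ∈ (Polynomial.X ^ s - Polynomial.X : Polynomial F).roots.toFinset := by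
    rw [Multiset.mem_toFinset, Polynomial.mem_roots hP, Polynomial.IsRoot.def]
    simp only [Polynomial.eval_sub, Polynomial.eval_pow, Polynomial.eval_X]
    rw [hx, sub_self]
  rw [← heq] at hxmem
  obtain ⟨y, -, hy⟩ := Finset.mem_image.mp hxmem
  exact ⟨y, hy⟩

end SubGeneric

section SubOne

variable {F : Type*} [Field F] [Fintype F] {m : ℕ}

theorem sz_bruhat (hm : 1 ≤ m) (hF : Fintype.card F = 2 ^ (2 * m + 1)) (g : ↥(Cfsg.Sz F m)) :
    (∃ (c d : F) (δ : Fˣ), g = szTG hF c d * szDG hF δ) ∨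
    (∃ (x y c d : F) (δ : Fˣ),
      g = szTG hF x y * szWG hF * (szTG hF c d * szDG hF δ)) := by
  by_cases h : (g : Matrix.SpecialLinearGroup (Fin 4) F) • Cfsg.suzukiPointInfinity F =
      Cfsg.suzukiPointInfinity F
  · left
    obtain ⟨c, d, δ, hdec, -⟩ := sz_borel_decomp hm hF g h
    exact ⟨c, d, δ, hdec⟩
  · right
    have hmem : (g : Matrix.SpecialLinearGroup (Fin 4) F) • Cfsg.suzukiPointInfinity F ∈
        Cfsg.suzukiOvoid F m := sz_smul_mem g.2 sz_inf_mem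
    rcases sz_mem_ovoid_iff.mp hmem with h1 | ⟨x, y, hxy⟩
    · exact absurd h1 h
    · have hfix : (((szTG hF x y * szWG hF)⁻¹ * g : ↥(Cfsg.Sz F m)) :
          Matrix.SpecialLinearGroup (Fin 4) F) • Cfsg.suzukiPointInfinity F =
          Cfsg.suzukiPointInfinity F := by
        show ((szT F m x y * szW F (szθ_spec hF).h2)⁻¹ *
          (g : Matrix.SpecialLinearGroup (Fin 4) F)) • _ = _
        rw [mul_smul, hxy, inv_smul_eq_iff, mul_smul, szW_inf, szT_zero hF]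
      obtain ⟨c, d, δ, hdec, -⟩ := sz_borel_decomp hm hF _ hfix
      refine ⟨x, y, c, d, δ, ?_⟩
      rw [← hdec]
      group

theorem szW_pt0 (hF : Fintype.card F = 2 ^ (2 * m + 1)) {y : F} (hy : y ≠ 0) :
    szW F (szθ_spec hF).h2 • szPt F m 0 y = szPt F m (y * (szθ F m y)⁻¹) 0 := by
  have hθ := szθ_spec hF
  have hθy : szθ F m y ≠ 0 := fun h => hy (ov_theta_inj0 _ hθ.hadd hθ.hsq h)
  have hθ0 : szθ F m 0 = 0 := ov_theta_zero _ hθ.hadd
  have hθx : szθ F m (y * (szθ F m y)⁻¹) = szθ F m y * (y ^ 2)⁻¹ := by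
    rw [hθ.hmul]
    have e : szθ F m ((szθ F m y)⁻¹) = (szθ F m (szθ F m y))⁻¹ := by
      show ((szθ F m y)⁻¹) ^ 2 ^ (m + 1) = ((szθ F m y) ^ 2 ^ (m + 1))⁻¹
      rw [inv_pow]
    rw [e, hθ.hsq]
  refine sz_smul_mk _ _ _ hθy ?_
  show Cfsg.suzukiForm F *ᵥ ovV (szθ F m) 0 y =
    szθ F m y • ovV (szθ F m) (y * (szθ F m y)⁻¹) 0
  rw [ovW_mulVec]
  funext i
  revert i
  refine ov_fin4 ?_ ?_ ?_ ?_
  · show (1 : F) = szθ F m y * ((y * (szθ F m y)⁻¹) * 0 +
      szθ F m (y * (szθ F m y)⁻¹) * (y * (szθ F m y)⁻¹) ^ 2 + szθ F m 0)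
    rw [hθx, hθ0]
    field_simp
    ring
  · show (0 : F) = szθ F m y * 0
    ring
  · show y = szθ F m y * (y * (szθ F m y)⁻¹)
    field_simp
  · show (0 * y + szθ F m 0 * 0 ^ 2 + szθ F m y) = szθ F m y * 1
    rw [hθ0]
    ring

theorem sz_borel_fix (hF : Fintype.card F = 2 ^ (2 * m + 1)) (c d : F) (δ : Fˣ)
    (hδ : δ ≠ 1) :
    ∃ x₀ y₀ : F, (szT F m c d * szD F m δ) • szPt F m x₀ y₀ = szPt F m x₀ y₀ := by
  have hθ := szθ_spec hF
  have hδ1 : (δ : F) ≠ 1 := fun h => hδ (Units.ext h)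
  have h1δ : (1 : F) + δ ≠ 0 := by
    intro h
    apply hδ1
    linear_combination h - hθ.h2
  have hN : (1 : F) + szθ F m δ * δ ≠ 0 := by
    intro h
    apply hδ1
    have e : szθ F m (δ : F) * δ = szθ F m 1 * 1 := by
      rw [hθ.hone]
      linear_combination h - hθ.h2
    exact sz_norm_inj hF e
  obtain ⟨u, hu⟩ : ∃ u : F, (1 + (δ : F)) * u = 1 := ⟨_, mul_inv_cancel₀ h1δ⟩
  obtain ⟨v, hv⟩ : ∃ v : F, (1 + szθ F m δ * δ) * v = 1 := ⟨_, mul_inv_cancel₀ hN⟩
  obtain ⟨x₀, hx₀def⟩ : ∃ x₀ : F, x₀ = c * u := ⟨_, rfl⟩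
  obtain ⟨e₀, he₀def⟩ : ∃ e₀ : F, e₀ = d + szθ F m c * (δ * x₀) := ⟨_, rfl⟩
  obtain ⟨y₀, hy₀def⟩ : ∃ y₀ : F, y₀ = e₀ * v := ⟨_, rfl⟩
  have hx₀ : (δ : F) * x₀ + c = x₀ := by
    rw [hx₀def]
    linear_combination c * hu + (c - c * u) * hθ.h2
  have hy₀ : szθ F m δ * δ * y₀ + d + szθ F m c * (δ * x₀) = y₀ := by
    rw [hy₀def]
    linear_combination e₀ * hv + (e₀ - e₀ * v) * hθ.h2 - he₀def
  refine ⟨x₀, y₀, ?_⟩
  rw [mul_smul, szD_pt hF, szT_pt hF, hx₀, hy₀]

theorem sz_conj_U_fix (hF : Fintype.card F = 2 ^ (2 * m + 1)) {x : ↥(Cfsg.Sz F m)}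
    {a b a' b' : F} (hab : a ≠ 0 ∨ b ≠ 0)
    (h : x * szTG hF a b * x⁻¹ = szTG hF a' b') :
    (x : Matrix.SpecialLinearGroup (Fin 4) F) • Cfsg.suzukiPointInfinity F =
      Cfsg.suzukiPointInfinity F := by
  have hab' : a' ≠ 0 ∨ b' ≠ 0 := by
    by_contra hcon
    push_neg at hcon
    rw [hcon.1, hcon.2, szTG_one hF] at h
    have e : szTG hF a b = x⁻¹ * (x * szTG hF a b * x⁻¹) * x := by group
    rw [h] at e
    have e' : szTG hF a b = szTG hF 0 0 := by
      rw [e, szTG_one hF]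
      group
    obtain ⟨h1, h2⟩ := szTG_inj hF e'
    rcases hab with h3 | h3
    · exact h3 h1
    · exact h3 h2
  have hconj' : (x : Matrix.SpecialLinearGroup (Fin 4) F) * szT F m a b *
      (x : Matrix.SpecialLinearGroup (Fin 4) F)⁻¹ = szT F m a' b' :=
    congrArg Subtype.val h
  have hfix : szT F m a' b' •
      ((x : Matrix.SpecialLinearGroup (Fin 4) F) • Cfsg.suzukiPointInfinity F) =
      (x : Matrix.SpecialLinearGroup (Fin 4) F) • Cfsg.suzukiPointInfinity F := by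
    rw [← hconj', mul_smul, mul_smul, inv_smul_smul, szT_inf]
  exact szT_fix' hF hab' (sz_smul_mem x.2 sz_inf_mem) hfix

theorem szDG_pow (hF : Fintype.card F = 2 ^ (2 * m + 1)) (ε : Fˣ) (n : ℕ) :
    szDG hF ε ^ n = szDG hF (ε ^ n) :=
  ((szDhom hF).map_pow ε n).symm

theorem sz_torus_pow (hF : Fintype.card F = 2 ^ (2 * m + 1)) (δ : Fˣ) :
    szDG hF δ ^ (2 ^ (2 * m + 1) - 1) = 1 := by
  rw [szDG_pow]
  have e : δ ^ (2 ^ (2 * m + 1) - 1) = 1 := by
    apply Units.ext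
    rw [Units.val_pow_eq_pow_val, Units.val_one, ← hF]
    exact FiniteField.pow_card_sub_one_eq_one _ δ.ne_zero
  rw [e, szDG_one]

end SubOne

section SubEmbed

variable {F : Type*} [Field F] [Fintype F] {m : ℕ} {K : Type*} [Field K] [Fintype K] {k : ℕ}

theorem sz_sub_embed (hF : Fintype.card F = 2 ^ (2 * m + 1))
    (hK : Fintype.card K = 2 ^ (2 * k + 1)) (hdiv : 2 * k + 1 ∣ 2 * m + 1) :
    Nonempty (K →+* F) := by
  classical
  have hθ := szθ_spec hF
  obtain ⟨V, h0, hadd, hmul, hinv, hcard⟩ := sz_subfield_set hF (2 * k + 1) (by omega) hdiv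
  have h1 : (1 : F) ∈ V := by
    have hne : ∃ a ∈ V, a ≠ (0 : F) := by
      by_contra hcon
      push_neg at hcon
      haveI : Subsingleton ↥V :=
        ⟨fun a b => Subtype.ext ((hcon a a.2).trans (hcon b b.2).symm)⟩
      have hle : Nat.card ↥V ≤ 1 := Finite.card_le_one_iff_subsingleton.mpr inferInstance
      rw [hcard] at hle
      have h2 : 2 ^ 1 ≤ 2 ^ (2 * k + 1) := Nat.pow_le_pow_right (by norm_num) (by omega)
      omega
    obtain ⟨a, ha, ha0⟩ := hne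
    have h3 := hmul a a⁻¹ ha (hinv a ha)
    rwa [mul_inv_cancel₀ ha0] at h3
  let L : Subfield F :=
    { carrier := V
      mul_mem' := fun {a b} ha hb => hmul a b ha hb
      one_mem' := h1
      add_mem' := fun {a b} ha hb => hadd a b ha hb
      zero_mem' := h0
      neg_mem' := fun {a} ha => by
        have e : -a = a := by linear_combination (-a) * hθ.h2
        rw [e]
        exact ha
      inv_mem' := fun a ha => hinv a ha }
  haveI : Fintype ↥L := Fintype.ofFinite _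
  have hLcard : Fintype.card ↥L = 2 ^ (2 * k + 1) := by
    rw [← Nat.card_eq_fintype_card, ← hcard]
    exact Nat.card_congr (Equiv.subtypeEquivRight (fun x => Iff.rfl))
  exact ⟨L.subtype.comp (FiniteField.ringEquivOfCardEq (hK.trans hLcard.symm)).toRingHom⟩

theorem sz_sub_mapT (ι : K →+* F) (hθc : ∀ y : K, szθ F m (ι y) = ι (szθ K k y)) (a b : K) :
    Matrix.SpecialLinearGroup.map ι (szT K k a b) = szT F m (ι a) (ι b) := by
  apply Subtype.ext
  show (ovT (szθ K k) a b).map ι = ovT (szθ F m) (ι a) (ι b)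
  unfold ovT
  rw [hθc a, hθc b]
  ext i j
  fin_cases i <;> fin_cases j <;> simp [Matrix.map_apply]

theorem sz_sub_mapD (ι : K →+* F) (hc2 : ∀ y : K, (ι y) ^ 2 ^ m = ι (y ^ 2 ^ k)) (δ : Kˣ) :
    Matrix.SpecialLinearGroup.map ι (szD K k δ) = szD F m (Units.map (ι : K →* F) δ) := by
  apply Subtype.ext
  show (ovD (δ : K) ((δ : K) ^ 2 ^ k)).map ι =
    ovD (ι (δ : K)) ((ι (δ : K)) ^ 2 ^ m)
  rw [hc2]
  unfold ovD
  rw [Matrix.diagonal_map (map_zero ι)]
  congr 1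
  funext i
  fin_cases i <;> simp [map_inv₀]

theorem sz_sub_mapW (ι : K →+* F) (h2K : (2 : K) = 0) (h2F : (2 : F) = 0) :
    Matrix.SpecialLinearGroup.map ι (szW K h2K) = szW F h2F := by
  apply Subtype.ext
  show (Cfsg.suzukiForm K).map ι = Cfsg.suzukiForm F
  unfold Cfsg.suzukiForm
  ext i j
  fin_cases i <;> fin_cases j <;> simp [Matrix.map_apply]

theorem sz_sub_hom (hm : 1 ≤ m) (hF : Fintype.card F = 2 ^ (2 * m + 1)) (hk : 1 ≤ k)
    (hK : Fintype.card K = 2 ^ (2 * k + 1)) (hdiv : 2 * k + 1 ∣ 2 * m + 1) :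
    ∃ Ψ : ↥(Cfsg.Sz K k) →* ↥(Cfsg.Sz F m), Function.Injective Ψ ∧
      Ψ (szTG hK 1 0) = szTG hF 1 0 ∧ Ψ (szWG hK) = szWG hF ∧
      ∀ ε : Fˣ, (ε : F) ^ (2 ^ (2 * k + 1) - 1) = 1 →
        ∃ δ : Kˣ, Ψ (szDG hK δ) = szDG hF ε := by
  obtain ⟨ι⟩ := sz_sub_embed hF hK hdiv
  obtain ⟨i, hi⟩ := sz_sub_exp hdiv
  have hιs : ∀ y : K, (ι y) ^ (2 ^ (2 * k + 1)) = ι y := by
    intro y
    rw [← map_pow, ← hK, FiniteField.pow_card]
  have hθc : ∀ y : K, szθ F m (ι y) = ι (szθ K k y) := by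
    intro y
    show (ι y) ^ 2 ^ (m + 1) = ι (y ^ 2 ^ (k + 1))
    rw [map_pow]
    have e : m + 1 = (k + 1) + (2 * k + 1) * i := by omega
    rw [e]
    exact pow_two_shift22 (hιs y) (k + 1) i
  have hc2 : ∀ y : K, (ι y) ^ 2 ^ m = ι (y ^ 2 ^ k) := by
    intro y
    rw [map_pow]
    have e : m = k + (2 * k + 1) * i := by omega
    rw [e]
    exact pow_two_shift22 (hιs y) k i
  have hmem : ∀ g : ↥(Cfsg.Sz K k),
      Matrix.SpecialLinearGroup.map ι (g : Matrix.SpecialLinearGroup (Fin 4) K) ∈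
        Cfsg.Sz F m := by
    intro g
    rcases sz_bruhat hk hK g with ⟨c, d, δ, hg⟩ | ⟨x, y, c, d, δ, hg⟩
    · have e : (g : Matrix.SpecialLinearGroup (Fin 4) K) = szT K k c d * szD K k δ :=
        congrArg Subtype.val hg
      rw [e, map_mul, sz_sub_mapT ι hθc, sz_sub_mapD ι hc2]
      exact mul_mem (szT_mem hF _ _) (szD_mem hF _)
    · have e : (g : Matrix.SpecialLinearGroup (Fin 4) K) =
          szT K k x y * szW K (szθ_spec hK).h2 * (szT K k c d * szD K k δ) :=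
        congrArg Subtype.val hg
      rw [e, map_mul, map_mul, map_mul, sz_sub_mapT ι hθc, sz_sub_mapT ι hθc,
        sz_sub_mapD ι hc2, sz_sub_mapW ι _ (szθ_spec hF).h2]
      exact mul_mem (mul_mem (szT_mem hF _ _) (szW_mem hF))
        (mul_mem (szT_mem hF _ _) (szD_mem hF _))
  obtain ⟨Ψ, hΨ⟩ : ∃ Ψ : ↥(Cfsg.Sz K k) →* ↥(Cfsg.Sz F m), ∀ g : ↥(Cfsg.Sz K k),
      ((Ψ g : ↥(Cfsg.Sz F m)) : Matrix.SpecialLinearGroup (Fin 4) F) =
        Matrix.SpecialLinearGroup.map ι (g : Matrix.SpecialLinearGroup (Fin 4) K) :=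
    ⟨((Matrix.SpecialLinearGroup.map ι).comp (Cfsg.Sz K k).subtype).codRestrict
      (Cfsg.Sz F m) hmem, fun g => rfl⟩
  have hinj : Function.Injective Ψ := by
    intro g g' h
    have h1 : Matrix.SpecialLinearGroup.map ι (g : Matrix.SpecialLinearGroup (Fin 4) K) =
        Matrix.SpecialLinearGroup.map ι (g' : Matrix.SpecialLinearGroup (Fin 4) K) := by
      rw [← hΨ g, ← hΨ g', h]
    apply Subtype.ext
    apply Subtype.ext
    ext a b
    have h2 := congrFun (congrFun (congrArg Subtype.val h1) a) b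
    exact ι.injective h2
  refine ⟨Ψ, hinj, ?_, ?_, ?_⟩
  · apply Subtype.ext
    rw [hΨ]
    show Matrix.SpecialLinearGroup.map ι (szT K k 1 0) = szT F m 1 0
    rw [sz_sub_mapT ι hθc, map_one, map_zero]
  · apply Subtype.ext
    rw [hΨ]
    show Matrix.SpecialLinearGroup.map ι (szW K (szθ_spec hK).h2) = szW F (szθ_spec hF).h2
    exact sz_sub_mapW ι _ _
  · intro ε hε
    have hε' : (ε : F) ^ (2 ^ (2 * k + 1)) = ε := by
      have hpos : 0 < 2 ^ (2 * k + 1) := by positivity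
      have e : 2 ^ (2 * k + 1) = (2 ^ (2 * k + 1) - 1) + 1 := by omega
      rw [e, pow_succ, hε, one_mul]
    have hs2 : 1 < 2 ^ (2 * k + 1) := by
      have h2 : 2 ^ 1 ≤ 2 ^ (2 * k + 1) := Nat.pow_le_pow_right (by norm_num) (by omega)
      omega
    obtain ⟨y, hy⟩ := sub_root_mem22 ι hK hs2 hε'
    have hy0 : y ≠ 0 := by
      rintro rfl
      rw [map_zero] at hy
      exact ε.ne_zero hy.symm
    refine ⟨Units.mk0 y hy0, ?_⟩
    apply Subtype.ext
    rw [hΨ]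
    show Matrix.SpecialLinearGroup.map ι (szD K k (Units.mk0 y hy0)) = szD F m ε
    rw [sz_sub_mapD ι hc2]
    congr 1
    apply Units.ext
    rw [Units.coe_map]
    exact hy

end SubEmbed

end Cfsg.Agent.Helper22
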