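import Cfsg.Agent.Helper22.SzSub

set_option autoImplicit false
set_option linter.style.haveILetI false
set_option linter.unusedSectionVars false
set_option linter.unusedSimpArgs false
set_option linter.unusedVariables false
set_option linter.unusedTactic false
set_option maxHeartbeats 1000000

open Cfsg
open Matrix
open scoped Pointwise

namespace Cfsg.Agent.Helper22

section SubConj

variable {F : Type*} [Field F] [Fintype F] {m : ℕ} {K : Type*} [Field K] [Fintype K] {k : ℕ}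

/-- Composition with an inner automorphism. -/
def cjh (g : ↥(Cfsg.Sz F m)) (φ : ↥(Cfsg.Sz K k) →* ↥(Cfsg.Sz F m)) :
    ↥(Cfsg.Sz K k) →* ↥(Cfsg.Sz F m) :=
  (MulAut.conj g).toMonoidHom.comp φ

theorem cjh_apply (g : ↥(Cfsg.Sz F m)) (φ : ↥(Cfsg.Sz K k) →* ↥(Cfsg.Sz F m))
    (h : ↥(Cfsg.Sz K k)) : cjh g φ h = g * φ h * g⁻¹ := rfl

theorem cjh_inj (g : ↥(Cfsg.Sz F m)) {φ : ↥(Cfsg.Sz K k) →* ↥(Cfsg.Sz F m)}
    (hφ : Function.Injective φ) : Function.Injective (cjh g φ) := by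
  intro a b hab
  rw [cjh_apply, cjh_apply] at hab
  exact hφ (mul_left_cancel (mul_right_cancel hab))

theorem sub_N1 (hm : 1 ≤ m) (hF : Fintype.card F = 2 ^ (2 * m + 1))
    (hK : Fintype.card K = 2 ^ (2 * k + 1)) (φ : ↥(Cfsg.Sz K k) →* ↥(Cfsg.Sz F m)) :
    ∃ g : ↥(Cfsg.Sz F m), ∀ a b : K, cjh g φ (szTG hK a b) ∈ szU hF := by
  haveI : Fact (Nat.Prime 2) := ⟨Nat.prime_two⟩
  have hU2 : IsPGroup 2 ↥(szU hK) :=
    IsPGroup.of_card (n := 2 * (2 * k + 1)) (by rw [szU_card hK]; ring)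
  have hP := hU2.map φ
  obtain ⟨P, hPle⟩ := hP.exists_le_sylow
  obtain ⟨c, hc⟩ := sz_sylow_mem hm hF P
  refine ⟨c⁻¹, fun a b => ?_⟩
  rw [cjh_apply, inv_inv]
  exact (hc _).mp (hPle (Subgroup.mem_map_of_mem φ ⟨(a, b), rfl⟩))

theorem sub_N2 (hm : 1 ≤ m) (hF : Fintype.card F = 2 ^ (2 * m + 1)) (hk : 1 ≤ k)
    (hK : Fintype.card K = 2 ^ (2 * k + 1)) (φ : ↥(Cfsg.Sz K k) →* ↥(Cfsg.Sz F m))
    (hφ : Function.Injective φ) (hU : ∀ a b : K, φ (szTG hK a b) ∈ szU hF) :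
    ∃ g : ↥(Cfsg.Sz F m), (∀ a b : K, cjh g φ (szTG hK a b) ∈ szU hF) ∧
      ∀ δ : Kˣ, ∃ ε : Fˣ, cjh g φ (szDG hK δ) = szDG hF ε := by
  have hDne : ∀ δ : Kˣ, δ ≠ 1 → φ (szDG hK δ) ≠ 1 := by
    intro δ hδ h
    have h1 : szDG hK δ = 1 := hφ (by rw [h, map_one])
    rw [← szDG_one hK] at h1
    have h2 : szD K k δ = szD K k 1 := congrArg Subtype.val h1
    exact hδ (szD_inj h2)
  have hfixD : ∀ δ : Kˣ, ((φ (szDG hK δ) : ↥(Cfsg.Sz F m)) :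
      Matrix.SpecialLinearGroup (Fin 4) F) • Cfsg.suzukiPointInfinity F =
      Cfsg.suzukiPointInfinity F := by
    intro δ
    obtain ⟨⟨a₀, b₀⟩, hab₀⟩ := hU 0 1
    have hab₀' : szTG hF a₀ b₀ = φ (szTG hK 0 1) := hab₀
    have hne : a₀ ≠ 0 ∨ b₀ ≠ 0 := by
      by_contra hcon
      push_neg at hcon
      rw [hcon.1, hcon.2, szTG_one hF] at hab₀'
      have h1 : szTG hK 0 1 = 1 := hφ (by rw [← hab₀', map_one])
      rw [← szTG_one hK] at h1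
      exact one_ne_zero (szTG_inj hK h1).2
    have hDH : szDG hK δ ∈ szH K k := by
      show szD K k δ • Cfsg.suzukiPointInfinity K = Cfsg.suzukiPointInfinity K
      exact szD_inf δ
    obtain ⟨⟨a₁, b₁⟩, hab₁⟩ :=
      szU_conj_mem hk hK hDH (⟨(0, 1), rfl⟩ : szTG hK 0 1 ∈ szU hK)
    have hab₁' : szTG hK a₁ b₁ = szDG hK δ * szTG hK 0 1 * (szDG hK δ)⁻¹ := hab₁
    obtain ⟨⟨a₂, b₂⟩, hab₂⟩ := hU a₁ b₁
    have hab₂' : szTG hF a₂ b₂ = φ (szTG hK a₁ b₁) := hab₂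
    apply sz_conj_U_fix hF hne (a' := a₂) (b' := b₂)
    rw [hab₂', hab₁', hab₀', map_mul, map_mul, map_inv]
  obtain ⟨x₀, hx₀0, hx₀1⟩ := sz_exists_ne hk hK
  obtain ⟨δ₀, hδ₀⟩ : ∃ δ₀ : Kˣ, (δ₀ : K) = x₀ := ⟨Units.mk0 x₀ hx₀0, rfl⟩
  have hδ₀1 : δ₀ ≠ 1 := by
    intro h
    apply hx₀1
    rw [← hδ₀, h, Units.val_one]
  obtain ⟨c, d, δ₁, hdec, -⟩ := sz_borel_decomp hm hF _ (hfixD δ₀)
  have hδ₁ : δ₁ ≠ 1 := by
    intro h
    rw [h, szDG_one, mul_one] at hdec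
    have h4 : φ (szDG hK δ₀) ^ 4 = 1 := by
      rw [hdec]
      exact szTG_pow4 hF c d
    have hs : φ (szDG hK δ₀) ^ (2 ^ (2 * k + 1) - 1) = 1 := by
      rw [← map_pow, sz_torus_pow hK, map_one]
    have hodd : ¬ 2 ∣ 2 ^ (2 * k + 1) - 1 := by
      have e2 : 2 ^ (2 * k + 1) = 2 * 2 ^ (2 * k) := by ring
      have hpos : 0 < 2 ^ (2 * k) := by positivity
      omega
    exact hDne _ hδ₀1 (pow4_pow_odd_one22 h4 hs hodd)
  obtain ⟨x₁, y₁, hfix⟩ := sz_borel_fix hF c d δ₁ hδ₁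
  have hdec' : ((φ (szDG hK δ₀) : ↥(Cfsg.Sz F m)) :
      Matrix.SpecialLinearGroup (Fin 4) F) = szT F m c d * szD F m δ₁ :=
    congrArg Subtype.val hdec
  have huU : szTG hF x₁ y₁ ∈ szU hF := ⟨(x₁, y₁), rfl⟩
  have hU' : ∀ a b : K, cjh (szTG hF x₁ y₁)⁻¹ φ (szTG hK a b) ∈ szU hF := by
    intro a b
    rw [cjh_apply]
    exact (szU hF).mul_mem ((szU hF).mul_mem ((szU hF).inv_mem huU) (hU a b))
      ((szU hF).inv_mem ((szU hF).inv_mem huU))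
  have hinf0 : ((cjh (szTG hF x₁ y₁)⁻¹ φ (szDG hK δ₀) : ↥(Cfsg.Sz F m)) :
      Matrix.SpecialLinearGroup (Fin 4) F) • Cfsg.suzukiPointInfinity F =
      Cfsg.suzukiPointInfinity F := by
    show ((szT F m x₁ y₁)⁻¹ * ((φ (szDG hK δ₀) : ↥(Cfsg.Sz F m)) :
      Matrix.SpecialLinearGroup (Fin 4) F) * (szT F m x₁ y₁)⁻¹⁻¹) • _ = _
    rw [inv_inv, mul_smul, mul_smul, szT_inf, hfixD, inv_smul_eq_iff, szT_inf]
  have h0 : ((cjh (szTG hF x₁ y₁)⁻¹ φ (szDG hK δ₀) : ↥(Cfsg.Sz F m)) :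
      Matrix.SpecialLinearGroup (Fin 4) F) • Cfsg.suzukiPointZero F =
      Cfsg.suzukiPointZero F := by
    show ((szT F m x₁ y₁)⁻¹ * ((φ (szDG hK δ₀) : ↥(Cfsg.Sz F m)) :
      Matrix.SpecialLinearGroup (Fin 4) F) * (szT F m x₁ y₁)⁻¹⁻¹) • _ = _
    rw [inv_inv, mul_smul, mul_smul, szT_zero hF, hdec', hfix, inv_smul_eq_iff, szT_zero hF]
  obtain ⟨δ₂, hδ₂⟩ := sz_two_pt hm hF (cjh (szTG hF x₁ y₁)⁻¹ φ (szDG hK δ₀)).2 hinf0 h0
  have hδ₂' : cjh (szTG hF x₁ y₁)⁻¹ φ (szDG hK δ₀) = szDG hF δ₂ := Subtype.ext hδ₂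
  have hδ₂1 : δ₂ ≠ 1 := by
    intro h
    rw [h, szDG_one] at hδ₂'
    have h1 : szDG hK δ₀ = 1 := cjh_inj (szTG hF x₁ y₁)⁻¹ hφ (by rw [hδ₂', map_one])
    rw [← szDG_one hK] at h1
    have h2 : szD K k δ₀ = szD K k 1 := congrArg Subtype.val h1
    exact hδ₀1 (szD_inj h2)
  refine ⟨(szTG hF x₁ y₁)⁻¹, hU', fun δ => ?_⟩
  apply sz_cent_torus hm hF δ₂ hδ₂1
  rw [← hδ₂', ← map_mul, ← map_mul, szDG_mul, szDG_mul, mul_comm δ δ₀]

theorem sub_N3 (hm : 1 ≤ m) (hF : Fintype.card F = 2 ^ (2 * m + 1)) (hk : 1 ≤ k)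
    (hK : Fintype.card K = 2 ^ (2 * k + 1)) (φ : ↥(Cfsg.Sz K k) →* ↥(Cfsg.Sz F m))
    (hφ : Function.Injective φ) (hU : ∀ a b : K, φ (szTG hK a b) ∈ szU hF)
    (hD : ∀ δ : Kˣ, ∃ ε : Fˣ, φ (szDG hK δ) = szDG hF ε) :
    ∃ g : ↥(Cfsg.Sz F m), (∀ a b : K, cjh g φ (szTG hK a b) ∈ szU hF) ∧
      (∀ δ : Kˣ, ∃ ε : Fˣ, cjh g φ (szDG hK δ) = szDG hF ε) ∧
      ∃ b₀ : F, cjh g φ (szTG hK 1 0) = szTG hF 1 b₀ := by
  have hθ := szθ_spec hF
  have hθK := szθ_spec hK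
  obtain ⟨⟨a, b⟩, hab⟩ := hU 1 0
  have hab' : szTG hF a b = φ (szTG hK 1 0) := hab
  have ha : a ≠ 0 := by
    intro h0
    have h1 : φ (szTG hK 1 0 * szTG hK 1 0) = 1 := by
      rw [map_mul, ← hab', szTG_sq, h0, mul_zero]
      exact szTG_one hF
    have h2 : szTG hK 1 0 * szTG hK 1 0 = 1 := hφ (by rw [h1, map_one])
    rw [szTG_sq, ← szTG_one hK] at h2
    have h3 := (szTG_inj hK h2).2
    rw [hθK.hone, mul_one] at h3
    exact one_ne_zero h3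
  obtain ⟨η, hη⟩ : ∃ η : Fˣ, (η : F) * a = 1 := ⟨(Units.mk0 a ha)⁻¹, by
    rw [Units.val_inv_eq_inv_val, Units.val_mk0]
    exact inv_mul_cancel₀ ha⟩
  have hηH : szDG hF η ∈ szH F m := by
    show szD F m η • Cfsg.suzukiPointInfinity F = Cfsg.suzukiPointInfinity F
    exact szD_inf η
  refine ⟨szDG hF η, ?_, ?_, ?_⟩
  · intro a' b'
    rw [cjh_apply]
    exact szU_conj_mem hm hF hηH (hU a' b')
  · intro δ
    obtain ⟨ε, hε⟩ := hD δ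
    refine ⟨ε, ?_⟩
    rw [cjh_apply, hε, szDG_mul, mul_comm η ε, ← szDG_mul, mul_inv_cancel_right]
  · refine ⟨szθ F m η * η * b, ?_⟩
    rw [cjh_apply, ← hab']
    have e : szDG hF η * szTG hF a b = szTG hF (η * a) (szθ F m η * η * b) * szDG hF η :=
      Subtype.ext (szD_T hF η a b)
    rw [e, mul_inv_cancel_right, hη]

theorem sub_N45 (hm : 1 ≤ m) (hF : Fintype.card F = 2 ^ (2 * m + 1)) (hk : 1 ≤ k)
    (hK : Fintype.card K = 2 ^ (2 * k + 1)) (φ : ↥(Cfsg.Sz K k) →* ↥(Cfsg.Sz F m))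
    (hφ : Function.Injective φ) (hU : ∀ a b : K, φ (szTG hK a b) ∈ szU hF)
    (hD : ∀ δ : Kˣ, ∃ ε : Fˣ, φ (szDG hK δ) = szDG hF ε)
    {b₀ : F} (hT : φ (szTG hK 1 0) = szTG hF 1 b₀) :
    b₀ = 0 ∧ φ (szWG hK) = szWG hF := by
  have hθ := szθ_spec hF
  have hθK := szθ_spec hK
  obtain ⟨w, hw⟩ : ∃ w : ↥(Cfsg.Sz F m), w = φ (szWG hK) := ⟨_, rfl⟩
  obtain ⟨x₀, hx₀0, hx₀1⟩ := sz_exists_ne hk hK
  obtain ⟨δ₀, hδ₀⟩ : ∃ δ₀ : Kˣ, (δ₀ : K) = x₀ := ⟨Units.mk0 x₀ hx₀0, rfl⟩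
  have hδ₀inv : δ₀⁻¹ ≠ δ₀ := by
    intro h
    have h1 : δ₀ * δ₀ = 1 := by
      have h0 := inv_mul_cancel δ₀
      rwa [h] at h0
    have h2 : x₀ * x₀ = 1 := by
      have h0 := congrArg Units.val h1
      rwa [Units.val_mul, Units.val_one, hδ₀] at h0
    have h3 : (x₀ + 1) * (x₀ + 1) = 0 := by linear_combination h2 + (x₀ + 1) * hθK.h2
    have h4 : x₀ + 1 = 0 := mul_self_eq_zero.mp h3
    apply hx₀1
    linear_combination h4 - hθK.h2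
  have hδ₀inv1 : δ₀⁻¹ ≠ 1 := by
    intro h
    apply hδ₀inv
    rw [h]
    exact (inv_eq_one.mp h).symm
  obtain ⟨ε₀, hε₀⟩ := hD δ₀
  obtain ⟨ε₁, hε₁⟩ := hD δ₀⁻¹
  have hε₁1 : ε₁ ≠ 1 := by
    intro h
    rw [h, szDG_one] at hε₁
    have h1 : szDG hK δ₀⁻¹ = 1 := hφ (by rw [hε₁, map_one])
    rw [← szDG_one hK] at h1
    have h2 : szD K k δ₀⁻¹ = szD K k 1 := congrArg Subtype.val h1
    exact hδ₀inv1 (szD_inj h2)
  have hne : ε₀ ≠ ε₁ := by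
    intro h
    have h1 : φ (szDG hK δ₀) = φ (szDG hK δ₀⁻¹) := by rw [hε₀, hε₁, h]
    have h2 := hφ h1
    have h3 : szD K k δ₀ = szD K k δ₀⁻¹ := congrArg Subtype.val h2
    exact hδ₀inv (szD_inj h3).symm
  have hrel : w * szDG hF ε₀ = szDG hF ε₁ * w := by
    rw [hw, ← hε₀, ← hε₁, ← map_mul, ← map_mul]
    congr 1
    exact Subtype.ext (szW_D hθK.h2 δ₀)
  have hrel' : (w : Matrix.SpecialLinearGroup (Fin 4) F) * szD F m ε₀ =
      szD F m ε₁ * (w : Matrix.SpecialLinearGroup (Fin 4) F) := congrArg Subtype.val hrel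
  have hfixD : ∀ p ∈ Cfsg.suzukiOvoid F m, szD F m ε₁ • p = p →
      p = Cfsg.suzukiPointInfinity F ∨ p = Cfsg.suzukiPointZero F := by
    intro p hp hfix
    rcases sz_mem_ovoid_iff.mp hp with h | ⟨x, y, rfl⟩
    · exact Or.inl h
    · right
      by_contra hcon
      apply hε₁1
      refine szD_fix hF ?_ hfix
      intro hxy
      apply hcon
      rw [hxy.1, hxy.2]
      exact szPt_zero hF
  have hw_inf : szD F m ε₁ • ((w : Matrix.SpecialLinearGroup (Fin 4) F) •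
      Cfsg.suzukiPointInfinity F) =
      (w : Matrix.SpecialLinearGroup (Fin 4) F) • Cfsg.suzukiPointInfinity F := by
    rw [← mul_smul, ← hrel', mul_smul, szD_inf]
  have hw_zero : szD F m ε₁ • ((w : Matrix.SpecialLinearGroup (Fin 4) F) •
      Cfsg.suzukiPointZero F) =
      (w : Matrix.SpecialLinearGroup (Fin 4) F) • Cfsg.suzukiPointZero F := by
    rw [← mul_smul, ← hrel', mul_smul, szD_zero]
  have h1 := hfixD _ (sz_smul_mem w.2 sz_inf_mem) hw_inf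
  have h2 := hfixD _ (sz_smul_mem w.2 (sz_zero_mem hF)) hw_zero
  have hiz : Cfsg.suzukiPointInfinity F ≠ Cfsg.suzukiPointZero F := by
    intro h
    have h0 := szPt_ne_inf (F := F) (m := m) 0 0
    rw [szPt_zero hF] at h0
    exact h0 h.symm
  have hwne : (w : Matrix.SpecialLinearGroup (Fin 4) F) • Cfsg.suzukiPointInfinity F ≠
      (w : Matrix.SpecialLinearGroup (Fin 4) F) • Cfsg.suzukiPointZero F :=
    fun h => hiz (smul_left_cancel _ h)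
  have hwinf : (w : Matrix.SpecialLinearGroup (Fin 4) F) • Cfsg.suzukiPointInfinity F =
      Cfsg.suzukiPointZero F := by
    rcases h1 with h1 | h1
    · exfalso
      have h2' : (w : Matrix.SpecialLinearGroup (Fin 4) F) • Cfsg.suzukiPointZero F =
          Cfsg.suzukiPointZero F := by
        rcases h2 with h2 | h2
        · exact absurd (h1.trans h2.symm) hwne
        · exact h2
      obtain ⟨δ', hδ'⟩ := sz_two_pt hm hF w.2 h1 h2'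
      rw [hδ', ← szD_mul, ← szD_mul] at hrel'
      have h3 := szD_inj hrel'
      exact hne (mul_left_cancel (h3.trans (mul_comm _ _)))
    · exact h1
  have hwzero : (w : Matrix.SpecialLinearGroup (Fin 4) F) • Cfsg.suzukiPointZero F =
      Cfsg.suzukiPointInfinity F := by
    rcases h2 with h2 | h2
    · exact h2
    · exact absurd (hwinf.trans h2.symm) hwne
  have hW2 : szW F (szθ_spec hF).h2 * szW F (szθ_spec hF).h2 = 1 := Subtype.ext ovW_sq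
  have hWw_inf : (szW F (szθ_spec hF).h2 * (w : Matrix.SpecialLinearGroup (Fin 4) F)) •
      Cfsg.suzukiPointInfinity F = Cfsg.suzukiPointInfinity F := by
    rw [mul_smul, hwinf, szW_zero' hF]
  have hWw_zero : (szW F (szθ_spec hF).h2 * (w : Matrix.SpecialLinearGroup (Fin 4) F)) •
      Cfsg.suzukiPointZero F = Cfsg.suzukiPointZero F := by
    rw [mul_smul, hwzero, szW_inf]
  obtain ⟨ε, hε⟩ := sz_two_pt hm hF (mul_mem (szW_mem hF) w.2) hWw_inf hWw_zero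
  have hwSL : (w : Matrix.SpecialLinearGroup (Fin 4) F) =
      szW F (szθ_spec hF).h2 * szD F m ε := by
    rw [← hε, ← mul_assoc, hW2, one_mul]
  -- the Bruhat form of `W T(0,1) W` in the small group
  have hKpt : ((szWG hK * szTG hK 0 1 * szWG hK : ↥(Cfsg.Sz K k)) :
      Matrix.SpecialLinearGroup (Fin 4) K) • Cfsg.suzukiPointInfinity K = szPt K k 1 0 := by
    show (szW K (szθ_spec hK).h2 * szT K k 0 1 * szW K (szθ_spec hK).h2) • _ = _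
    rw [mul_smul, mul_smul, szW_inf, szT_zero hK, szW_pt0 hK one_ne_zero, hθK.hone, inv_one,
      mul_one]
  have hKfix : (((szTG hK 1 0 * szWG hK)⁻¹ * (szWG hK * szTG hK 0 1 * szWG hK) :
      ↥(Cfsg.Sz K k)) : Matrix.SpecialLinearGroup (Fin 4) K) • Cfsg.suzukiPointInfinity K =
      Cfsg.suzukiPointInfinity K := by
    show ((szT K k 1 0 * szW K (szθ_spec hK).h2)⁻¹ *
      ((szWG hK * szTG hK 0 1 * szWG hK : ↥(Cfsg.Sz K k)) :
        Matrix.SpecialLinearGroup (Fin 4) K)) • _ = _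
    rw [mul_smul, hKpt, inv_smul_eq_iff, mul_smul, szW_inf, szT_zero hK]
  obtain ⟨c, d, δ', hdec, -⟩ := sz_borel_decomp hk hK _ hKfix
  have hid : szWG hK * szTG hK 0 1 * szWG hK =
      szTG hK 1 0 * szWG hK * (szTG hK c d * szDG hK δ') := by
    rw [← hdec]
    group
  have hT01 : φ (szTG hK 0 1) = szTG hF 0 1 := by
    have e : szTG hK 0 1 = szTG hK 1 0 * szTG hK 1 0 := by
      rw [szTG_sq, hθK.hone, mul_one]
    rw [e, map_mul, hT, szTG_sq, hθ.hone, mul_one]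
  obtain ⟨⟨a', b'⟩, hab'⟩ := hU c d
  have hab'' : szTG hF a' b' = φ (szTG hK c d) := hab'
  obtain ⟨ε'', hε''⟩ := hD δ'
  have hE : w * szTG hF 0 1 * w = szTG hF 1 b₀ * w * (szTG hF a' b' * szDG hF ε'') := by
    rw [hw, ← hT01, ← hT, hab'', ← hε'', ← map_mul, ← map_mul, ← map_mul, ← map_mul,
      ← map_mul, hid]
  have hE' : (w : Matrix.SpecialLinearGroup (Fin 4) F) * szT F m 0 1 *
      (w : Matrix.SpecialLinearGroup (Fin 4) F) =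
      szT F m 1 b₀ * (w : Matrix.SpecialLinearGroup (Fin 4) F) *
        (szT F m a' b' * szD F m ε'') := congrArg Subtype.val hE
  have hN : szθ F m (ε : F) * ε ≠ 0 :=
    mul_ne_zero (fun h => ε.ne_zero (ov_theta_inj0 _ hθ.hadd hθ.hsq h)) ε.ne_zero
  have hL : ((w : Matrix.SpecialLinearGroup (Fin 4) F) * szT F m 0 1 *
      (w : Matrix.SpecialLinearGroup (Fin 4) F)) • Cfsg.suzukiPointInfinity F =
      szPt F m (szθ F m (ε : F) * ε * (szθ F m (szθ F m (ε : F) * ε))⁻¹) 0 := by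
    rw [mul_smul, mul_smul, hwinf, szT_zero hF, hwSL, mul_smul, szD_pt hF, mul_zero, mul_one,
      szW_pt0 hF hN]
  have hR : (szT F m 1 b₀ * (w : Matrix.SpecialLinearGroup (Fin 4) F) *
      (szT F m a' b' * szD F m ε'')) • Cfsg.suzukiPointInfinity F = szPt F m 1 b₀ := by
    rw [mul_smul, mul_smul, mul_smul, szD_inf, szT_inf, hwinf, szT_zero hF]
  have hpt : szPt F m (szθ F m (ε : F) * ε * (szθ F m (szθ F m (ε : F) * ε))⁻¹) 0 =
      szPt F m 1 b₀ := by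
    rw [← hL, hE', hR]
  obtain ⟨e1, e2⟩ := szPt_inj hpt
  have hθN : szθ F m (szθ F m (ε : F) * ε) ≠ 0 :=
    fun h => hN (ov_theta_inj0 _ hθ.hadd hθ.hsq h)
  have e3 : szθ F m (ε : F) * ε = szθ F m (szθ F m (ε : F) * ε) := by
    calc szθ F m (ε : F) * ε
        = szθ F m (ε : F) * ε * ((szθ F m (szθ F m (ε : F) * ε))⁻¹ *
            szθ F m (szθ F m (ε : F) * ε)) := by rw [inv_mul_cancel₀ hθN, mul_one]
      _ = (szθ F m (ε : F) * ε * (szθ F m (szθ F m (ε : F) * ε))⁻¹) *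
            szθ F m (szθ F m (ε : F) * ε) := by ring
      _ = szθ F m (szθ F m (ε : F) * ε) := by rw [e1, one_mul]
  have e4 : (szθ F m (ε : F) * ε) ^ 2 = szθ F m (ε : F) * ε := by
    rw [← hθ.hsq, ← e3, ← e3]
  have e5 : szθ F m (ε : F) * ε = 1 := by
    have h6 : (szθ F m (ε : F) * ε) * (szθ F m (ε : F) * ε - 1) = 0 := by
      linear_combination e4
    rcases mul_eq_zero.mp h6 with h7 | h7
    · exact absurd h7 hN
    · linear_combination h7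
  have e6 : (ε : F) = 1 := by
    apply sz_norm_inj hF
    rw [e5, hθ.hone, mul_one]
  have e7 : ε = 1 := Units.ext e6
  refine ⟨e2.symm, ?_⟩
  rw [← hw]
  apply Subtype.ext
  show (w : Matrix.SpecialLinearGroup (Fin 4) F) = szW F (szθ_spec hF).h2
  rw [hwSL, e7, szD_one, mul_one]

theorem sub_final (hk : 1 ≤ k) (hK : Fintype.card K = 2 ^ (2 * k + 1))
    (φ : ↥(Cfsg.Sz K k) →* ↥(Cfsg.Sz F m)) (S : Subgroup ↥(Cfsg.Sz F m))
    (hT : φ (szTG hK 1 0) ∈ S) (hW : φ (szWG hK) ∈ S)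
    (hD : ∀ δ : Kˣ, φ (szDG hK δ) ∈ S) : ∀ h : ↥(Cfsg.Sz K k), φ h ∈ S := by
  have hθK := szθ_spec hK
  have hT01 : φ (szTG hK 0 1) ∈ S := by
    have e : szTG hK 0 1 = szTG hK 1 0 * szTG hK 1 0 := by
      rw [szTG_sq, hθK.hone, mul_one]
    rw [e, map_mul]
    exact S.mul_mem hT hT
  have hconjD : ∀ (δ : Kˣ) (a b : K), szTG hK (δ * a) (szθ K k δ * δ * b) =
      szDG hK δ * szTG hK a b * (szDG hK δ)⁻¹ := by
    intro δ a b
    have e : szDG hK δ * szTG hK a b =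
        szTG hK (δ * a) (szθ K k δ * δ * b) * szDG hK δ := Subtype.ext (szD_T hK δ a b)
    rw [e, mul_inv_cancel_right]
  have hT0 : ∀ c : K, φ (szTG hK 0 c) ∈ S := by
    intro c
    by_cases hc : c = 0
    · rw [hc, szTG_one hK, map_one]
      exact S.one_mem
    · obtain ⟨x, hx⟩ := sz_norm_surj hK c
      have hx0 : x ≠ 0 := by
        rintro rfl
        apply hc
        rw [← hx, mul_zero]
      have e := hconjD (Units.mk0 x hx0) 0 1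
      rw [Units.val_mk0, mul_zero, mul_one, hx] at e
      rw [e, map_mul, map_mul, map_inv]
      exact S.mul_mem (S.mul_mem (hD _) hT01) (S.inv_mem (hD _))
  have hTall : ∀ a b : K, φ (szTG hK a b) ∈ S := by
    intro a b
    by_cases ha : a = 0
    · rw [ha]
      exact hT0 b
    · have hN : szθ K k a * a ≠ 0 :=
        mul_ne_zero (fun h => ha (ov_theta_inj0 _ hθK.hadd hθK.hsq h)) ha
      obtain ⟨b'', hb''⟩ : ∃ b'' : K, szθ K k a * a * b'' = b :=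
        ⟨(szθ K k a * a)⁻¹ * b, by rw [← mul_assoc, mul_inv_cancel₀ hN, one_mul]⟩
      have e1 : szTG hK 1 b'' = szTG hK 1 0 * szTG hK 0 b'' := by
        rw [szTG_mul, zero_add, add_zero, mul_zero, add_zero]
      have e := hconjD (Units.mk0 a ha) 1 b''
      rw [Units.val_mk0, mul_one, hb''] at e
      rw [e, e1, map_mul, map_mul, map_mul, map_inv]
      exact S.mul_mem (S.mul_mem (hD _) (S.mul_mem hT (hT0 _))) (S.inv_mem (hD _))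
  intro h
  rcases sz_bruhat hk hK h with ⟨c, d, δ, rfl⟩ | ⟨x, y, c, d, δ, rfl⟩
  · rw [map_mul]
    exact S.mul_mem (hTall _ _) (hD _)
  · rw [map_mul, map_mul, map_mul]
    exact S.mul_mem (S.mul_mem (hTall _ _) hW) (S.mul_mem (hTall _ _) (hD _))

theorem sub_conj_main (hm : 1 ≤ m) (hF : Fintype.card F = 2 ^ (2 * m + 1)) (hk : 1 ≤ k)
    (hK : Fintype.card K = 2 ^ (2 * k + 1)) (φ : ↥(Cfsg.Sz K k) →* ↥(Cfsg.Sz F m))
    (hφ : Function.Injective φ) (S : Subgroup ↥(Cfsg.Sz F m))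
    (hST : szTG hF 1 0 ∈ S) (hSW : szWG hF ∈ S)
    (hSD : ∀ ε : Fˣ, (ε : F) ^ (2 ^ (2 * k + 1) - 1) = 1 → szDG hF ε ∈ S) :
    ∃ g : ↥(Cfsg.Sz F m), ∀ h : ↥(Cfsg.Sz K k), g * φ h * g⁻¹ ∈ S := by
  obtain ⟨g₁, h1⟩ := sub_N1 hm hF hK φ
  obtain ⟨g₂, h2U, h2D⟩ := sub_N2 hm hF hk hK (cjh g₁ φ) (cjh_inj g₁ hφ) h1
  obtain ⟨g₃, h3U, h3D, b₀, h3T⟩ := sub_N3 hm hF hk hK (cjh g₂ (cjh g₁ φ))
    (cjh_inj g₂ (cjh_inj g₁ hφ)) h2U h2D
  obtain ⟨hb₀, hW⟩ := sub_N45 hm hF hk hK (cjh g₃ (cjh g₂ (cjh g₁ φ)))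
    (cjh_inj g₃ (cjh_inj g₂ (cjh_inj g₁ hφ))) h3U h3D h3T
  have hfin := sub_final hk hK (cjh g₃ (cjh g₂ (cjh g₁ φ))) S
    (by rw [h3T, hb₀]; exact hST) (by rw [hW]; exact hSW) (by
      intro δ
      obtain ⟨ε, hε⟩ := h3D δ
      rw [hε]
      apply hSD
      have e1 : szDG hF ε ^ (2 ^ (2 * k + 1) - 1) = 1 := by
        rw [← hε, ← map_pow, sz_torus_pow hK δ, map_one]
      rw [szDG_pow, ← szDG_one hF] at e1
      have e1' : szD F m (ε ^ (2 ^ (2 * k + 1) - 1)) = szD F m 1 := congrArg Subtype.val e1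
      have e2 : ε ^ (2 ^ (2 * k + 1) - 1) = 1 := szD_inj e1'
      have e3 := congrArg Units.val e2
      rw [Units.val_pow_eq_pow_val, Units.val_one] at e3
      exact e3)
  refine ⟨g₃ * g₂ * g₁, fun h => ?_⟩
  have h5 := hfin h
  rw [cjh_apply, cjh_apply, cjh_apply] at h5
  have e : g₃ * g₂ * g₁ * φ h * (g₃ * g₂ * g₁)⁻¹ =
      g₃ * (g₂ * (g₁ * φ h * g₁⁻¹) * g₂⁻¹) * g₃⁻¹ := by group
  rw [e]
  exact h5

theorem sz_subfield (hm : 1 ≤ m) (hF : Fintype.card F = 2 ^ (2 * m + 1)) (hk : 1 ≤ k)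
    (hK : Fintype.card K = 2 ^ (2 * k + 1)) (hdiv : 2 * k + 1 ∣ 2 * m + 1) :
    (∃ S : Subgroup ↥(Cfsg.Sz F m), Nonempty (↥S ≃* ↥(Cfsg.Sz K k))) ∧
    ∀ S₁ S₂ : Subgroup ↥(Cfsg.Sz F m), Nonempty (↥S₁ ≃* ↥(Cfsg.Sz K k)) →
      Nonempty (↥S₂ ≃* ↥(Cfsg.Sz K k)) →
      ∃ g : ↥(Cfsg.Sz F m), S₂ = S₁.map (MulAut.conj g).toMonoidHom := by
  obtain ⟨Ψ, hΨ, hΨT, hΨW, hΨD⟩ := sz_sub_hom hm hF hk hK hdiv
  refine ⟨⟨Ψ.range, ⟨(MonoidHom.ofInjective hΨ).symm⟩⟩, ?_⟩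
  have hST : szTG hF 1 0 ∈ Ψ.range := ⟨_, hΨT⟩
  have hSW : szWG hF ∈ Ψ.range := ⟨_, hΨW⟩
  have hSD : ∀ ε : Fˣ, (ε : F) ^ (2 ^ (2 * k + 1) - 1) = 1 → szDG hF ε ∈ Ψ.range := by
    intro ε hε
    obtain ⟨δ, hδ⟩ := hΨD ε hε
    exact ⟨_, hδ⟩
  have hcardR : Nat.card ↥Ψ.range = Nat.card ↥(Cfsg.Sz K k) :=
    Nat.card_congr (MonoidHom.ofInjective hΨ).toEquiv.symm
  have key : ∀ S : Subgroup ↥(Cfsg.Sz F m), Nonempty (↥S ≃* ↥(Cfsg.Sz K k)) →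
      ∃ g : ↥(Cfsg.Sz F m), S.map (MulAut.conj g).toMonoidHom = Ψ.range := by
    rintro S ⟨e⟩
    obtain ⟨φ, hφdef⟩ : ∃ φ : ↥(Cfsg.Sz K k) →* ↥(Cfsg.Sz F m),
        ∀ h, φ h = ((e.symm h : ↥S) : ↥(Cfsg.Sz F m)) :=
      ⟨S.subtype.comp e.symm.toMonoidHom, fun h => rfl⟩
    have hφ : Function.Injective φ := by
      intro a b hab
      rw [hφdef, hφdef] at hab
      exact e.symm.injective (Subtype.ext hab)
    obtain ⟨g, hg⟩ := sub_conj_main hm hF hk hK φ hφ Ψ.range hST hSW hSD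
    refine ⟨g, ?_⟩
    apply Subgroup.eq_of_le_of_card_ge
    · rintro x ⟨y, hy, rfl⟩
      have e1 : y = φ (e ⟨y, hy⟩) := by rw [hφdef, e.symm_apply_apply]
      show g * y * g⁻¹ ∈ Ψ.range
      rw [e1]
      exact hg _
    · have hc : Nat.card ↥(S.map (MulAut.conj g).toMonoidHom) = Nat.card ↥S :=
        (Nat.card_congr (Subgroup.equivMapOfInjective S _
          (MulAut.conj g).injective).toEquiv).symm
      have hc2 : Nat.card ↥S = Nat.card ↥(Cfsg.Sz K k) := Nat.card_congr e.toEquiv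
      exact le_of_eq (by rw [hcardR, hc, hc2])
  intro S₁ S₂ h₁ h₂
  obtain ⟨g₁, hg₁⟩ := key S₁ h₁
  obtain ⟨g₂, hg₂⟩ := key S₂ h₂
  refine ⟨g₂⁻¹ * g₁, ?_⟩
  ext x
  constructor
  · intro hx
    have h3 : g₂ * x * g₂⁻¹ ∈ Ψ.range := by
      rw [← hg₂]
      exact ⟨x, hx, rfl⟩
    rw [← hg₁] at h3
    obtain ⟨y, hy, hyx⟩ := h3
    have hyx' : g₁ * y * g₁⁻¹ = g₂ * x * g₂⁻¹ := hyx
    refine ⟨y, hy, ?_⟩
    show g₂⁻¹ * g₁ * y * (g₂⁻¹ * g₁)⁻¹ = x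
    have e : g₂⁻¹ * g₁ * y * (g₂⁻¹ * g₁)⁻¹ = g₂⁻¹ * (g₁ * y * g₁⁻¹) * g₂ := by group
    rw [e, hyx']
    group
  · rintro ⟨y, hy, rfl⟩
    have h3 : g₁ * y * g₁⁻¹ ∈ Ψ.range := by
      rw [← hg₁]
      exact ⟨y, hy, rfl⟩
    rw [← hg₂] at h3
    obtain ⟨z, hz, hzy⟩ := h3
    have hzy' : g₂ * z * g₂⁻¹ = g₁ * y * g₁⁻¹ := hzy
    have e : (MulAut.conj (g₂⁻¹ * g₁)).toMonoidHom y = z := by
      show g₂⁻¹ * g₁ * y * (g₂⁻¹ * g₁)⁻¹ = z
      have e' : g₂⁻¹ * g₁ * y * (g₂⁻¹ * g₁)⁻¹ = g₂⁻¹ * (g₁ * y * g₁⁻¹) * g₂ := by group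
      rw [e', ← hzy']
      group
    rw [e]
    exact hz

end SubConj

end Cfsg.Agent.Helper22
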