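import Cfsg.Agent.Helper22.SzZass

set_option autoImplicit false
set_option linter.style.haveILetI false
set_option linter.unusedSectionVars false
set_option linter.unusedSimpArgs false
set_option linter.unusedVariables false
set_option linter.unusedTactic false
set_option maxHeartbeats 1000000

open Cfsg
open Matrix
open scoped Pointwise
open scoped commutatorElement

namespace Cfsg.Agent.Helper22

theorem grp_center_map {A B : Type*} [Group A] [Group B] (e : A ≃* B) :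
    (Subgroup.center A).map e.toMonoidHom = Subgroup.center B := by
  ext x
  rw [Subgroup.mem_map, Subgroup.mem_center_iff]
  constructor
  · rintro ⟨z, hz, rfl⟩ g
    rw [Subgroup.mem_center_iff] at hz
    have h := congrArg e (hz (e.symm g))
    rw [map_mul, map_mul, e.apply_symm_apply] at h
    exact h
  · intro hx
    refine ⟨e.symm x, ?_, e.apply_symm_apply x⟩
    rw [Subgroup.mem_center_iff]
    intro g
    have h := congrArg e.symm (hx (e g))
    rw [map_mul, map_mul, e.symm_apply_apply] at h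
    exact h

theorem grp_commutator_map {A B : Type*} [Group A] [Group B] (e : A ≃* B) :
    (commutator A).map e.toMonoidHom = commutator B := by
  rw [commutator_def, commutator_def, Subgroup.map_commutator,
    Subgroup.map_top_of_surjective _ e.surjective]

theorem sz_odd_part (m : ℕ) :
    Odd (((2 ^ (2 * m + 1)) ^ 2 + 1) * (2 ^ (2 * m + 1) - 1)) := by
  have hq : 2 ^ (2 * m + 1) = 2 * 2 ^ (2 * m) := by ring
  have hpos : 0 < 2 ^ (2 * m) := by positivity
  apply Odd.mul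
  · exact ⟨2 ^ (2 * m) * 2 ^ (2 * m + 1), by ring⟩
  · exact ⟨2 ^ (2 * m) - 1, by omega⟩

section SzSylow

variable {F : Type*} [Field F] [Fintype F] {m : ℕ}

theorem szTG_mul (hF : Fintype.card F = 2 ^ (2 * m + 1)) (a b c d : F) :
    szTG hF a b * szTG hF c d = szTG hF (c + a) (d + b + szθ F m a * c) :=
  Subtype.ext (szT_mul hF a b c d)

theorem szTG_one (hF : Fintype.card F = 2 ^ (2 * m + 1)) : szTG hF 0 0 = 1 :=
  Subtype.ext (szT_one hF)

theorem szTG_inv (hF : Fintype.card F = 2 ^ (2 * m + 1)) (a b : F) :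
    (szTG hF a b)⁻¹ = szTG hF a (b + a * szθ F m a) := by
  have hθ := szθ_spec hF
  apply inv_eq_of_mul_eq_one_right
  have e1 : a + a = 0 := by linear_combination a * hθ.h2
  have e2 : b + a * szθ F m a + b + szθ F m a * a = 0 := by
    linear_combination (b + a * szθ F m a) * hθ.h2
  rw [szTG_mul, e1, e2, szTG_one]

theorem szTG_inj (hF : Fintype.card F = 2 ^ (2 * m + 1)) {a b c d : F}
    (h : szTG hF a b = szTG hF c d) : a = c ∧ b = d := by
  have h1 : szT F m a b = szT F m c d := congrArg Subtype.val h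
  have h2 : szT F m a b • Cfsg.suzukiPointZero F = szT F m c d • Cfsg.suzukiPointZero F := by
    rw [h1]
  rw [szT_zero hF, szT_zero hF] at h2
  exact szPt_inj h2

/-- The translation subgroup. -/
def szU (hF : Fintype.card F = 2 ^ (2 * m + 1)) : Subgroup ↥(Cfsg.Sz F m) where
  carrier := Set.range (fun ab : F × F => szTG hF ab.1 ab.2)
  mul_mem' := by
    rintro _ _ ⟨⟨a, b⟩, rfl⟩ ⟨⟨c, d⟩, rfl⟩
    exact ⟨(c + a, d + b + szθ F m a * c), (szTG_mul hF a b c d).symm⟩
  one_mem' := ⟨(0, 0), szTG_one hF⟩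
  inv_mem' := by
    rintro _ ⟨⟨a, b⟩, rfl⟩
    exact ⟨(a, b + a * szθ F m a), (szTG_inv hF a b).symm⟩

/-- The elements of the translation subgroup. -/
def szUe (hF : Fintype.card F = 2 ^ (2 * m + 1)) (a b : F) : ↥(szU hF) :=
  ⟨szTG hF a b, ⟨(a, b), rfl⟩⟩

theorem szUe_mul (hF : Fintype.card F = 2 ^ (2 * m + 1)) (a b c d : F) :
    szUe hF a b * szUe hF c d = szUe hF (c + a) (d + b + szθ F m a * c) :=
  Subtype.ext (szTG_mul hF a b c d)

theorem szUe_one (hF : Fintype.card F = 2 ^ (2 * m + 1)) : szUe hF 0 0 = 1 :=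
  Subtype.ext (szTG_one hF)

theorem szUe_inj (hF : Fintype.card F = 2 ^ (2 * m + 1)) {a b c d : F}
    (h : szUe hF a b = szUe hF c d) : a = c ∧ b = d :=
  szTG_inj hF (congrArg Subtype.val h)

theorem szUe_surj (hF : Fintype.card F = 2 ^ (2 * m + 1)) (u : ↥(szU hF)) :
    ∃ a b, u = szUe hF a b := by
  obtain ⟨u, ⟨⟨a, b⟩, rfl⟩⟩ := u
  exact ⟨a, b, rfl⟩

theorem szU_card (hF : Fintype.card F = 2 ^ (2 * m + 1)) :
    Nat.card ↥(szU hF) = (2 ^ (2 * m + 1)) ^ 2 := by
  have hbij : Function.Bijective (fun ab : F × F => szUe hF ab.1 ab.2) := by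
    constructor
    · rintro ⟨a, b⟩ ⟨c, d⟩ h
      obtain ⟨h1, h2⟩ := szUe_inj hF h
      exact Prod.ext h1 h2
    · intro u
      obtain ⟨a, b, rfl⟩ := szUe_surj hF u
      exact ⟨(a, b), rfl⟩
  rw [← Nat.card_congr (Equiv.ofBijective _ hbij), Nat.card_prod, Nat.card_eq_fintype_card, hF]
  ring

theorem szUe_sq (hF : Fintype.card F = 2 ^ (2 * m + 1)) (a b : F) :
    szUe hF a b ^ 2 = szUe hF 0 (szθ F m a * a) := by
  have hθ := szθ_spec hF
  rw [pow_two, szUe_mul]
  have e1 : a + a = 0 := by linear_combination a * hθ.h2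
  have e3 : b + b + szθ F m a * a = szθ F m a * a := by linear_combination b * hθ.h2
  rw [e1, e3]

theorem szU_exponent (hF : Fintype.card F = 2 ^ (2 * m + 1)) :
    Monoid.exponent ↥(szU hF) = 4 := by
  have hθ := szθ_spec hF
  have hθ0 := ov_theta_zero _ hθ.hadd
  have h4 : ∀ u : ↥(szU hF), u ^ 4 = 1 := by
    intro u
    obtain ⟨a, b, rfl⟩ := szUe_surj hF u
    have e4 : szUe hF a b ^ 4 = (szUe hF a b ^ 2) ^ 2 := by rw [← pow_mul]
    rw [e4, szUe_sq, szUe_sq, hθ0, zero_mul, szUe_one]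
  have hdvd : Monoid.exponent ↥(szU hF) ∣ 4 := Monoid.exponent_dvd_of_forall_pow_eq_one h4
  have hnot : ¬ Monoid.exponent ↥(szU hF) ∣ 2 := by
    rintro ⟨k, hk⟩
    have h1 : szUe hF 1 0 ^ 2 = 1 := by
      calc szUe hF 1 0 ^ 2 = szUe hF 1 0 ^ (Monoid.exponent ↥(szU hF) * k) :=
            congrArg (fun n => szUe hF 1 0 ^ n) hk
        _ = 1 := by rw [pow_mul, Monoid.pow_exponent_eq_one, one_pow]
    rw [szUe_sq, ← szUe_one hF] at h1
    have h2 := (szUe_inj hF h1).2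
    rw [hθ.hone] at h2
    have h3 : (1 : F) = 0 := by linear_combination h2
    exact one_ne_zero h3
  have h5 : Monoid.exponent ↥(szU hF) ∣ 2 ^ 2 := hdvd
  obtain ⟨k, hk, hk'⟩ := (Nat.dvd_prime_pow Nat.prime_two).mp h5
  interval_cases k
  · exact absurd (show Monoid.exponent ↥(szU hF) ∣ 2 by rw [hk']; norm_num) hnot
  · exact absurd (show Monoid.exponent ↥(szU hF) ∣ 2 by rw [hk']; norm_num) hnot
  · rw [hk']; norm_num

theorem szU_center_iff (hm : 1 ≤ m) (hF : Fintype.card F = 2 ^ (2 * m + 1)) (u : ↥(szU hF)) :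
    u ∈ Subgroup.center ↥(szU hF) ↔ ∃ b, u = szUe hF 0 b := by
  have hθ := szθ_spec hF
  have hθ0 := ov_theta_zero _ hθ.hadd
  constructor
  · intro hu
    obtain ⟨a, b, rfl⟩ := szUe_surj hF u
    rw [Subgroup.mem_center_iff] at hu
    have key : ∀ c : F, szθ F m a * c = szθ F m c * a := by
      intro c
      have h := hu (szUe hF c 0)
      rw [szUe_mul, szUe_mul] at h
      have h2 := (szUe_inj hF h).2
      linear_combination -h2
    by_cases ha : a = 0
    · exact ⟨b, by rw [ha]⟩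
    · exfalso
      have h1 := key 1
      rw [hθ.hone] at h1
      have hθa : szθ F m a = a := by linear_combination h1
      obtain ⟨x, hx0, hx1⟩ := sz_exists_ne hm hF
      have h2 := key x
      rw [hθa] at h2
      have hθx : szθ F m x = x := by
        have e : a * (szθ F m x - x) = 0 := by linear_combination -h2
        rcases mul_eq_zero.mp e with h' | h'
        · exact absurd h' ha
        · linear_combination h'
      have h3 := hθ.hsq x
      rw [hθx, hθx] at h3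
      have e : x * (x - 1) = 0 := by linear_combination -h3
      rcases mul_eq_zero.mp e with h' | h'
      · exact hx0 h'
      · exact hx1 (sub_eq_zero.mp h')
  · rintro ⟨b, rfl⟩
    rw [Subgroup.mem_center_iff]
    intro g
    obtain ⟨c, d, rfl⟩ := szUe_surj hF g
    rw [szUe_mul, szUe_mul, hθ0]
    have e1 : (0 : F) + c = c + 0 := by ring
    have e2 : b + d + szθ F m c * 0 = d + b + 0 * c := by ring
    rw [e1, e2]

theorem szUe_comm (hF : Fintype.card F = 2 ^ (2 * m + 1)) (a b c d : F) :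
    ⁅szUe hF a b, szUe hF c d⁆ = szUe hF 0 (szθ F m a * c + szθ F m c * a) := by
  have hθ := szθ_spec hF
  have hθ0 := ov_theta_zero _ hθ.hadd
  rw [commutatorElement_def]
  have h1 : szUe hF a b * szUe hF c d =
      szUe hF 0 (szθ F m a * c + szθ F m c * a) * (szUe hF c d * szUe hF a b) := by
    rw [szUe_mul, szUe_mul, szUe_mul, hθ0]
    have e1 : c + a = a + c + 0 := by ring
    have e2 : d + b + szθ F m a * c =
        b + d + szθ F m c * a + (szθ F m a * c + szθ F m c * a) + 0 * (a + c) := by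
      linear_combination (-(szθ F m c * a)) * hθ.h2
    rw [e1, e2]
  rw [h1]
  group

theorem sz_comm_surj (hm : 1 ≤ m) (hF : Fintype.card F = 2 ^ (2 * m + 1)) (β : F) :
    ∃ a c : F, szθ F m a * c + szθ F m c * a = β := by
  have hθ := szθ_spec hF
  have hθ0 := ov_theta_zero _ hθ.hadd
  by_cases hβ : β = 0
  · exact ⟨0, 0, by rw [hθ0, hβ]; ring⟩
  obtain ⟨u, hu0, hu1⟩ := sz_exists_ne hm hF
  have hh : szθ F m u + u ≠ 0 := by
    intro h
    have hθu : szθ F m u = u := by linear_combination h - u * hθ.h2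
    have h3 := hθ.hsq u
    rw [hθu, hθu] at h3
    have e : u * (u - 1) = 0 := by linear_combination -h3
    rcases mul_eq_zero.mp e with h' | h'
    · exact hu0 h'
    · exact hu1 (sub_eq_zero.mp h')
  obtain ⟨t, ht⟩ : ∃ t : F, t = β / (szθ F m u + u) := ⟨_, rfl⟩
  have ht0 : t ≠ 0 := by rw [ht]; exact div_ne_zero hβ hh
  have hθt0 : szθ F m t ≠ 0 := fun h => ht0 (ov_theta_inj0 _ hθ.hadd hθ.hsq h)
  have htβ : t * (szθ F m u + u) = β := by rw [ht, div_mul_cancel₀ _ hh]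
  obtain ⟨c, hc⟩ : ∃ c : F, c = szθ F m t / t := ⟨_, rfl⟩
  have hθc : szθ F m c = t ^ 2 / szθ F m t := by
    have e : c * t = szθ F m t := by rw [hc, div_mul_cancel₀ _ ht0]
    have e2 := congrArg (szθ F m) e
    rw [hθ.hmul, hθ.hsq] at e2
    rw [eq_div_iff hθt0]
    exact e2
  have hcc : c * szθ F m c = t := by
    rw [hθc, hc, div_mul_div_comm, div_eq_iff (mul_ne_zero ht0 hθt0)]
    ring
  refine ⟨c * u, c, ?_⟩
  rw [hθ.hmul]
  linear_combination (szθ F m u + u) * hcc + htβ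

theorem szU_comm (hm : 1 ≤ m) (hF : Fintype.card F = 2 ^ (2 * m + 1)) :
    commutator ↥(szU hF) = Subgroup.center ↥(szU hF) := by
  apply le_antisymm
  · rw [commutator_def, Subgroup.commutator_le]
    intro u _ v _
    obtain ⟨a, b, rfl⟩ := szUe_surj hF u
    obtain ⟨c, d, rfl⟩ := szUe_surj hF v
    rw [szU_center_iff hm hF]
    exact ⟨_, szUe_comm hF a b c d⟩
  · intro z hz
    rw [szU_center_iff hm hF] at hz
    obtain ⟨β, rfl⟩ := hz
    obtain ⟨a, c, hac⟩ := sz_comm_surj hm hF β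
    have h1 : szUe hF 0 β = ⁅szUe hF a 0, szUe hF c 0⁆ := by
      rw [szUe_comm, hac]
    rw [h1, commutator_def]
    exact Subgroup.commutator_mem_commutator (Subgroup.mem_top _) (Subgroup.mem_top _)

theorem szU_center_card (hm : 1 ≤ m) (hF : Fintype.card F = 2 ^ (2 * m + 1)) :
    Nat.card (Subgroup.center ↥(szU hF)) = 2 ^ (2 * m + 1) := by
  have hbij : Function.Bijective (fun b : F =>
      (⟨szUe hF 0 b, (szU_center_iff hm hF _).mpr ⟨b, rfl⟩⟩ : Subgroup.center ↥(szU hF))) := by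
    constructor
    · intro b b' h
      exact (szUe_inj hF (congrArg Subtype.val h)).2
    · rintro ⟨z, hz⟩
      obtain ⟨b, rfl⟩ := (szU_center_iff hm hF z).mp hz
      exact ⟨b, rfl⟩
  rw [← Nat.card_congr (Equiv.ofBijective _ hbij), Nat.card_eq_fintype_card, hF]

theorem sz_sylow_conj (hm : 1 ≤ m) (hF : Fintype.card F = 2 ^ (2 * m + 1))
    (P : Sylow 2 ↥(Cfsg.Sz F m)) :
    ∃ Q : Sylow 2 ↥(Cfsg.Sz F m), (Q : Subgroup ↥(Cfsg.Sz F m)) = szU hF ∧
      ∃ g : ↥(Cfsg.Sz F m), g • Q = P := by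
  haveI : Fact (Nat.Prime 2) := ⟨Nat.prime_two⟩
  have hU2 : IsPGroup 2 ↥(szU hF) :=
    IsPGroup.of_card (n := 2 * (2 * m + 1)) (by rw [szU_card hF]; ring)
  obtain ⟨Q, hQ⟩ := hU2.exists_le_sylow
  obtain ⟨k, hk⟩ := IsPGroup.iff_card.mp Q.isPGroup'
  have h1 : Nat.card ↥(Q : Subgroup ↥(Cfsg.Sz F m)) ∣ Nat.card ↥(Cfsg.Sz F m) :=
    Subgroup.card_subgroup_dvd_card _
  have e : (2 ^ (2 * m + 1)) ^ 2 * ((2 ^ (2 * m + 1)) ^ 2 + 1) * (2 ^ (2 * m + 1) - 1) =
      (2 ^ (2 * m + 1)) ^ 2 * (((2 ^ (2 * m + 1)) ^ 2 + 1) * (2 ^ (2 * m + 1) - 1)) :=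
    Nat.mul_assoc _ _ _
  rw [sz_card hm hF, e] at h1
  have hcop : Nat.Coprime (Nat.card ↥(Q : Subgroup ↥(Cfsg.Sz F m)))
      (((2 ^ (2 * m + 1)) ^ 2 + 1) * (2 ^ (2 * m + 1) - 1)) := by
    rw [hk]
    exact Nat.Coprime.pow_left k (Nat.coprime_two_left.mpr (sz_odd_part m))
  have h2 : Nat.card ↥(Q : Subgroup ↥(Cfsg.Sz F m)) ∣ (2 ^ (2 * m + 1)) ^ 2 :=
    hcop.dvd_of_dvd_mul_right h1
  have h3 : (2 ^ (2 * m + 1)) ^ 2 ∣ Nat.card ↥(Q : Subgroup ↥(Cfsg.Sz F m)) := by
    rw [← szU_card hF]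
    exact Subgroup.card_dvd_of_le hQ
  have hQcard : Nat.card ↥(Q : Subgroup ↥(Cfsg.Sz F m)) = (2 ^ (2 * m + 1)) ^ 2 :=
    Nat.dvd_antisymm h2 h3
  have hQU : (Q : Subgroup ↥(Cfsg.Sz F m)) = szU hF :=
    (Subgroup.eq_of_le_of_card_ge hQ (by rw [hQcard, szU_card hF])).symm
  obtain ⟨g, hg⟩ := MulAction.exists_smul_eq ↥(Cfsg.Sz F m) Q P
  exact ⟨Q, hQU, g, hg⟩

theorem sz_sylow_iso (hm : 1 ≤ m) (hF : Fintype.card F = 2 ^ (2 * m + 1))
    (P : Sylow 2 ↥(Cfsg.Sz F m)) :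
    Nonempty (↥(szU hF) ≃* ↥(P : Subgroup ↥(Cfsg.Sz F m))) := by
  obtain ⟨Q, hQU, g, hg⟩ := sz_sylow_conj hm hF P
  have e1 : ↥(szU hF) ≃* ↥(Q : Subgroup ↥(Cfsg.Sz F m)) := MulEquiv.subgroupCongr hQU.symm
  have e2 : ↥(Q : Subgroup ↥(Cfsg.Sz F m)) ≃*
      ↥((g • Q : Sylow 2 ↥(Cfsg.Sz F m)) : Subgroup ↥(Cfsg.Sz F m)) := Sylow.equivSMul Q g
  subst hg
  exact ⟨e1.trans e2⟩

theorem sz_sylow2 (hm : 1 ≤ m) (hF : Fintype.card F = 2 ^ (2 * m + 1))
    (P : Sylow 2 (Cfsg.Sz F m)) :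
    Nat.card P = (2 ^ (2 * m + 1)) ^ 2 ∧ Monoid.exponent P = 4 ∧
      Subgroup.center P = commutator P ∧ Nat.card (Subgroup.center P) = 2 ^ (2 * m + 1) := by
  obtain ⟨e⟩ := sz_sylow_iso hm hF P
  refine ⟨?_, ?_, ?_, ?_⟩
  · rw [← Nat.card_congr e.toEquiv, szU_card hF]
  · rw [← Monoid.exponent_eq_of_mulEquiv e, szU_exponent hF]
  · rw [← grp_center_map e, ← grp_commutator_map e, szU_comm hm hF]
  · rw [← grp_center_map e, ← Nat.card_congr (Subgroup.equivMapOfInjective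
      (Subgroup.center ↥(szU hF)) e.toMonoidHom e.injective).toEquiv, szU_center_card hm hF]

end SzSylow

end Cfsg.Agent.Helper22
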