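import Cfsg.Agent.Helper22.SzBridge

set_option autoImplicit false
set_option linter.style.haveILetI false
set_option linter.unusedSectionVars false
set_option linter.unusedSimpArgs false
set_option linter.unusedVariables false
set_option linter.unusedTactic false
set_option maxHeartbeats 1000000

open Cfsg
open Matrix
open scoped Pointwise

namespace Cfsg.Agent.Helper22

section SzVecA

variable {F : Type*} [Field F]

theorem ovT_vec (θ : F → F) (a b : F) (v : Fin 4 → F) :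
    ovT θ a b *ᵥ v = ![v 0 + a * v 1 + (b + a * θ a) * v 2 + (a * b + θ a * a ^ 2 + θ b) * v 3,
      v 1 + θ a * v 2 + b * v 3, v 2 + a * v 3, v 3] := by
  funext i
  rw [ov_mv4]
  revert i
  refine ov_fin4 ?_ ?_ ?_ ?_
  · show (1 : F) * v 0 + a * v 1 + (b + a * θ a) * v 2 + (a * b + θ a * a ^ 2 + θ b) * v 3 =
      v 0 + a * v 1 + (b + a * θ a) * v 2 + (a * b + θ a * a ^ 2 + θ b) * v 3
    ring
  · show (0 : F) * v 0 + 1 * v 1 + θ a * v 2 + b * v 3 = v 1 + θ a * v 2 + b * v 3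
    ring
  · show (0 : F) * v 0 + 0 * v 1 + 1 * v 2 + a * v 3 = v 2 + a * v 3
    ring
  · show (0 : F) * v 0 + 0 * v 1 + 0 * v 2 + 1 * v 3 = v 3
    ring

end SzVecA

section SzVec

variable {F : Type*} [Field F] [Fintype F] {m : ℕ}

theorem vec_theta_surj (hF : Fintype.card F = 2 ^ (2 * m + 1)) (t : F) :
    ∃ a : F, szθ F m a = t := by
  have hθ := szθ_spec hF
  have hinj : Function.Injective (szθ F m) := by
    intro a b hab
    have h0 : szθ F m (a + b) = 0 := by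
      rw [hθ.hadd, hab]
      linear_combination (szθ F m b) * hθ.h2
    have h1 := ov_theta_inj0 _ hθ.hadd hθ.hsq h0
    linear_combination h1 - b * hθ.h2
  exact (Finite.injective_iff_surjective.mp hinj) t

omit [Fintype F] in
theorem vec_coe_mul (k₁ k₂ : ↥(Cfsg.Sz F m)) (v : Fin 4 → F) :
    (((k₁ * k₂ : ↥(Cfsg.Sz F m)) : Matrix.SpecialLinearGroup (Fin 4) F) :
      Matrix (Fin 4) (Fin 4) F) *ᵥ v =
    ((k₁ : Matrix.SpecialLinearGroup (Fin 4) F) : Matrix (Fin 4) (Fin 4) F) *ᵥ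
      (((k₂ : Matrix.SpecialLinearGroup (Fin 4) F) : Matrix (Fin 4) (Fin 4) F) *ᵥ v) := by
  rw [Subgroup.coe_mul, Matrix.SpecialLinearGroup.coe_mul, Matrix.mulVec_mulVec]

theorem vec_red_c (hm : 1 ≤ m) (hF : Fintype.card F = 2 ^ (2 * m + 1)) (v : Fin 4 → F)
    (hv : v ≠ 0) (hv3 : v 3 = 0) :
    ∃ k : ↥(Cfsg.Sz F m), ∃ c : F, c ≠ 0 ∧
      (((k : Matrix.SpecialLinearGroup (Fin 4) F) : Matrix (Fin 4) (Fin 4) F) *ᵥ v =
          c • ![1, 0, 0, 0] ∨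
        ((k : Matrix.SpecialLinearGroup (Fin 4) F) : Matrix (Fin 4) (Fin 4) F) *ᵥ v =
          c • ![0, 1, 0, 0]) := by
  have hθ := szθ_spec hF
  by_cases hv2 : v 2 = 0
  · by_cases hv1 : v 1 = 0
    · have h0 : v 0 ≠ 0 := by
        intro h0
        apply hv
        funext i
        revert i
        exact ov_fin4 h0 hv1 hv2 hv3
      refine ⟨1, v 0, h0, Or.inl ?_⟩
      rw [Subgroup.coe_one, Matrix.SpecialLinearGroup.coe_one, Matrix.one_mulVec]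
      funext i
      revert i
      refine ov_fin4 ?_ ?_ ?_ ?_
      · show v 0 = v 0 * 1
        ring
      · show v 1 = v 0 * 0
        rw [hv1]; ring
      · show v 2 = v 0 * 0
        rw [hv2]; ring
      · show v 3 = v 0 * 0
        rw [hv3]; ring
    · refine ⟨szTG hF (v 0 / v 1) 0, v 1, hv1, Or.inr ?_⟩
      show ovT (szθ F m) (v 0 / v 1) 0 *ᵥ v = v 1 • ![0, 1, 0, 0]
      rw [ovT_vec]
      funext i
      revert i
      refine ov_fin4 ?_ ?_ ?_ ?_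
      · show v 0 + v 0 / v 1 * v 1 + (0 + v 0 / v 1 * szθ F m (v 0 / v 1)) * v 2 +
          (v 0 / v 1 * 0 + szθ F m (v 0 / v 1) * (v 0 / v 1) ^ 2 + szθ F m 0) * v 3 = v 1 * 0
        rw [hv2, hv3, div_mul_cancel₀ _ hv1]
        linear_combination (v 0) * hθ.h2
      · show v 1 + szθ F m (v 0 / v 1) * v 2 + 0 * v 3 = v 1 * 1
        rw [hv2]; ring
      · show v 2 + v 0 / v 1 * v 3 = v 1 * 0
        rw [hv2, hv3]; ring
      · show v 3 = v 1 * 0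
        rw [hv3]; ring
  · obtain ⟨a, ha⟩ := vec_theta_surj hF (v 1 / v 2)
    refine ⟨szWG hF * szTG hF a ((v 0 + a * v 1) / v 2 + a * szθ F m a), v 2, hv2, Or.inr ?_⟩
    rw [vec_coe_mul]
    show Cfsg.suzukiForm F *ᵥ
      (ovT (szθ F m) a ((v 0 + a * v 1) / v 2 + a * szθ F m a) *ᵥ v) = v 2 • ![0, 1, 0, 0]
    rw [ovT_vec, ovW_mulVec]
    funext i
    revert i
    refine ov_fin4 ?_ ?_ ?_ ?_
    · show v 3 = v 2 * 0
      rw [hv3]; ring
    · show v 2 + a * v 3 = v 2 * 1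
      rw [hv3]; ring
    · show v 1 + szθ F m a * v 2 + ((v 0 + a * v 1) / v 2 + a * szθ F m a) * v 3 = v 2 * 0
      rw [hv3, ha, div_mul_cancel₀ _ hv2]
      linear_combination (v 1) * hθ.h2
    · show v 0 + a * v 1 + ((v 0 + a * v 1) / v 2 + a * szθ F m a + a * szθ F m a) * v 2 +
        (a * ((v 0 + a * v 1) / v 2 + a * szθ F m a) + szθ F m a * a ^ 2 +
          szθ F m ((v 0 + a * v 1) / v 2 + a * szθ F m a)) * v 3 = v 2 * 0
      rw [hv3]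
      have e : (v 0 + a * v 1) / v 2 * v 2 = v 0 + a * v 1 := div_mul_cancel₀ _ hv2
      linear_combination e + (v 0 + a * v 1 + a * szθ F m a * v 2) * hθ.h2

theorem vec_red_d (hm : 1 ≤ m) (hF : Fintype.card F = 2 ^ (2 * m + 1)) (v : Fin 4 → F)
    (hv3 : v 3 ≠ 0) :
    ∃ k : ↥(Cfsg.Sz F m),
      (((k : Matrix.SpecialLinearGroup (Fin 4) F) : Matrix (Fin 4) (Fin 4) F) *ᵥ v) 3 = 0 := by
  have hθ := szθ_spec hF
  have hθ0 : szθ F m 0 = 0 := ov_theta_zero _ hθ.hadd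
  obtain ⟨a, ha⟩ : ∃ a : F, a * v 3 = v 2 := ⟨v 2 / v 3, div_mul_cancel₀ _ hv3⟩
  obtain ⟨b, hb⟩ : ∃ b : F, b * v 3 = v 1 + szθ F m a * v 2 := ⟨_, div_mul_cancel₀ _ hv3⟩
  obtain ⟨t, ht⟩ : ∃ t : F, t = v 0 + a * v 1 + (b + a * szθ F m a) * v 2 +
      (a * b + szθ F m a * a ^ 2 + szθ F m b) * v 3 := ⟨_, rfl⟩
  by_cases ht0 : t = 0
  · refine ⟨szWG hF * szTG hF a b, ?_⟩
    rw [vec_coe_mul]
    show (Cfsg.suzukiForm F *ᵥ (ovT (szθ F m) a b *ᵥ v)) 3 = 0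
    rw [ovT_vec, ovW_mulVec]
    show v 0 + a * v 1 + (b + a * szθ F m a) * v 2 +
      (a * b + szθ F m a * a ^ 2 + szθ F m b) * v 3 = 0
    rw [← ht]
    exact ht0
  · obtain ⟨b', hb'⟩ := vec_theta_surj hF (v 3 / t)
    have htb : szθ F m b' * t = v 3 := by rw [hb', div_mul_cancel₀ _ ht0]
    have hz1 : v 1 + szθ F m a * v 2 + b * v 3 = 0 := by
      linear_combination hb + (v 1 + szθ F m a * v 2) * hθ.h2
    refine ⟨szWG hF * (szTG hF 0 b' * (szWG hF * szTG hF a b)), ?_⟩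
    rw [vec_coe_mul, vec_coe_mul, vec_coe_mul]
    show (Cfsg.suzukiForm F *ᵥ (ovT (szθ F m) 0 b' *ᵥ (Cfsg.suzukiForm F *ᵥ
      (ovT (szθ F m) a b *ᵥ v)))) 3 = 0
    simp only [ovT_vec, ovW_mulVec]
    show v 3 + 0 * (v 2 + a * v 3) + (b' + 0 * szθ F m 0) * (v 1 + szθ F m a * v 2 + b * v 3) +
      (0 * b' + szθ F m 0 * 0 ^ 2 + szθ F m b') * (v 0 + a * v 1 + (b + a * szθ F m a) * v 2 +
        (a * b + szθ F m a * a ^ 2 + szθ F m b) * v 3) = 0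
    rw [← ht, hθ0]
    linear_combination b' * hz1 + htb + (v 3) * hθ.h2

theorem vec_red (hm : 1 ≤ m) (hF : Fintype.card F = 2 ^ (2 * m + 1)) (v : Fin 4 → F)
    (hv : v ≠ 0) :
    ∃ k : ↥(Cfsg.Sz F m), ∃ c : F, c ≠ 0 ∧
      (((k : Matrix.SpecialLinearGroup (Fin 4) F) : Matrix (Fin 4) (Fin 4) F) *ᵥ v =
          c • ![1, 0, 0, 0] ∨
        ((k : Matrix.SpecialLinearGroup (Fin 4) F) : Matrix (Fin 4) (Fin 4) F) *ᵥ v =
          c • ![0, 1, 0, 0]) := by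
  by_cases hv3 : v 3 = 0
  · exact vec_red_c hm hF v hv hv3
  · obtain ⟨k₁, hk₁⟩ := vec_red_d hm hF v hv3
    have hne : ((k₁ : Matrix.SpecialLinearGroup (Fin 4) F) : Matrix (Fin 4) (Fin 4) F) *ᵥ v ≠
        0 := by
      intro h0
      apply hv
      exact ov_mulVec_inj (k₁ : Matrix.SpecialLinearGroup (Fin 4) F) (x := v) (y := 0)
        (by rw [h0, Matrix.mulVec_zero])
    obtain ⟨k₂, c, hc, h⟩ := vec_red_c hm hF _ hne hk₁
    refine ⟨k₂ * k₁, c, hc, ?_⟩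
    rw [vec_coe_mul]
    exact h

theorem vec_stab0 (hm : 1 ≤ m) (hF : Fintype.card F = 2 ^ (2 * m + 1)) (g : ↥(Cfsg.Sz F m))
    (h : ((g : Matrix.SpecialLinearGroup (Fin 4) F) : Matrix (Fin 4) (Fin 4) F) *ᵥ
      ![1, 0, 0, 0] = ![1, 0, 0, 0]) : g ^ 4 = 1 := by
  have hθ := szθ_spec hF
  have hθsq : ∀ t, szθ F m (t ^ 2) = szθ F m t ^ 2 := fun t => by
    rw [pow_two, hθ.hmul, pow_two]
  rcases sz_bruhat hm hF g with ⟨c, d, δ, rfl⟩ | ⟨x, y, c, d, δ, rfl⟩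
  · rw [vec_coe_mul] at h
    change ovT (szθ F m) c d *ᵥ (ovD (δ : F) ((δ : F) ^ 2 ^ m) *ᵥ ![1, 0, 0, 0]) =
      ![1, 0, 0, 0] at h
    rw [ovD_e0, Matrix.mulVec_smul, ovT_e0] at h
    have h0 := congrFun h 0
    change (δ : F) ^ 2 ^ m * δ * 1 = 1 at h0
    have hκδ : (δ : F) ^ 2 ^ m * δ = 1 := by linear_combination h0
    have hκ2 : ((δ : F) ^ 2 ^ m) ^ 2 = szθ F m δ := szD_aux _
    have h1 : szθ F m δ * (δ : F) ^ 2 = 1 := by
      rw [← hκ2]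
      linear_combination ((δ : F) ^ 2 ^ m * δ + 1) * hκδ
    have h2 : (δ : F) ^ 2 * (szθ F m δ) ^ 2 = 1 := by
      have e := congrArg (szθ F m) h1
      rw [hθ.hmul, hθ.hsq, hθsq, hθ.hone] at e
      exact e
    have hd2 : (δ : F) ^ 2 = 1 := by
      linear_combination (szθ F m δ * (δ : F) ^ 2 + 1) * h1 - (δ : F) ^ 2 * h2
    have hd : (δ : F) = 1 := by
      have e : ((δ : F) - 1) ^ 2 = 0 := by
        linear_combination hd2 - (δ : F) * hθ.h2 + hθ.h2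
      have e' := (pow_eq_zero_iff (n := 2) (by norm_num)).mp e
      linear_combination e'
    have hδ1 : δ = 1 := Units.ext hd
    rw [hδ1, szDG_one, mul_one]
    exact szTG_pow4 hF c d
  · exfalso
    rw [vec_coe_mul, vec_coe_mul, vec_coe_mul] at h
    change ovT (szθ F m) x y *ᵥ (Cfsg.suzukiForm F *ᵥ (ovT (szθ F m) c d *ᵥ
      (ovD (δ : F) ((δ : F) ^ 2 ^ m) *ᵥ ![1, 0, 0, 0]))) = ![1, 0, 0, 0] at h
    rw [ovD_e0, Matrix.mulVec_smul, ovT_e0, Matrix.mulVec_smul, Matrix.mulVec_smul,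
      ovW_mulVec, ovT_vec] at h
    have h3 := congrFun h 3
    change (δ : F) ^ 2 ^ m * δ * 1 = 0 at h3
    have hne : (δ : F) ^ 2 ^ m * δ ≠ 0 := mul_ne_zero (pow_ne_zero _ δ.ne_zero) δ.ne_zero
    exact hne (by linear_combination h3)

theorem vec_stab1 (hm : 1 ≤ m) (hF : Fintype.card F = 2 ^ (2 * m + 1)) (g : ↥(Cfsg.Sz F m))
    (h : ((g : Matrix.SpecialLinearGroup (Fin 4) F) : Matrix (Fin 4) (Fin 4) F) *ᵥ
      ![0, 1, 0, 0] = ![0, 1, 0, 0]) : g ^ 4 = 1 := by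
  have hθ := szθ_spec hF
  rcases sz_bruhat hm hF g with ⟨c, d, δ, rfl⟩ | ⟨x, y, c, d, δ, rfl⟩
  · rw [vec_coe_mul] at h
    change ovT (szθ F m) c d *ᵥ (ovD (δ : F) ((δ : F) ^ 2 ^ m) *ᵥ ![0, 1, 0, 0]) =
      ![0, 1, 0, 0] at h
    rw [ovD_mulVec, ovT_vec] at h
    have h1 := congrFun h 1
    change (δ : F) ^ 2 ^ m * 1 + szθ F m c * (((δ : F) ^ 2 ^ m)⁻¹ * 0) +
      d * (((δ : F) ^ 2 ^ m * δ)⁻¹ * 0) = 1 at h1
    have hκ1 : (δ : F) ^ 2 ^ m = 1 := by linear_combination h1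
    have hθδ : szθ F m δ = 1 := by
      rw [← szD_aux, hκ1]
      ring
    have e0 : szθ F m ((δ : F) + 1) = 0 := by
      rw [hθ.hadd, hθδ, hθ.hone]
      linear_combination hθ.h2
    have e1 := ov_theta_inj0 _ hθ.hadd hθ.hsq e0
    have hd : (δ : F) = 1 := by linear_combination e1 - hθ.h2
    have hδ1 : δ = 1 := Units.ext hd
    rw [hδ1, szDG_one, mul_one]
    exact szTG_pow4 hF c d
  · exfalso
    rw [vec_coe_mul, vec_coe_mul, vec_coe_mul] at h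
    change ovT (szθ F m) x y *ᵥ (Cfsg.suzukiForm F *ᵥ (ovT (szθ F m) c d *ᵥ
      (ovD (δ : F) ((δ : F) ^ 2 ^ m) *ᵥ ![0, 1, 0, 0]))) = ![0, 1, 0, 0] at h
    simp only [ovD_mulVec, ovT_vec, ovW_mulVec] at h
    have h3 := congrFun h 3
    have h2 := congrFun h 2
    change (δ : F) ^ 2 ^ m * δ * 0 + c * ((δ : F) ^ 2 ^ m * 1) +
      (d + c * szθ F m c) * (((δ : F) ^ 2 ^ m)⁻¹ * 0) +
      (c * d + szθ F m c * c ^ 2 + szθ F m d) * (((δ : F) ^ 2 ^ m * δ)⁻¹ * 0) = 0 at h3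
    change ((δ : F) ^ 2 ^ m * 1 + szθ F m c * (((δ : F) ^ 2 ^ m)⁻¹ * 0) +
      d * (((δ : F) ^ 2 ^ m * δ)⁻¹ * 0)) + x * ((δ : F) ^ 2 ^ m * δ * 0 +
      c * ((δ : F) ^ 2 ^ m * 1) + (d + c * szθ F m c) * (((δ : F) ^ 2 ^ m)⁻¹ * 0) +
      (c * d + szθ F m c * c ^ 2 + szθ F m d) * (((δ : F) ^ 2 ^ m * δ)⁻¹ * 0)) = 0 at h2
    have hne : (δ : F) ^ 2 ^ m ≠ 0 := pow_ne_zero _ δ.ne_zero
    exact hne (by linear_combination h2 - x * h3)

/-- An element of the Suzuki group fixing a non-zero vector is a `2`-element. -/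
theorem sz_vec_fix (hm : 1 ≤ m) (hF : Fintype.card F = 2 ^ (2 * m + 1)) (g : ↥(Cfsg.Sz F m))
    (v : Fin 4 → F) (hv : v ≠ 0)
    (hgv : ((g : Matrix.SpecialLinearGroup (Fin 4) F) : Matrix (Fin 4) (Fin 4) F) *ᵥ v = v) :
    g ^ 4 = 1 := by
  obtain ⟨k, c, hc, h⟩ := vec_red hm hF v hv
  have hconj : (((k * g * k⁻¹ : ↥(Cfsg.Sz F m)) : Matrix.SpecialLinearGroup (Fin 4) F) :
      Matrix (Fin 4) (Fin 4) F) *ᵥ
      (((k : Matrix.SpecialLinearGroup (Fin 4) F) : Matrix (Fin 4) (Fin 4) F) *ᵥ v) =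
      ((k : Matrix.SpecialLinearGroup (Fin 4) F) : Matrix (Fin 4) (Fin 4) F) *ᵥ v := by
    rw [← vec_coe_mul, inv_mul_cancel_right, vec_coe_mul, hgv]
  have h4 : (k * g * k⁻¹) ^ 4 = 1 := by
    rcases h with h | h
    · rw [h, Matrix.mulVec_smul] at hconj
      exact vec_stab0 hm hF _ (smul_right_injective _ hc hconj)
    · rw [h, Matrix.mulVec_smul] at hconj
      exact vec_stab1 hm hF _ (smul_right_injective _ hc hconj)
  rw [conj_pow] at h4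
  have h5 := mul_inv_eq_one.mp h4
  exact mul_left_cancel (a := k) (by rw [h5, mul_one])

end SzVec

end Cfsg.Agent.Helper22
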